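import Cfsg.Agent.Classical.TensorF.Big

/-! Unitary factors: the blocks form the whole endomorphism algebra. -/

set_option autoImplicit false
set_option linter.unusedSectionVars false
set_option linter.unusedSimpArgs false
set_option linter.style.haveILetI false

namespace Cfsg.Lib.Classical.TensorF

universe u v w x

variable {F : Type u} [Field F] {σ : F →+* F} {ε : F} {V : Type v} [AddCommGroup V] [Module F V]
  {U : Type w} [AddCommGroup U] [Module F U] {W : Type x} [AddCommGroup W] [Module F W]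
  {SU : RSpace σ 1 U} {SW : RSpace σ 1 W} {SV : RSpace σ ε V}

/-- The map `x ↦ h(x, p) q`. -/
def RSpace.rk (S : RSpace σ ε V) (p q : V) : Module.End F V := (S.lin p).smulRight q

theorem RSpace.rk_apply (S : RSpace σ ε V) (p q x : V) : S.rk p q x = S.h x p • q := rfl

/-- `H` is self-adjoint. -/
def RSpace.SelfAdj (S : RSpace σ ε V) (H : Module.End F V) : Prop := ∀ x y, S.h (H x) y = S.h x (H y)

/-- The conditions on the first space used below. -/
structure URoom (SU : RSpace σ 1 U) : Prop where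
  two : 2 ≤ Module.finrank F U
  iso : ∃ d : U, d ≠ 0 ∧ SU.h d d = 0
  big : (∃ κ : F, σ κ = κ ∧ κ ≠ 0 ∧ κ ≠ 1) ∨ 3 ≤ Module.finrank F U

namespace TSpace

variable {T : TSpace SU SW SV} [FiniteDimensional F U] [FiniteDimensional F W] {G X : Subgroup (V ≃ₗ[F] V)}

theorem inAlg_add {A A' : Module.End F U} (h : T.InAlg X A) (h' : T.InAlg X A') : T.InAlg X (A + A') :=
  fun e w he hee hwe => by
    rw [layer, LinearMap.comp_add]
    exact rel_add (h e w he hee hwe) (h' e w he hee hwe)

theorem inAlg_sub {A A' : Module.End F U} (h : T.InAlg X A) (h' : T.InAlg X A') : T.InAlg X (A - A') :=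
  fun e w he hee hwe => by
    rw [layer, LinearMap.comp_sub]
    exact rel_sub hee (h e w he hee hwe) (h' e w he hee hwe)

theorem inAlg_smul (c : F) {A : Module.End F U} (h : T.InAlg X A) : T.InAlg X (c • A) := fun e w he hee hwe => by
  have := h e (c • w) he hee (by rw [SW.smul_left, hwe, mul_zero])
  convert this using 1
  refine LinearMap.ext fun v => ?_
  show T.τ (c • A v) w = T.τ (A v) (c • w)
  rw [map_smul, LinearMap.smul_apply, map_smul]

theorem inAlg_zero : T.InAlg X (0 : Module.End F U) := fun e w _ _ _ => by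
  rw [layer, LinearMap.comp_zero]
  exact rel_zero

theorem inAlg_sum {κ : Type*} (s : Finset κ) (A : κ → Module.End F U) (h : ∀ i ∈ s, T.InAlg X (A i)) :
    T.InAlg X (∑ i ∈ s, A i) := by
  classical
  induction s using Finset.induction with
  | empty => simpa using inAlg_zero
  | insert a s ha ih =>
    rw [Finset.sum_insert ha]
    exact inAlg_add (h a (Finset.mem_insert_self a s)) (ih fun i hi => h i (Finset.mem_insert_of_mem hi))

theorem exists_rootU (hX : T.Mid G X) {d w : U} (hd : SU.h d d = 0) {l : F} (hr : SU.RootData d w l) :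
    ∃ g ∈ X, ∀ v z, g (T.τ v z) = T.τ (SU.rmap d w l v) z := by
  obtain ⟨g, hg, hk⟩ := T.exists_kron (SU.rmapEquiv hd hr) (LinearEquiv.refl F W)
  refine ⟨g, hX.kronX (T.isom_of_tau fun v z v' z' => ?_)
    (T.unip_of_left (A := SU.rmap d w l) hg fun z => SU.rmap_res hd hr z) hk, hg⟩
  rw [hg, hg, T.form]
  exact congrArg (· * _) (SU.rmap_form hd hr v v')

theorem inAlg_conj (hX : T.Mid G X) {d w : U} (hd : SU.h d d = 0) {l : F} (hr : SU.RootData d w l)
    {A : Module.End F U} (h : T.InAlg X A) :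
    T.InAlg X ((SU.rmap d w l).comp (A.comp (SU.rmap d (-w) (-l - 1 * SU.h w w)))) := fun e y he hee hye => by
  obtain ⟨g, hg, hgv⟩ := exists_rootU hX hd hr
  have := rel_conj hX hg (SU.rmapEquiv hd hr) (fun v w => SU.rmap_form hd hr v w) (e' := e) (fun v => hgv v e)
    (h e y he hee hye)
  convert this using 1
  refine LinearMap.ext fun v => ?_
  exact (hgv _ y).symm

theorem exists_moved_scalar (R : Room SW) : ∃ c : F, c - σ c ≠ 0 := by
  obtain ⟨c, hc⟩ := R.moved
  exact ⟨c, sub_ne_zero.mpr (Ne.symm hc)⟩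

/-- `X` contains the centre with block `C` at every isotropic point. -/
def ZC (T : TSpace SU SW SV) (X : Subgroup (V ≃ₗ[F] V)) (C : Module.End F U) : Prop :=
  ∀ e : W, e ≠ 0 → SW.h e e = 0 → T.Cent X e C

theorem zc_skew (hX : T.Mid G X) (R : Room SW) {A : Module.End F U} (h : T.InAlg X A) (c : F)
    {C : Module.End F U} (hC : ∀ v u, SU.h (C v) u = c * SU.h (A v) u - σ c * SU.h v (A u)) : T.ZC X C := by
  intro e he hee
  obtain ⟨w, d, hw0, hww, hdd, hdw, hwe, hde⟩ := exists_hyp_perp R he hee
  obtain ⟨C', hC', hform⟩ := comm_cent hX he hee (h e (c • d) he hee (by rw [SW.smul_left, hde, mul_zero]))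
    (rel_id hX hee hwe)
  have : C = C' := LinearMap.ext fun v => SU.ext_left fun u => by
    have h1 := hform v u
    rw [one_mul, layer_apply, layer_apply, layer_apply, layer_apply, T.form, T.form, LinearMap.id_apply,
      LinearMap.id_apply, SW.smul_left, SW.smul_right, hdw, SW.symm d w, hdw, map_one, one_mul] at h1
    rw [h1, hC]
    ring
  rwa [this]

theorem inAlg_comp (hX : T.Mid G X) (R : Room SW) {H A : Module.End F U} (hH : T.InAlg X H)
    (hHs : SU.SelfAdj H) (hA : T.InAlg X A) : T.InAlg X (H.comp A) := by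
  obtain ⟨c, hc⟩ := exists_moved_scalar R
  have hZ : T.ZC X ((c - σ c) • H) := zc_skew hX R hH c fun v u => by
    rw [LinearMap.smul_apply, SU.smul_left, ← hHs v u]; ring
  obtain ⟨e, -, he, hee⟩ := R.iso ⊤ (by rw [finrank_top]; have := R.four; omega)
  obtain ⟨w, d, hw0, hww, hdd, hdw, hwe, hde⟩ := exists_hyp_perp R he hee
  obtain ⟨z, hz, hzx⟩ := hZ w hw0 hww
  have hze : ∀ v, z (T.τ v e) = T.τ v e := fun v => by
    rw [hzx, T.cw_tau, SW.swap hwe, zero_smul, map_zero, map_zero, LinearMap.zero_apply, add_zero]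
  have h2 : ∀ b : F, T.Rel X e (T.layer (b • w) (((c - σ c) • H).comp A)) := fun b => by
    have hbd := hA e (b • d) he hee (by rw [SW.smul_left, hde, mul_zero])
    have h1 := rel_sub hee (rel_conj hX hz (LinearEquiv.refl F U) (fun v w => rfl) (e' := e) hze hbd) hbd
    convert h1 using 1
    refine LinearMap.ext fun v => ?_
    show T.τ (((c - σ c) • H) (A v)) (b • w) = z (T.τ (A v) (b • d)) - T.τ (A v) (b • d)
    rw [hzx, T.cw_tau, SW.smul_left, hdw, mul_one, add_sub_cancel_left]
    simp only [map_smul, LinearMap.smul_apply]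
  have h3 := inAlg_smul (c - σ c)⁻¹ (inAlg_of_rel hX R he hee hww hdd hdw hwe hde h2)
  rwa [LinearMap.smul_comp, smul_smul, inv_mul_cancel₀ hc, one_smul] at h3

theorem exists_selfAdj (hX : T.Mid G X) (R : Room SW) [Nontrivial U] (hA : ¬ T.RadScalar X) :
    ∃ H, T.InAlg X H ∧ SU.SelfAdj H ∧ ∀ c : F, H ≠ c • LinearMap.id := by
  obtain ⟨e, he, hee, C, hC, hns⟩ := exists_cent hX R hA
  obtain ⟨f, hf⟩ := SW.exists_one he
  have hskew : ∀ v u, SU.h v (C u) = -SU.h (C v) u := fun v u => by
    obtain ⟨k, hk, hkx⟩ := hC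
    have := hX.isomX hk (T.τ v f) (T.τ u f)
    rw [hkx, hkx, T.cw_tau, T.cw_tau, hf, one_smul, one_smul, SV.add_left, SV.add_right, SV.add_right, T.form,
      T.form, T.form, T.form, hee, hf, SW.symm f e, hf, map_one, one_mul] at this
    linear_combination this
  obtain ⟨c, hc⟩ := exists_moved_scalar R
  refine ⟨(c - σ c) • C, inAlg_smul _ (inAlg_of_cent hX R he hee hC), fun v u => ?_, fun s hs => ?_⟩
  · rw [LinearMap.smul_apply, LinearMap.smul_apply, SU.smul_left, SU.smul_right, hskew, map_sub, SU.invol]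
    ring
  · refine hns ((c - σ c)⁻¹ * s) ?_
    rw [mul_smul, ← hs, smul_smul, inv_mul_cancel₀ hc, one_smul]

theorem eigen_half (hm : ∃ c : F, σ c ≠ c) (hsk : ∃ l : F, l ≠ 0 ∧ σ l + 1 * l = 0) {H : Module.End F U}
    (hHs : SU.SelfAdj H) (hH : ∀ x, SU.h x x = 0 → SU.h (H x) x = 0) {d f : U} (hdd : SU.h d d = 0)
    (hff : SU.h f f = 0) (hfd : SU.h f d = 1) (g : U) (hgd : SU.h g d = 0) (hgf : SU.h g f = 0) :
    SU.h (H g) d = 0 := by
  obtain ⟨l, hl0, hl⟩ := hsk
  have key : ∀ g, SU.h g d = 0 → SU.h g f = 0 → σ (SU.h (H g) d) = SU.h (H g) d := by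
    intro g hgd hgf
    obtain ⟨c₀, hc₀⟩ := SU.split g
    have hiso : ∀ c, c + σ c + SU.h g g = 0 → SU.h (g + f + c • d) (g + f + c • d) = 0 := fun c hc => by
      simp only [SU.add_left, SU.add_right, SU.smul_left, SU.smul_right, hdd, hff, hgd, hgf, SU.swap hgd,
        SU.swap hgf, hfd, SU.symm f d, map_one, one_mul]
      linear_combination hc
    have h1 := hH _ (hiso (-c₀) (by rw [hc₀, map_neg]; ring))
    have h2 := hH _ (hiso (-c₀ + l) (by rw [hc₀, map_add, map_neg]; linear_combination hl))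
    simp only [map_add, map_smul, SU.add_left, SU.add_right, SU.smul_left, SU.smul_right, map_neg] at h1 h2
    have hsym : SU.h (H d) g = σ (SU.h (H g) d) := by rw [hHs d g, SU.symm (H g) d, one_mul]
    have hdf : SU.h (H d) f = SU.h (H f) d := by
      have e1 := hH (d + l • f) (by
        simp only [SU.add_left, SU.add_right, SU.smul_left, SU.smul_right, hdd, hff, hfd, SU.symm f d, map_one,
          one_mul]
        linear_combination hl)
      simp only [map_add, map_smul, SU.add_left, SU.add_right, SU.smul_left, SU.smul_right, hH d hdd, hH f hff] at e1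
      refine mul_left_cancel₀ hl0 ?_
      linear_combination -e1 + SU.h (H d) f * hl
    rw [hH d hdd, hsym, hdf] at h1 h2
    refine mul_left_cancel₀ hl0 ?_
    linear_combination h2 - h1 - (SU.h (H g) d + SU.h (H f) d) * hl
  obtain ⟨c, hc⟩ := hm
  have e1 := key g hgd hgf
  have e2 := key (c • g) (by rw [SU.smul_left, hgd, mul_zero]) (by rw [SU.smul_left, hgf, mul_zero])
  rw [map_smul, SU.smul_left, map_mul, e1] at e2
  exact (mul_eq_zero.mp (by linear_combination e2 : (σ c - c) * SU.h (H g) d = 0)).resolve_left (sub_ne_zero.mpr hc)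

theorem exists_iso_witness (hm : ∃ c : F, σ c ≠ c) (hsk : ∃ l : F, l ≠ 0 ∧ σ l + 1 * l = 0) (RU : URoom SU)
    {H : Module.End F U} (hHs : SU.SelfAdj H) (hns : ∀ c : F, H ≠ c • LinearMap.id) :
    ∃ d, d ≠ 0 ∧ SU.h d d = 0 ∧ SU.h (H d) d ≠ 0 := by
  by_contra hcon
  push Not at hcon
  have hH : ∀ x, SU.h x x = 0 → SU.h (H x) x = 0 := fun x hx => by
    by_cases hx0 : x = 0
    · rw [hx0, map_zero, SU.zero_left]
    · exact hcon x hx0 hx
  obtain ⟨d, hd0, hdd⟩ := RU.iso
  obtain ⟨f, hff, hfd⟩ := SU.exists_partner hd0 hdd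
  obtain ⟨l, hl0, hl⟩ := hsk
  have hdf : SU.h d f = 1 := by rw [SU.symm, hfd, map_one, one_mul]
  have hsym : ∀ x y, SU.h (H x) y = σ (SU.h (H y) x) := fun x y => by rw [hHs x y, SU.symm (H y) x, one_mul]
  set β := SU.h (H f) d with hβ
  have hβσ : σ β = β := by
    rw [hβ, ← hsym d f]
    have e1 := hH (d + l • f) (by
      simp only [SU.add_left, SU.add_right, SU.smul_left, SU.smul_right, hdd, hff, hfd, hdf]
      linear_combination hl)
    simp only [map_add, map_smul, SU.add_left, SU.add_right, SU.smul_left, SU.smul_right, hH d hdd, hH f hff] at e1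
    refine mul_left_cancel₀ hl0 ?_
    linear_combination -e1 + SU.h (H d) f * hl
  set K := H - β • (LinearMap.id : Module.End F U) with hK
  have hKx : ∀ x, K x = H x - β • x := fun x => rfl
  have hKs : SU.SelfAdj K := fun x y => by
    rw [hKx, hKx, SU.sub_left, SU.sub_right, SU.smul_left, SU.smul_right, hHs, hβσ]
  have hKiso : ∀ x, SU.h x x = 0 → SU.h (K x) x = 0 := fun x hx => by
    rw [hKx, SU.sub_left, SU.smul_left, hH x hx, hx, mul_zero, sub_zero]
  have hKdd : SU.h (K d) d = 0 := hKiso d hdd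
  have hKff : SU.h (K f) f = 0 := hKiso f hff
  have hKfd : SU.h (K f) d = 0 := by rw [hKx, SU.sub_left, SU.smul_left, hfd, mul_one, sub_self]
  have hKdf : SU.h (K d) f = 0 := by
    rw [hKs d f, SU.symm (K f) d, hKfd, map_zero, mul_zero]
  have hgd : ∀ g, SU.h g d = 0 → SU.h g f = 0 → SU.h (K g) d = 0 :=
    fun g => eigen_half hm ⟨l, hl0, hl⟩ hKs hKiso hdd hff hfd g
  have hgf : ∀ g, SU.h g d = 0 → SU.h g f = 0 → SU.h (K g) f = 0 :=
    fun g h1 h2 => eigen_half hm ⟨l, hl0, hl⟩ hKs hKiso hff hdd hdf g h2 h1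
  have hswap : ∀ {x y}, SU.h (K x) y = 0 → SU.h (K y) x = 0 := fun {x y} h => by
    rw [hKs y x, SU.symm (K x) y, h, map_zero, mul_zero]
  have hgg : ∀ g, SU.h g d = 0 → SU.h g f = 0 → SU.h (K g) g = 0 := fun g h1 h2 => by
    obtain ⟨c₀, hc₀⟩ := SU.split g
    have h0 := hKiso (g + f + (-c₀) • d) (by
      simp only [SU.add_left, SU.add_right, SU.smul_left, SU.smul_right, hdd, hff, h1, h2, SU.swap h1, SU.swap h2,
        hfd, hdf, map_neg, hc₀]
      ring)
    simp only [map_add, map_smul, SU.add_left, SU.add_right, SU.smul_left, SU.smul_right, hKdd, hKff, hKfd, hKdf,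
      hgd g h1 h2, hgf g h1 h2, hswap (hgd g h1 h2), hswap (hgf g h1 h2)] at h0
    linear_combination h0
  have hgh : ∀ g, SU.h g d = 0 → SU.h g f = 0 → ∀ g', SU.h g' d = 0 → SU.h g' f = 0 → SU.h (K g) g' = 0 := by
    intro g h1 h2 g' h3 h4
    obtain ⟨c, hc⟩ := hm
    have e : ∀ c : F, c * SU.h (K g) g' + σ (c * SU.h (K g) g') = 0 := fun c => by
      have h5 := hgg (c • g + g') (by rw [SU.add_left, SU.smul_left, h1, h3, mul_zero, add_zero])
        (by rw [SU.add_left, SU.smul_left, h2, h4, mul_zero, add_zero])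
      simp only [map_add, map_smul, SU.add_left, SU.add_right, SU.smul_left, SU.smul_right, hgg g h1 h2,
        hgg g' h3 h4] at h5
      rw [map_mul, show σ (SU.h (K g) g') = SU.h (K g') g by rw [hKs g' g, SU.symm (K g) g', one_mul]]
      linear_combination h5
    have e1 := e 1
    have e2 := e c
    rw [one_mul] at e1
    rw [map_mul] at e2
    exact (mul_eq_zero.mp (by linear_combination e2 - σ c * e1 : (c - σ c) * SU.h (K g) g' = 0)).resolve_left
      (sub_ne_zero.mpr (Ne.symm hc))
  refine hns β (LinearMap.ext fun x => ?_)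
  rw [LinearMap.smul_apply, LinearMap.id_apply, ← sub_eq_zero, ← hKx]
  refine SU.nd _ fun y => ?_
  obtain ⟨gx, hx, hx1, hx2⟩ : ∃ g, x = g + SU.h x d • f + SU.h x f • d ∧ SU.h g d = 0 ∧ SU.h g f = 0 := by
    refine ⟨x - SU.h x d • f - SU.h x f • d, by abel, ?_, ?_⟩ <;>
      simp [SU.sub_left, SU.smul_left, hdd, hff, hfd, hdf]
  obtain ⟨gy, hy, hy1, hy2⟩ : ∃ g, y = g + SU.h y d • f + SU.h y f • d ∧ SU.h g d = 0 ∧ SU.h g f = 0 := by
    refine ⟨y - SU.h y d • f - SU.h y f • d, by abel, ?_, ?_⟩ <;>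
      simp [SU.sub_left, SU.smul_left, hdd, hff, hfd, hdf]
  rw [hx, hy]
  simp only [map_add, map_smul, SU.add_left, SU.add_right, SU.smul_left, SU.smul_right, hKdd, hKff, hKfd, hKdf,
    hgd gx hx1 hx2, hgf gx hx1 hx2, hswap (hgd gy hy1 hy2), hswap (hgf gy hy1 hy2), hgh gx hx1 hx2 gy hy1 hy2]
  ring

theorem selfAdj_rk (p : U) : SU.SelfAdj (SU.rk p p) := fun x y => by
  rw [RSpace.rk_apply, RSpace.rk_apply, SU.smul_left, SU.smul_right, SU.symm y p, one_mul, mul_comm]

theorem rk_comp (a b p q : U) : (SU.rk a b).comp (SU.rk p q) = SU.h q a • SU.rk p b :=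
  LinearMap.ext fun x => by
    simp [RSpace.rk_apply, SU.smul_left, smul_smul, mul_comm]

theorem inAlg_conj_tv (hX : T.Mid G X) {d : U} (hd : SU.h d d = 0) {ζ : F} (hζ : σ ζ + 1 * ζ = 0)
    {A : Module.End F U} (h : T.InAlg X A) :
    T.InAlg X ((LinearMap.id + ζ • SU.rk d d).comp (A.comp (LinearMap.id - ζ • SU.rk d d))) := by
  have := inAlg_conj hX hd (w := 0) (l := ζ) ⟨SU.zero_left d, by rw [SU.zero_left, zero_add, hζ]⟩ h
  convert this using 3
  · exact LinearMap.ext fun x => by simp [RSpace.rmap_apply, RSpace.rk_apply, SU.zero_right, smul_smul, mul_comm]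
  · exact LinearMap.ext fun x => by
      simp [RSpace.rmap_apply, RSpace.rk_apply, SU.zero_right, smul_smul, mul_comm, sub_eq_add_neg]

theorem rk_diff {H : Module.End F U} (hHs : SU.SelfAdj H) {d : U} (ζ : F) :
    (LinearMap.id + ζ • SU.rk d d).comp (H.comp (LinearMap.id - ζ • SU.rk d d)) - H =
      ζ • (SU.rk (H d) d - SU.rk d (H d)) - (ζ * ζ * SU.h (H d) d) • SU.rk d d :=
  LinearMap.ext fun x => by
    simp only [LinearMap.sub_apply, LinearMap.comp_apply, LinearMap.add_apply, LinearMap.id_apply,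
      LinearMap.smul_apply, RSpace.rk_apply, map_sub, map_smul, SU.sub_left, SU.smul_left, ← hHs x d]
    module

theorem exists_rk_two (hX : T.Mid G X) (R : Room SW) (RU : URoom SU)
    (hq : ∀ κ : F, σ κ = κ → κ = 0 ∨ κ = 1) {H : Module.End F U} (hH : T.InAlg X H) (hHs : SU.SelfAdj H)
    {d : U} (hd0 : d ≠ 0) (hdd : SU.h d d = 0) (hc : SU.h (H d) d ≠ 0) :
    ∃ z, z ≠ 0 ∧ SU.h z z = 0 ∧ T.InAlg X (SU.rk z z) := by
  have h3 : 3 ≤ Module.finrank F U := RU.big.resolve_left fun ⟨κ, h1, h2, h3⟩ => (hq κ h1).elim h2 h3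
  have hneg : (-1 : F) = 1 := (hq (-1) (by rw [map_neg, map_one])).resolve_left (neg_ne_zero.mpr one_ne_zero)
  have h2 : (1 : F) + 1 = 0 := by linear_combination -hneg
  have hfix : ∀ x, σ (SU.h x x) = SU.h x x := fun x => by
    have := SU.symm x x
    rw [one_mul] at this
    exact this.symm
  have hone : σ (1 : F) + 1 * 1 = 0 := by rw [map_one, one_mul, h2]
  set v := H d with hv
  have hvd : SU.h v d = 1 := by
    refine ((hq _ ?_).resolve_left hc)
    rw [hv]
    have := SU.symm d (H d)
    rw [← hHs d d, one_mul] at this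
    exact this.symm
  have hdv : SU.h d v = 1 := by rw [SU.symm, hvd, map_one, one_mul]
  set P := (LinearMap.id + (1 : F) • SU.rk d d).comp (H.comp (LinearMap.id - (1 : F) • SU.rk d d)) - H with hP
  have hPalg : T.InAlg X P := inAlg_sub (inAlg_conj_tv hX hdd hone hH) hH
  have hPx : ∀ x, P x = (SU.h x v + SU.h x d) • d + SU.h x d • v := fun x => by
    rw [hP, rk_diff hHs]
    simp only [LinearMap.sub_apply, LinearMap.smul_apply, RSpace.rk_apply, ← hv, hvd, one_mul, one_smul]
    linear_combination (norm := module) (-(SU.h x d) • d - SU.h x d • v) * 0 +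
      (-(congrArg (· • (SU.h x d • d + SU.h x d • v)) h2).trans (zero_smul F _))
  have hPs : SU.SelfAdj P := fun x y => by
    rw [hPx, hPx]
    simp only [SU.add_left, SU.add_right, SU.smul_left, SU.smul_right, map_add,
      SU.symm y d, SU.symm y v, one_mul]
    ring
  rcases hq _ (hfix v) with hs | hs
  · refine ⟨d, hd0, hdd, ?_⟩
    have := inAlg_add (inAlg_comp hX R hPalg hPs hPalg) hPalg
    convert this using 1
    refine LinearMap.ext fun x => ?_
    simp only [LinearMap.add_apply, LinearMap.comp_apply, RSpace.rk_apply, hPx, SU.add_left, SU.smul_left, hdv, hdd,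
      hvd, hs]
    linear_combination (norm := module) -(congrArg (· • ((SU.h x v + SU.h x d) • d + SU.h x d • v)) h2).trans
      (zero_smul F _)
  obtain ⟨g', hg'd, hg'v, hg'⟩ : ∃ g, SU.h g d = 0 ∧ SU.h g v = 0 ∧ SU.h g g = 1 := by
    by_contra hcon
    push Not at hcon
    have hz : ∀ g, SU.h g d = 0 → SU.h g v = 0 → SU.h g g = 0 := fun g h1 h2' =>
      (hq _ (hfix g)).resolve_right (hcon g h1 h2')
    obtain ⟨y, hy, hy0⟩ := Submodule.exists_mem_ne_zero_of_ne_bot
      (p := LinearMap.ker ((SU.lin d).prod (SU.lin v))) (by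
        intro h
        have h1 := ((SU.lin d).prod (SU.lin v)).finrank_range_add_finrank_ker
        have h4 := (LinearMap.range ((SU.lin d).prod (SU.lin v))).finrank_le
        rw [Module.finrank_prod, Module.finrank_self] at h4
        rw [h, finrank_bot] at h1
        omega)
    have hy1 : SU.h y d = 0 := congrArg Prod.fst hy
    have hy2 : SU.h y v = 0 := congrArg Prod.snd hy
    obtain ⟨c, hc'⟩ := R.moved
    obtain ⟨a, ha⟩ := SU.exists_one hy0
    set z := a - SU.h a d • v - (SU.h a v - SU.h a d * SU.h v v) • d with hzdef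
    have hz1 : SU.h z d = 0 := by
      rw [hzdef]; simp only [SU.sub_left, SU.smul_left, hvd, hdd]; ring
    have hz2 : SU.h z v = 0 := by
      rw [hzdef]; simp only [SU.sub_left, SU.smul_left, hdv]; ring
    have hzy : SU.h z y = 1 := by
      rw [hzdef]; simp only [SU.sub_left, SU.smul_left, SU.swap hy1, SU.swap hy2, ha]; ring
    have e := hz (c • z + y) (by rw [SU.add_left, SU.smul_left, hz1, hy1, mul_zero, add_zero])
      (by rw [SU.add_left, SU.smul_left, hz2, hy2, mul_zero, add_zero])
    simp only [SU.add_left, SU.add_right, SU.smul_left, SU.smul_right, hz z hz1 hz2, hz y hy1 hy2, hzy,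
      SU.symm z y, map_one, one_mul] at e
    exact hc' (by linear_combination e - c * h2)
  set g := v + g' with hg
  have hgg : SU.h g g = 0 := by
    rw [hg, SU.add_left, SU.add_right, SU.add_right, hs, hg', hg'v, SU.swap hg'v]
    linear_combination h2
  have hgd : SU.h g d = 1 := by rw [hg, SU.add_left, hvd, hg'd, add_zero]
  have hgv : SU.h g v = 1 := by rw [hg, SU.add_left, hs, hg'v, add_zero]
  have hdg : SU.h d g = 1 := by rw [SU.symm, hgd, map_one, one_mul]
  have hvg : SU.h v g = 1 := by rw [SU.symm, hgv, map_one, one_mul]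
  have hvv : T.InAlg X (SU.rk v v) := by
    have hMalg : T.InAlg X ((LinearMap.id + (1 : F) • SU.rk g g).comp
        (P.comp (LinearMap.id + (1 : F) • SU.rk g g))) := by
      have := inAlg_conj_tv hX hgg hone hPalg
      rwa [show LinearMap.id - (1 : F) • SU.rk g g = LinearMap.id + (1 : F) • SU.rk g g by
        rw [sub_eq_add_neg, ← neg_smul, hneg]] at this
    have hTs : SU.SelfAdj (LinearMap.id + (1 : F) • SU.rk g g) := fun x y => by
      simp only [LinearMap.add_apply, LinearMap.id_apply, one_smul, SU.add_left, SU.add_right, selfAdj_rk g x y]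
    have hMs : SU.SelfAdj ((LinearMap.id + (1 : F) • SU.rk g g).comp
        (P.comp (LinearMap.id + (1 : F) • SU.rk g g))) := fun x y => by
      simp only [LinearMap.comp_apply]
      rw [hTs, hPs, hTs]
    have := inAlg_sub (inAlg_comp hX R hPalg hPs (inAlg_comp hX R hMalg hMs hPalg)) hPalg
    convert this using 1
    refine LinearMap.ext fun x => ?_
    simp only [LinearMap.sub_apply, LinearMap.comp_apply, LinearMap.add_apply, LinearMap.id_apply, one_smul,
      RSpace.rk_apply]
    set a := SU.h x v with ha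
    set b := SU.h x d with hb
    have e1 : P x = (a + b) • d + b • v := hPx x
    have e2 : SU.h (P x) g = a := by
      rw [e1, SU.add_left, SU.smul_left, SU.smul_left, hdg, hvg]; linear_combination b * h2
    have e3 : P g = v := by
      rw [hPx, hgd, hgv, h2, zero_smul, one_smul, zero_add]
    have e4 : P v = v := by rw [hPx, hs, hvd, h2, zero_smul, one_smul, zero_add]
    have e5 : P (P x) = P x := by
      rw [e1, hPx]
      simp only [SU.add_left, SU.smul_left, hdd, hdv, hvd, hs]
      linear_combination (norm := module) (congrArg (· • (b • d)) h2).trans (zero_smul F _)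
    rw [e2, map_add P (P x), map_smul, e3, e5, SU.add_left, SU.smul_left, e2, hvg,
      show a + a * 1 = (0 : F) by linear_combination a * h2, zero_smul, add_zero, map_add P (P x), map_smul, e4, e5]
    abel
  obtain ⟨l, hl⟩ := SU.exists_rootData hg'd
  have hl2 : l + σ l + 1 = 0 := by
    have := hl.2
    rw [hg', one_mul] at this
    linear_combination this
  set y := SU.rmap d g' l v with hy
  have hy' : y = v + g' + l • d := by
    rw [hy, RSpace.rmap_apply, hvd, SU.swap hg'v, mul_zero, zero_smul, sub_zero, one_smul, add_assoc]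
  have hyy : SU.h y y = 1 := by
    rw [hy, SU.rmap_form hdd hl, hs]
  have hl1 : 1 + l ≠ 0 := fun h => by
    have h' : l = 1 := by linear_combination h - h2
    rw [h', map_one] at hl2
    exact one_ne_zero (α := F) (by linear_combination hl2 - h2)
  have hyv : SU.h y v = 1 + l := by
    rw [hy', SU.add_left, SU.add_left, SU.smul_left, hs, hg'v, hdv, add_zero, mul_one]
  have hvy : SU.h v y = σ (1 + l) := by rw [SU.symm y v, hyv, one_mul]
  have hyalg : T.InAlg X (SU.rk y y) := by
    have := inAlg_conj hX hdd hl hvv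
    convert this using 1
    refine LinearMap.ext fun x => ?_
    show SU.h x y • y = SU.rmap d g' l (SU.h (SU.rmap d (-g') (-l - 1 * SU.h g' g') x) v • v)
    rw [map_smul]
    congr 1
    conv_rhs => rw [← SU.rmap_form hdd hl, SU.rmap_comp hdd hl (SU.rootData_neg hl), add_neg_cancel, SU.neg_left,
      show l + (-l - 1 * SU.h g' g') - 1 * -SU.h g' g' = 0 by ring, SU.rmap_zero]
  have hyvalg : T.InAlg X (SU.rk y v) := by
    have := inAlg_smul (SU.h y v)⁻¹ (inAlg_comp hX R hvv (selfAdj_rk v) hyalg)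
    rwa [rk_comp, smul_smul, inv_mul_cancel₀ (by rw [hyv]; exact hl1), one_smul] at this
  have hvyalg : T.InAlg X (SU.rk v y) := by
    have := inAlg_smul (SU.h v y)⁻¹ (inAlg_comp hX R hyalg (selfAdj_rk y) hvv)
    rwa [rk_comp, smul_smul, inv_mul_cancel₀ (by rw [hvy]; exact (map_ne_zero σ).mpr hl1), one_smul] at this
  set c := SU.h v y with hc'
  have hyc : SU.h y v = σ c := by rw [hc', SU.symm v y, one_mul]
  have hcc : c * σ c = 1 := by
    refine (hq _ (by rw [map_mul, SU.invol, mul_comm])).resolve_left ?_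
    refine mul_ne_zero ?_ ((map_ne_zero σ).mpr ?_) <;> (rw [hvy]; exact (map_ne_zero σ).mpr hl1)
  refine ⟨v + c • y, fun h => ?_, ?_, ?_⟩
  · have := congrArg (fun x => SU.h x g') h
    simp only [SU.zero_left, SU.add_left, SU.smul_left, hy', SU.swap hg'v, hg', SU.swap hg'd] at this
    refine (mul_ne_zero (by rw [hvy]; exact (map_ne_zero σ).mpr hl1) (one_ne_zero (α := F))) (?_ : c * 1 = 0)
    linear_combination this
  · simp only [SU.add_left, SU.add_right, SU.smul_left, SU.smul_right, hs, hyy, hyc, ← hc']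
    linear_combination h2 + (c * σ c) * h2 + hcc
  · have := inAlg_add (inAlg_add hvv (inAlg_smul c hvyalg)) (inAlg_add (inAlg_smul (σ c) hyvalg)
      (inAlg_smul (σ c * c) hyalg))
    convert this using 1
    refine LinearMap.ext fun x => ?_
    simp only [LinearMap.add_apply, LinearMap.smul_apply, RSpace.rk_apply, SU.add_right, SU.smul_right]
    module

theorem exists_rk (hX : T.Mid G X) (R : Room SW) (RU : URoom SU) (hA : ¬ T.RadScalar X) :
    ∃ z, z ≠ 0 ∧ SU.h z z = 0 ∧ T.InAlg X (SU.rk z z) := by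
  haveI : Nontrivial U := Module.nontrivial_of_finrank_pos (R := F) (by have := RU.two; omega)
  obtain ⟨H, hH, hHs, hns⟩ := exists_selfAdj hX R hA
  obtain ⟨d, hd0, hdd, hc⟩ := exists_iso_witness R.moved R.skew RU hHs hns
  by_cases hq : ∀ κ : F, σ κ = κ → κ = 0 ∨ κ = 1
  · exact exists_rk_two hX R RU hq hH hHs hd0 hdd hc
  push Not at hq
  obtain ⟨κ, hκ, hκ0, hκ1⟩ := hq
  obtain ⟨ζ, hζ0, hζ⟩ := R.skew
  have hΔ : ∀ z, σ z + 1 * z = 0 →
      T.InAlg X (z • (SU.rk (H d) d - SU.rk d (H d)) - (z * z * SU.h (H d) d) • SU.rk d d) := fun z hz => by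
    rw [← rk_diff hHs]
    exact inAlg_sub (inAlg_conj_tv hX hdd hz hH) hH
  have h1 := hΔ ζ hζ
  have h2 := hΔ (κ * ζ) (by rw [map_mul, hκ]; linear_combination κ * hζ)
  refine ⟨d, hd0, hdd, ?_⟩
  have hne : (κ - κ * κ) * (ζ * ζ * SU.h (H d) d) ≠ 0 :=
    mul_ne_zero (by rw [← mul_one_sub]; exact mul_ne_zero hκ0 (sub_ne_zero.mpr (Ne.symm hκ1)))
      (mul_ne_zero (mul_ne_zero hζ0 hζ0) hc)
  have := inAlg_smul ((κ - κ * κ) * (ζ * ζ * SU.h (H d) d))⁻¹ (inAlg_sub h2 (inAlg_smul κ h1))
  convert this using 1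
  rw [eq_inv_smul_iff₀ hne]
  module

theorem inAlg_all (hX : T.Mid G X) (R : Room SW) (RU : URoom SU) (hA : ¬ T.RadScalar X) (A : Module.End F U) :
    T.InAlg X A := by
  obtain ⟨z, hz0, hzz, hz⟩ := exists_rk hX R RU hA
  have hiso : ∀ p, SU.h p p = 0 → T.InAlg X (SU.rk p p) := fun p hp => by
    by_cases hp0 : p = 0
    · rw [hp0]
      convert inAlg_zero (T := T) (X := X) using 1
      exact LinearMap.ext fun x => by simp [RSpace.rk_apply]
    refine SU.transitive R.skew (P := fun p => T.InAlg X (SU.rk p p)) (fun d l x hd hl _ hx => ?_)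
      (fun c x _ hx => ?_) hz0 hp0 hzz hp hz
    · have := inAlg_conj_tv hX hd hl hx
      convert this using 1
      refine LinearMap.ext fun y => ?_
      simp only [LinearMap.comp_apply, LinearMap.add_apply, LinearMap.sub_apply, LinearMap.id_apply,
        LinearMap.smul_apply, RSpace.rk_apply, SU.sub_left, SU.smul_left, SU.add_right, SU.smul_right, map_mul,
        SU.symm x d, one_mul, show σ l = -l by linear_combination hl, smul_add, smul_smul, SU.invol]
      module
    · convert inAlg_smul (σ c * c) hx using 1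
      exact LinearMap.ext fun y => by
        simp only [LinearMap.smul_apply, RSpace.rk_apply, SU.smul_right, smul_smul]
        ring_nf
  have hspan : ∀ x : U, x ∈ Submodule.span F {p : U | SU.h p p = 0} := fun x => by
    obtain ⟨f, hff, hf⟩ := SU.exists_partner hz0 hzz
    have hzf : SU.h z f = 1 := by rw [SU.symm, hf, map_one, one_mul]
    obtain ⟨g, hg, h1, h2⟩ : ∃ g, x = g + SU.h x z • f + SU.h x f • z ∧ SU.h g z = 0 ∧ SU.h g f = 0 := by
      refine ⟨x - SU.h x z • f - SU.h x f • z, by abel, ?_, ?_⟩ <;>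
        simp [SU.sub_left, SU.smul_left, hzz, hff, hf, hzf]
    obtain ⟨c, hc⟩ := SU.split g
    have hzm : z ∈ Submodule.span F {p : U | SU.h p p = 0} := Submodule.subset_span hzz
    have hfm : f ∈ Submodule.span F {p : U | SU.h p p = 0} := Submodule.subset_span hff
    have hm : g + f + (-c) • z ∈ Submodule.span F {p : U | SU.h p p = 0} := Submodule.subset_span (by
      show SU.h _ _ = 0
      simp only [SU.add_left, SU.add_right, SU.smul_left, SU.smul_right, hzz, hff, hf, hzf, h1, h2, SU.swap h1,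
        SU.swap h2, map_neg, hc]
      ring)
    rw [hg, show g = (g + f + (-c) • z) - f + c • z by module]
    exact add_mem (add_mem (add_mem (sub_mem hm hfm) (Submodule.smul_mem _ _ hzm)) (Submodule.smul_mem _ _ hfm))
      (Submodule.smul_mem _ _ hzm)
  have hrk : ∀ p, SU.h p p = 0 → p ≠ 0 → ∀ q, T.InAlg X (SU.rk p q) := fun p hp hp0 => by
    let S : Submodule F U :=
      { carrier := {q | T.InAlg X (SU.rk p q)}
        add_mem' := fun {a b} ha hb => by
          show T.InAlg X _
          convert inAlg_add (T := T) (X := X) ha hb using 1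
          exact LinearMap.ext fun x => by simp [RSpace.rk_apply]
        zero_mem' := by
          show T.InAlg X _
          convert inAlg_zero (T := T) (X := X) using 1
          exact LinearMap.ext fun x => by simp [RSpace.rk_apply]
        smul_mem' := fun c a ha => by
          show T.InAlg X _
          convert inAlg_smul (T := T) (X := X) c ha using 1
          exact LinearMap.ext fun x => by simp [RSpace.rk_apply, smul_smul, mul_comm] }
    have hS : ∀ r, SU.h r r = 0 → r ∈ S := fun r hr => by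
      by_cases hr0 : r = 0
      · rw [hr0]; exact zero_mem S
      refine SU.transitive R.skew (P := fun r => r ∈ S) (fun d l x hd _ _ hx => ?_)
        (fun c x _ hx => S.smul_mem c hx) hp0 hr0 hp hr (hiso p hp)
      have h1 : T.InAlg X (SU.rk p (SU.h x d • d)) := by
        have := inAlg_comp hX R (hiso d hd) (selfAdj_rk d) hx
        convert this using 1
        exact LinearMap.ext fun y => by simp [RSpace.rk_apply, SU.smul_left, smul_smul]
      rw [mul_smul]
      exact add_mem hx (S.smul_mem l h1)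
    intro q
    exact Submodule.span_le.mpr hS (hspan q)
  have hall : ∀ p q, T.InAlg X (SU.rk p q) := fun p q => by
    refine Submodule.span_induction (p := fun p _ => T.InAlg X (SU.rk p q)) (fun r hr => ?_) ?_ ?_ ?_ (hspan p)
    · by_cases hr0 : r = 0
      · rw [hr0]
        convert inAlg_zero (T := T) (X := X) using 1
        exact LinearMap.ext fun x => by simp [RSpace.rk_apply, SU.zero_right]
      · exact hrk r hr hr0 q
    · convert inAlg_zero (T := T) (X := X) using 1
      exact LinearMap.ext fun x => by simp [RSpace.rk_apply, SU.zero_right]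
    · intro a b _ _ ha hb
      convert inAlg_add ha hb using 1
      exact LinearMap.ext fun x => by simp [RSpace.rk_apply, SU.add_right, add_smul]
    · intro c a _ ha
      convert inAlg_smul (σ c) ha using 1
      exact LinearMap.ext fun x => by simp [RSpace.rk_apply, SU.smul_right, smul_smul]
  have hsum : A = ∑ i, SU.rk (SU.dualVec i) (A (Module.finBasis F U i)) := LinearMap.ext fun x => by
    simp only [LinearMap.coe_sum, Finset.sum_apply, RSpace.rk_apply, SU.h_dualVec, Module.Basis.coord_apply]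
    simp only [← map_smul, ← map_sum, (Module.finBasis F U).sum_repr x]
  rw [hsum]
  exact inAlg_sum _ _ fun i _ => hall _ _

end TSpace

end Cfsg.Lib.Classical.TensorF
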