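import Mathlib

/-! Averaging over a group acting unipotently with respect to two opposite filtrations. -/

set_option autoImplicit false
set_option linter.unusedSectionVars false
set_option linter.unusedSimpArgs false
set_option linter.style.haveILetI false

namespace Cfsg.Lib.Classical.TensorF

universe u v

variable {F : Type u} [Field F] {V : Type v} [AddCommGroup V] [Module F V]

/-- The filtration induced on endomorphisms. -/
def endFil (P : ℤ → Submodule F V) (i : ℤ) : Submodule F (Module.End F V) where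
  carrier := {L | ∀ j, ∀ x ∈ P j, L x ∈ P (i + j)}
  add_mem' := fun h h' j x hx => add_mem (h j x hx) (h' j x hx)
  zero_mem' := fun _ _ _ => zero_mem _
  smul_mem' := fun c _ h j x hx => Submodule.smul_mem _ c (h j x hx)

theorem mem_endFil {P : ℤ → Submodule F V} {i : ℤ} {L : Module.End F V} :
    L ∈ endFil P i ↔ ∀ j, ∀ x ∈ P j, L x ∈ P (i + j) := Iff.rfl

theorem endFil_antitone {P : ℤ → Submodule F V} (hP : Antitone P) : Antitone (endFil P) :=
  fun _ _ hab _ hL j x hx => hP (add_le_add_left hab j) (hL j x hx)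

/-- `k` moves every layer into the next one. -/
def Raises (P : ℤ → Submodule F V) (k : V ≃ₗ[F] V) : Prop := ∀ i, ∀ x ∈ P i, k x - x ∈ P (i + 1)

theorem Raises.mem {P : ℤ → Submodule F V} (hP : Antitone P) {k : V ≃ₗ[F] V} (h : Raises P k) {i : ℤ} {x : V}
    (hx : x ∈ P i) : k x ∈ P i := by
  have := add_mem (hP (by omega : i ≤ i + 1) (h i x hx)) hx
  rwa [sub_add_cancel] at this

theorem conj_mul_apply (g h : V ≃ₗ[F] V) (L : Module.End F V) : (g * h).conj L = g.conj (h.conj L) :=
  LinearMap.ext fun _ => rfl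

theorem Raises.conj {P : ℤ → Submodule F V} (hP : Antitone P) {k : V ≃ₗ[F] V} (h : Raises P k) (h' : Raises P k⁻¹) :
    Raises (endFil P) k.conj := by
  intro i L hL j x hx
  set y := (k⁻¹ : V ≃ₗ[F] V) x with hy
  have hyx : y - x ∈ P (j + 1) := h' j x hx
  have hyj : y ∈ P j := h'.mem hP hx
  have h1 := h (i + j) _ (hL j y hyj)
  have h2 := hL (j + 1) _ hyx
  have : (k.conj L - L) x = (k (L y) - L y) + L (y - x) := by
    show k (L y) - L x = _
    rw [map_sub]; abel
  rw [this]
  exact add_mem (hP (by omega) h1) (hP (by omega) h2)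

/-- The powers sum of an element. -/
theorem sum_range_pow {R : Type*} [Ring R] (p : ℕ) [hp : Fact p.Prime] [CharP R p] (a : R) :
    ∑ i ∈ Finset.range p, a ^ i = (a - 1) ^ (p - 1) := by
  have key : (∑ i ∈ Finset.range p, (Polynomial.X : Polynomial (ZMod p)) ^ i) = (Polynomial.X - 1) ^ (p - 1) := by
    refine mul_right_cancel₀ (sub_ne_zero.mpr fun h => ?_ : (Polynomial.X - 1 : Polynomial (ZMod p)) ≠ 0) ?_
    · exact absurd (congrArg Polynomial.natDegree h) (by simp)
    · rw [geom_sum_mul, ← pow_succ, Nat.sub_add_cancel hp.out.one_le, sub_pow_char, one_pow]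
  letI : Algebra (ZMod p) R := ZMod.algebra R p
  have := congrArg (Polynomial.aeval a) key
  simpa [map_sum, map_pow] using this

theorem raise_pow {P : ℤ → Submodule F V} {D : Module.End F V} (hD : ∀ i, ∀ x ∈ P i, D x ∈ P (i + 1)) :
    ∀ (n : ℕ) (i : ℤ), ∀ x ∈ P i, (D ^ n) x ∈ P (i + n)
  | 0, i, x, hx => by simpa using hx
  | n + 1, i, x, hx => by
    rw [pow_succ', Module.End.mul_apply]
    have := hD _ _ (raise_pow hD n i x hx)
    rwa [Nat.cast_succ, ← add_assoc]

/-- The sum over a group of order `p ^ m` raising the filtration raises it by `m (p - 1)`. -/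
theorem sum_raises {H : Type*} [Group H] [Finite H] (p : ℕ) [hp : Fact p.Prime] [CharP F p]
    (ρ : H →* (V ≃ₗ[F] V)) {P : ℤ → Submodule F V} (hP : Antitone P) (hr : ∀ h, Raises P (ρ h)) :
    ∀ (m : ℕ) (K : Subgroup H) [Fintype K], Nat.card K = p ^ m → ∀ i, ∀ x ∈ P i,
      ∑ k : K, ρ (k : H) x ∈ P (i + (m * (p - 1) : ℕ))
  | 0, K, _, hK, i, x, hx => by
    rw [pow_zero] at hK
    rw [Finset.sum_eq_single (1 : K) (fun b _ hb => absurd ((Nat.card_eq_one_iff_unique.mp hK).1.elim b 1) hb)
      (fun h => absurd (Finset.mem_univ _) h)]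
    simpa using hx
  | m + 1, K, _, hK, i, x, hx => by
    classical
    obtain ⟨L₀, hL₀⟩ := Sylow.exists_subgroup_card_pow_prime (G := K) p (n := m)
      (by rw [hK]; exact pow_dvd_pow p (Nat.le_succ m))
    haveI hidx : L₀.index = p := by
      have := L₀.card_mul_index
      rw [hL₀, hK, pow_succ] at this
      exact mul_left_cancel₀ (pow_ne_zero m hp.out.pos.ne') this
    haveI hN : L₀.Normal := by
      refine Subgroup.normal_of_index_eq_minFac_card ?_
      rw [hidx, hK, Nat.Prime.pow_minFac hp.out (Nat.succ_ne_zero m)]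
    obtain ⟨t, ht⟩ : ∃ t : K, t ∉ L₀ := by
      by_contra hc
      push Not at hc
      rw [(Subgroup.eq_top_iff' L₀).mpr hc, Subgroup.index_top] at hidx
      exact hp.out.one_lt.ne hidx
    haveI : Fintype L₀ := Fintype.ofFinite _
    have hcard : Fintype.card (Fin p × L₀) = Fintype.card K := by
      rw [Fintype.card_prod, Fintype.card_fin, ← Nat.card_eq_fintype_card, ← Nat.card_eq_fintype_card, hL₀, hK,
        pow_succ, mul_comm]
    have hbij : Function.Bijective fun a : Fin p × L₀ => t ^ (a.1 : ℕ) * (a.2 : K) := by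
      rw [Fintype.bijective_iff_injective_and_card]
      refine ⟨fun a b hab => ?_, hcard⟩
      have hq : (QuotientGroup.mk t : K ⧸ L₀) ^ (a.1 : ℕ) = (QuotientGroup.mk t : K ⧸ L₀) ^ (b.1 : ℕ) := by
        have := congrArg (QuotientGroup.mk (s := L₀)) hab
        simpa [QuotientGroup.eq_one_iff] using this
      haveI : Finite (K ⧸ L₀) := inferInstance
      have hord : orderOf (QuotientGroup.mk t : K ⧸ L₀) = p := by
        haveI : Fact p.Prime := hp
        refine orderOf_eq_prime ?_ (fun h => ht ((QuotientGroup.eq_one_iff t).mp h))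
        rw [← hidx, Subgroup.index_eq_card]
        exact pow_card_eq_one'
      rw [pow_inj_mod, hord, Nat.mod_eq_of_lt a.1.2, Nat.mod_eq_of_lt b.1.2] at hq
      have h1 : a.1 = b.1 := Fin.ext hq
      refine Prod.ext h1 (Subtype.ext ?_)
      simp only [h1, mul_right_inj] at hab
      exact hab
    rw [← Equiv.sum_comp (Equiv.ofBijective _ hbij) (fun k : K => ρ (k : H) x), Fintype.sum_prod_type]
    simp only [Equiv.ofBijective_apply, Subgroup.coe_mul, SubmonoidClass.coe_pow, map_mul, map_pow,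
      LinearEquiv.mul_apply]
    let D : Module.End F V := (ρ (t : H)).toLinearMap
    have hD : ∀ (n : ℕ) y, ((ρ (t : H)) ^ n) y = (D ^ n) y := by
      intro n
      induction n with
      | zero => intro y; rfl
      | succ n ih => intro y; rw [pow_succ, pow_succ]; exact ih _
    have hsum : (∑ a : Fin p, ∑ l : L₀, ((ρ (t : H)) ^ (a : ℕ)) (ρ ((l : K) : H) x)) =
        (∑ a ∈ Finset.range p, D ^ a) (∑ l : L₀, ρ ((l : K) : H) x) := by
      rw [LinearMap.sum_apply, Finset.sum_range]
      simp only [map_sum, hD]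
    rw [hsum]
    have ih : (∑ l : L₀, ρ ((l : K) : H) x) ∈ P (i + (m * (p - 1) : ℕ)) := by
      haveI : Fintype (L₀.map K.subtype) := Fintype.ofFinite _
      have h' := sum_raises p ρ hP hr m (L₀.map K.subtype)
        (by rw [Subgroup.card_map_of_injective K.subtype_injective, hL₀]) i x hx
      rwa [← Equiv.sum_comp (L₀.equivMapOfInjective K.subtype K.subtype_injective).toEquiv
        (fun k : L₀.map K.subtype => ρ (k : H) x)] at h'
    by_cases hV : ∀ y : V, y = 0
    · convert zero_mem (P (i + ((m + 1) * (p - 1) : ℕ))) using 1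
      exact hV _
    haveI : Nontrivial V := by
      push Not at hV
      obtain ⟨y, hy⟩ := hV
      exact ⟨y, 0, hy⟩
    haveI : CharP (Module.End F V) p := charP_of_injective_algebraMap (FaithfulSMul.algebraMap_injective F _) p
    rw [sum_range_pow p D]
    have h2 := raise_pow (D := D - 1) (fun j y hy => hr (t : H) j y hy) (p - 1) _ _ ih
    convert h2 using 2
    push_cast
    ring

/-- Projections adapted to two opposite filtrations of length two. -/
structure Opp (P Q : ℤ → Submodule F V) where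
  π : Fin 3 → Module.End F V
  sum : ∀ x, ∑ s, π s x = x
  memP : ∀ (s : Fin 3) x, π s x ∈ P ((s : ℕ) : ℤ)
  memQ : ∀ (s : Fin 3) x, π s x ∈ Q (2 - ((s : ℕ) : ℤ))
  killP : ∀ (s : Fin 3) (i : ℤ) x, ((s : ℕ) : ℤ) < i → x ∈ P i → π s x = 0
  killQ : ∀ (s : Fin 3) (j : ℤ) x, 2 - ((s : ℕ) : ℤ) < j → x ∈ Q j → π s x = 0

variable {P Q : ℤ → Submodule F V}

theorem Opp.disjoint (O : Opp P Q) {i j : ℤ} (hij : 2 < i + j) {x : V} (hi : x ∈ P i) (hj : x ∈ Q j) : x = 0 := by
  rw [← O.sum x]
  refine Finset.sum_eq_zero fun s _ => ?_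
  by_cases h : ((s : ℕ) : ℤ) < i
  · exact O.killP s i x h hi
  · exact O.killQ s j x (by omega) hj

theorem Opp.disjoint_end (O : Opp P Q) {i j : ℤ} (hij : 0 < i + j) {L : Module.End F V} (hi : L ∈ endFil P i)
    (hj : L ∈ endFil Q j) : L = 0 := by
  refine LinearMap.ext fun x => ?_
  rw [← O.sum x, map_sum]
  refine (Finset.sum_eq_zero fun s _ => ?_).trans (LinearMap.zero_apply (σ₁₂ := RingHom.id F) _).symm
  exact O.disjoint (by omega) (hi _ _ (O.memP s x)) (hj _ _ (O.memQ s x))

theorem Opp.disjoint_end₂ (O : Opp P Q) (hP : Antitone P) (hQ : Antitone Q) {i j : ℤ} (hij : 0 < i + j)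
    {T : Module.End F (Module.End F V)} (hi : T ∈ endFil (endFil P) i) (hj : T ∈ endFil (endFil Q) j) : T = 0 := by
  refine LinearMap.ext fun L => ?_
  have hL : L = ∑ t, ∑ s, (O.π t).comp (L.comp (O.π s)) := LinearMap.ext fun x => by
    simp only [LinearMap.coe_sum, Finset.sum_apply, LinearMap.comp_apply]
    simp only [← map_sum, O.sum]
  rw [hL, map_sum]
  refine (Finset.sum_eq_zero fun t _ => ?_).trans (LinearMap.zero_apply _).symm
  rw [map_sum]
  refine Finset.sum_eq_zero fun s _ => ?_
  set d : ℤ := ((t : ℕ) : ℤ) - ((s : ℕ) : ℤ) with hd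
  have h1 : (O.π t).comp (L.comp (O.π s)) ∈ endFil P d := fun a x hx => by
    rw [LinearMap.comp_apply, LinearMap.comp_apply]
    by_cases h : ((s : ℕ) : ℤ) < a
    · rw [O.killP s a x h hx, map_zero, map_zero]
      exact zero_mem _
    · exact hP (by omega) (O.memP t _)
  have h2 : (O.π t).comp (L.comp (O.π s)) ∈ endFil Q (-d) := fun a x hx => by
    rw [LinearMap.comp_apply, LinearMap.comp_apply]
    by_cases h : 2 - ((s : ℕ) : ℤ) < a
    · rw [O.killQ s a x h hx, map_zero, map_zero]
      exact zero_mem _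
    · exact hQ (by omega) (O.memQ t _)
  exact O.disjoint_end (by omega) (hi _ _ h1) (hj _ _ h2)

end Cfsg.Lib.Classical.TensorF

namespace Cfsg.Lib.Classical.TensorF

universe u₁ v₁

variable {F : Type u₁} [Field F] {V : Type v₁} [AddCommGroup V] [Module F V]

/-- A sum over a union of regular orbits. -/
theorem sum_orbits {H : Type*} [Group H] {C : Type*} [MulAction H C] [DecidableEq C] (ρ : H →* (V ≃ₗ[F] V))
    (K : Subgroup H) [Fintype K] (f : C → V) (hf : ∀ (k : H) c, f (k • c) = ρ k (f c)) {P : Submodule F V}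
    (hP : ∀ x, ∑ k : K, ρ (k : H) x ∈ P) :
    ∀ s : Finset C, (∀ k : K, ∀ c ∈ s, (k : H) • c ∈ s) → (∀ k : K, ∀ c ∈ s, (k : H) • c = c → k = 1) →
      ∑ c ∈ s, f c ∈ P := by
  intro s
  induction s using Finset.strongInduction with
  | _ s ih =>
    intro hinv hfree
    rcases s.eq_empty_or_nonempty with rfl | ⟨c, hc⟩
    · simp
    have hinj : Function.Injective fun k : K => (k : H) • c := fun k k' h => by
      have : ((k'⁻¹ * k : K) : H) • c = c := by
        rw [Subgroup.coe_mul, mul_smul, show (k : H) • c = (k' : H) • c from h, Subgroup.coe_inv, inv_smul_smul]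
      exact (inv_mul_eq_one.mp (hfree _ c hc this)).symm
    set O := (Finset.univ : Finset K).image fun k : K => (k : H) • c with hO
    have hOs : O ⊆ s := fun x hx => by
      obtain ⟨k, -, rfl⟩ := Finset.mem_image.mp hx
      exact hinv k c hc
    have hcO : c ∈ O := Finset.mem_image.mpr ⟨1, Finset.mem_univ _, one_smul _ _⟩
    rw [← Finset.sum_sdiff hOs]
    refine add_mem (ih _ (Finset.sdiff_ssubset hOs ⟨c, hcO⟩) (fun k x hx => ?_)
      fun k x hx => hfree k x (Finset.mem_sdiff.mp hx).1) ?_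
    · obtain ⟨hxs, hxO⟩ := Finset.mem_sdiff.mp hx
      refine Finset.mem_sdiff.mpr ⟨hinv k x hxs, fun h => hxO ?_⟩
      obtain ⟨k', -, hk'⟩ := Finset.mem_image.mp h
      refine Finset.mem_image.mpr ⟨k⁻¹ * k', Finset.mem_univ _, ?_⟩
      rw [Subgroup.coe_mul, mul_smul, hk', Subgroup.coe_inv, inv_smul_smul]
    · rw [hO, Finset.sum_image hinj.injOn]
      simp only [hf]
      exact hP (f c)

end Cfsg.Lib.Classical.TensorF

namespace Cfsg.Lib.Classical.TensorF

universe u₂ v₂

variable {F : Type u₂} [Field F] {V : Type v₂} [AddCommGroup V] [Module F V]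

/-- `P'` is the filtration `P` of doubled indices. -/
structure Halved (P P' : ℤ → Submodule F V) : Prop where
  even : ∀ i, P (2 * i) = P' i
  odd : ∀ i, P (2 * i - 1) = P' i
  anti : Antitone P

theorem Halved.endFil {P P' : ℤ → Submodule F V} (h : Halved P P') :
    Halved (TensorF.endFil P) (TensorF.endFil P') := by
  refine ⟨fun i => ?_, fun i => ?_, endFil_antitone h.anti⟩ <;> refine le_antisymm (fun L hL j x hx => ?_) fun L hL j x hx => ?_
  · rw [← h.even, show 2 * (i + j) = 2 * i + 2 * j by ring]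
    exact hL _ x (h.even j ▸ hx)
  · obtain ⟨a, rfl⟩ | ⟨a, rfl⟩ := Int.even_or_odd j
    · rw [show 2 * i + (a + a) = 2 * (i + a) by ring, h.even]
      exact hL _ x (by rwa [← h.even, show 2 * a = a + a by ring])
    · rw [show 2 * i + (2 * a + 1) = 2 * (i + (a + 1)) - 1 by ring, h.odd]
      exact hL _ x (by rwa [← h.odd, show 2 * (a + 1) - 1 = 2 * a + 1 by ring])
  · rw [← h.odd, show 2 * (i + j) - 1 = 2 * i - 1 + 2 * j by ring]
    exact hL _ x (h.even j ▸ hx)
  · obtain ⟨a, rfl⟩ | ⟨a, rfl⟩ := Int.even_or_odd j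
    · rw [show 2 * i - 1 + (a + a) = 2 * (i + a) - 1 by ring, h.odd]
      exact hL _ x (by rwa [← h.even, show 2 * a = a + a by ring])
    · rw [show 2 * i - 1 + (2 * a + 1) = 2 * (i + a) by ring, h.even]
      have h1 := hL (a + 1) x (by rwa [← h.odd, show 2 * (a + 1) - 1 = 2 * a + 1 by ring])
      rw [← h.even] at h1 ⊢
      exact h.anti (by omega) h1

end Cfsg.Lib.Classical.TensorF
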