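import Cfsg.Agent.Classical.TensorF.Stab

/-! Radical elements outside the Kronecker products give centres with non-scalar blocks. -/

set_option autoImplicit false
set_option linter.unusedSectionVars false
set_option linter.unusedSimpArgs false
set_option linter.style.haveILetI false

namespace Cfsg.Lib.Classical.TensorF

universe u v w x

variable {F : Type u} [Field F] {σ : F →+* F} {ε ε₁ ε₂ : F} {V : Type v} [AddCommGroup V] [Module F V]
  {U : Type w} [AddCommGroup U] [Module F U] {W : Type x} [AddCommGroup W] [Module F W]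
  {SU : RSpace σ ε₁ U} {SW : RSpace σ ε₂ W} {SV : RSpace σ ε V}

namespace TSpace

variable (T : TSpace SU SW SV) [FiniteDimensional F U] [FiniteDimensional F W]

/-- `k` acts as a radical element with first layer `Y`. -/
structure Acts (e : W) (Y : U →ₗ[F] V) (k : V ≃ₗ[F] V) : Prop where
  fix : ∀ v, k (T.τ v e) = T.τ v e
  act : ∀ x, ∃ c, k x = x + Y (T.cw e x) + T.τ c e

/-- Some element of `X` acts as a radical element with first layer `Y`. -/
def Rel (X : Subgroup (V ≃ₗ[F] V)) (e : W) (Y : U →ₗ[F] V) : Prop :=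
  (∀ v, T.cw e (Y v) = 0) ∧ ∃ k ∈ X, T.Acts e Y k

/-- The layer `A` at `w`. -/
def layer (w : W) (A : Module.End F U) : U →ₗ[F] V := (T.τ.flip w).comp A

theorem layer_apply (w : W) (A : Module.End F U) (v : U) : T.layer w A v = T.τ (A v) w := rfl

/-- `A` occurs as a block everywhere. -/
def InAlg (X : Subgroup (V ≃ₗ[F] V)) (A : Module.End F U) : Prop :=
  ∀ e w : W, e ≠ 0 → SW.h e e = 0 → SW.h w e = 0 → T.Rel X e (T.layer w A)

/-- `X` contains the central radical element with block `C`. -/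
def Cent (X : Subgroup (V ≃ₗ[F] V)) (e : W) (C : Module.End F U) : Prop :=
  ∃ k ∈ X, ∀ x, k x = x + T.τ (C (T.cw e x)) e

variable {T} {G X : Subgroup (V ≃ₗ[F] V)}

theorem rel_zero {e : W} : T.Rel X e 0 :=
  ⟨fun v => by simp, 1, one_mem X, fun _ => rfl, fun x => ⟨0, by simp⟩⟩

theorem rel_add {e : W} {Y Y' : U →ₗ[F] V} (h : T.Rel X e Y) (h' : T.Rel X e Y') : T.Rel X e (Y + Y') := by
  obtain ⟨hp, k, hk, hka⟩ := h
  obtain ⟨hp', k', hk', hka'⟩ := h'
  refine ⟨fun v => by rw [LinearMap.add_apply, map_add, hp, hp', add_zero], k * k', mul_mem hk hk', fun v => ?_,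
    fun x => ?_⟩
  · show k (k' _) = _
    rw [hka'.fix, hka.fix]
  · obtain ⟨c', hc'⟩ := hka'.act x
    obtain ⟨c, hc⟩ := hka.act x
    obtain ⟨d, hd⟩ := hka.act (Y' (T.cw e x))
    refine ⟨c + c' + d, ?_⟩
    show k (k' x) = _
    rw [hc', map_add, map_add, hc, hka.fix, hd, hp', map_zero, map_add, map_add, LinearMap.add_apply,
      LinearMap.add_apply, LinearMap.add_apply]
    abel

theorem rel_sum {e : W} {κ : Type*} (s : Finset κ) (Y : κ → U →ₗ[F] V) (h : ∀ i ∈ s, T.Rel X e (Y i)) :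
    T.Rel X e (∑ i ∈ s, Y i) := by
  classical
  induction s using Finset.induction with
  | empty => simpa using rel_zero
  | insert a s ha ih =>
    rw [Finset.sum_insert ha]
    exact rel_add (h a (Finset.mem_insert_self a s)) (ih fun i hi => h i (Finset.mem_insert_of_mem hi))

theorem rel_neg {e : W} (hee : SW.h e e = 0) {Y : U →ₗ[F] V} (h : T.Rel X e Y) : T.Rel X e (-Y) := by
  obtain ⟨hp, k, hk, hka⟩ := h
  have hfix : ∀ v, (k⁻¹ : V ≃ₗ[F] V) (T.τ v e) = T.τ v e := fun v => by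
    show k.symm _ = _
    rw [LinearEquiv.symm_apply_eq, hka.fix]
  refine ⟨fun v => by rw [LinearMap.neg_apply, map_neg, hp, neg_zero], k⁻¹, inv_mem hk, hfix, fun x => ?_⟩
  set y := (k⁻¹ : V ≃ₗ[F] V) x with hy
  obtain ⟨c, hc⟩ := hka.act y
  rw [hy, show k ((k⁻¹ : V ≃ₗ[F] V) x) = x from k.apply_symm_apply x, ← hy] at hc
  have hcw : T.cw e x = T.cw e y := by
    rw [hc, map_add, map_add, hp, T.cw_tau, hee, zero_smul, add_zero, add_zero]
  refine ⟨-c, ?_⟩
  rw [LinearMap.neg_apply, hcw, map_neg, LinearMap.neg_apply]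
  nth_rewrite 1 [hc]
  abel

theorem rel_sub {e : W} (hee : SW.h e e = 0) {Y Y' : U →ₗ[F] V} (h : T.Rel X e Y) (h' : T.Rel X e Y') :
    T.Rel X e (Y - Y') := by
  rw [sub_eq_add_neg]
  exact rel_add h (rel_neg hee h')

theorem rel_conj (hX : T.Mid G X) {g : V ≃ₗ[F] V} (hg : g ∈ X) (a : U ≃ₗ[F] U)
    (ha : ∀ v w, SU.h (a v) (a w) = SU.h v w) {e e' : W}
    (hge : ∀ v, g (T.τ v e) = T.τ (a v) e') {Y : U →ₗ[F] V} (h : T.Rel X e Y) :
    T.Rel X e' (g.toLinearMap.comp (Y.comp a.symm.toLinearMap)) := by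
  obtain ⟨hp, k, hk, hka⟩ := h
  have hcw := T.cw_map_of_fix (hX.isomX hg) a ha hge
  refine ⟨fun v => ?_, g * k * g⁻¹, mul_mem (mul_mem hg hk) (inv_mem hg), fun v => ?_, fun x => ?_⟩
  · show T.cw e' (g (Y (a.symm v))) = 0
    rw [hcw, hp, map_zero]
  · show g (k (g.symm _)) = _
    conv_lhs => rw [← a.apply_symm_apply v, ← hge, g.symm_apply_apply, hka.fix, hge, a.apply_symm_apply]
  · obtain ⟨c, hc⟩ := hka.act (g.symm x)
    refine ⟨a c, ?_⟩
    show g (k (g.symm x)) = x + g (Y (a.symm (T.cw e' x))) + T.τ (a c) e'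
    conv_rhs => rw [← g.apply_symm_apply x, hcw, a.symm_apply_apply]
    rw [hc, map_add, map_add, hge]

theorem rel_scale {e : W} (c : F) (hc : c ≠ 0) {Y : U →ₗ[F] V} (h : T.Rel X e (σ c • Y)) : T.Rel X (c • e) Y := by
  obtain ⟨hp, k, hk, hka⟩ := h
  refine ⟨fun v => ?_, k, hk, fun v => ?_, fun x => ?_⟩
  · have := hp v
    rw [LinearMap.smul_apply, map_smul, ← T.cw_smul] at this
    exact this
  · rw [map_smul, map_smul, hka.fix]
  · obtain ⟨d, hd⟩ := hka.act x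
    refine ⟨c⁻¹ • d, ?_⟩
    rw [hd, T.cw_smul, map_smul, LinearMap.smul_apply, map_smul, map_smul, LinearMap.smul_apply, smul_smul,
      mul_inv_cancel₀ hc, one_smul]

theorem rel_id (hX : T.Mid G X) {e w : W} (hee : SW.h e e = 0) (hwe : SW.h w e = 0) :
    T.Rel X e (T.layer w LinearMap.id) := by
  obtain ⟨l, hd⟩ := SW.exists_rootData hwe
  obtain ⟨R, hR, -, hRv⟩ := hX.exists_rootX hee hd
  refine ⟨fun v => by rw [layer_apply, T.cw_tau, hwe, zero_smul], R, hR, fun v => by rw [hRv, SW.rmap_self hee hd],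
    fun x => ⟨l • T.cw e x - ε₂ • T.cw w x, ?_⟩⟩
  rw [rootW_act hRv, layer_apply, LinearMap.id_apply]
  simp only [map_add, map_sub, map_smul, LinearMap.sub_apply, LinearMap.smul_apply]
  abel

theorem acts_perp (hX : T.Mid G X) {e : W} (hee : SW.h e e = 0) {Y : U →ₗ[F] V} (hp : ∀ v, T.cw e (Y v) = 0)
    {k : V ≃ₗ[F] V} (hk : k ∈ X) (hka : T.Acts e Y k) {f : W} (hf : SW.h f e = 1) {x c : V} {d : U}
    (hx : T.cw e x = 0) (hc : c = T.τ d e) (hkx : k x = x + c) (u : U) :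
    ε₂ * SU.h d u = -SV.h x (Y u) := by
  subst hc
  obtain ⟨c', hc'⟩ := hka.act (T.τ u f)
  have := hX.isomX hk x (T.τ u f)
  rw [hkx, hc', T.cw_tau, hf, one_smul, SV.add_left, SV.add_right, SV.add_right, SV.add_right, SV.add_right,
    T.form, T.form, hee, SW.symm f e, hf, map_one, mul_one, ← T.h_cw e x c', hx, SU.zero_left,
    SV.symm (Y u) (T.τ d e), ← T.h_cw e (Y u) d, hp, SU.zero_left, map_zero] at this
  linear_combination this

theorem comm_cent (hX : T.Mid G X) {e : W} (he : e ≠ 0) (hee : SW.h e e = 0) {Y₁ Y₂ : U →ₗ[F] V}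
    (h₁ : T.Rel X e Y₁) (h₂ : T.Rel X e Y₂) :
    ∃ C, T.Cent X e C ∧ ∀ v u, ε₂ * SU.h (C v) u = SV.h (Y₁ v) (Y₂ u) - SV.h (Y₂ v) (Y₁ u) := by
  obtain ⟨hp₁, k₁, hk₁, ha₁⟩ := h₁
  obtain ⟨hp₂, k₂, hk₂, ha₂⟩ := h₂
  obtain ⟨f, hf⟩ := SW.exists_one he
  have hef : SW.h e f = ε₂ := by rw [SW.symm, hf, map_one, mul_one]
  let D : V →ₗ[F] V := (k₁ * k₂).toLinearMap - (k₂ * k₁).toLinearMap
  have hD : ∀ x, D x = k₁ (k₂ x) - k₂ (k₁ x) := fun x => rfl
  have hperp : ∀ x, T.cw e x = 0 → D x = 0 := fun x hx => by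
    obtain ⟨c₁, e₁⟩ := ha₁.act x
    obtain ⟨c₂, e₂⟩ := ha₂.act x
    rw [hx, map_zero, add_zero] at e₁ e₂
    rw [hD, e₁, e₂, map_add, map_add, ha₁.fix, ha₂.fix, e₁, e₂]
    abel
  let C : Module.End F U := ε₂ • (T.cw f).comp (D.comp (T.τ.flip f))
  have hDf : ∀ v, ∃ d, D (T.τ v f) = T.τ d e ∧
      ∀ u, ε₂ * SU.h d u = SV.h (Y₁ v) (Y₂ u) - SV.h (Y₂ v) (Y₁ u) := fun v => by
    obtain ⟨c₁, e₁⟩ := ha₁.act (T.τ v f)
    obtain ⟨c₂, e₂⟩ := ha₂.act (T.τ v f)
    rw [T.cw_tau, hf, one_smul] at e₁ e₂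
    obtain ⟨d₁, f₁⟩ := ha₁.act (Y₂ v)
    obtain ⟨d₂, f₂⟩ := ha₂.act (Y₁ v)
    rw [hp₂, map_zero, add_zero] at f₁
    rw [hp₁, map_zero, add_zero] at f₂
    refine ⟨d₁ - d₂, ?_, fun u => ?_⟩
    · rw [hD, e₁, e₂, map_add, map_add, map_add, map_add, e₁, e₂, ha₁.fix, ha₂.fix, f₁, f₂, map_sub,
        LinearMap.sub_apply]
      abel
    · have g₁ := acts_perp hX hee hp₁ hk₁ ha₁ hf (hp₂ v) rfl f₁ u
      have g₂ := acts_perp hX hee hp₂ hk₂ ha₂ hf (hp₁ v) rfl f₂ u
      rw [SU.sub_left]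
      linear_combination g₁ - g₂
  have hC : ∀ v, D (T.τ v f) = T.τ (C v) e := fun v => by
    obtain ⟨d, hd, -⟩ := hDf v
    have : C v = d := by
      show ε₂ • T.cw f (D (T.τ v f)) = d
      rw [hd, T.cw_tau, hef, smul_smul, SW.eps, one_smul]
    rw [this, hd]
  refine ⟨C, ⟨k₁ * k₂ * k₁⁻¹ * k₂⁻¹,
    mul_mem (mul_mem (mul_mem hk₁ hk₂) (inv_mem hk₁)) (inv_mem hk₂), fun x => ?_⟩, fun v u => ?_⟩
  · show k₁ (k₂ (k₁.symm (k₂.symm x))) = _
    set y := k₁.symm (k₂.symm x) with hy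
    have hxy : x = k₂ (k₁ y) := by rw [hy, k₁.apply_symm_apply, k₂.apply_symm_apply]
    have hcw : T.cw e x = T.cw e y := by
      obtain ⟨c₁, e₁⟩ := ha₁.act y
      obtain ⟨c₂, e₂⟩ := ha₂.act (k₁ y)
      rw [hxy, e₂, e₁]
      simp only [map_add, hp₁, hp₂, T.cw_tau, hee, zero_smul, add_zero]
    have h0 := hperp (y - T.τ (T.cw e y) f) (by rw [map_sub, T.cw_tau, hf, one_smul, sub_self])
    rw [map_sub, sub_eq_zero, hC, hD, ← hxy, ← hcw] at h0
    rw [← h0, add_sub_cancel]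
  · obtain ⟨d, hd, hd'⟩ := hDf v
    rw [show C v = d from T.tau_inj_left he ((hC v).symm.trans hd), hd']

theorem cent_conj (hX : T.Mid G X) {g : V ≃ₗ[F] V} (hg : g ∈ X) {e e' : W}
    (hge : ∀ v, g (T.τ v e) = T.τ v e') {C : Module.End F U} (h : T.Cent X e C) : T.Cent X e' C := by
  obtain ⟨k, hk, hkx⟩ := h
  refine ⟨g * k * g⁻¹, mul_mem (mul_mem hg hk) (inv_mem hg), fun x => ?_⟩
  show g (k (g.symm x)) = _
  have hcw := T.cw_map_of_fix (hX.isomX hg) (LinearEquiv.refl F U) (fun v w => rfl) hge (g.symm x)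
  rw [g.apply_symm_apply, LinearEquiv.refl_apply] at hcw
  rw [hkx, map_add, g.apply_symm_apply, hge, hcw]

theorem cent_scale {e : W} (c : F) (hc : c ≠ 0) {C : Module.End F U} (h : T.Cent X e C) :
    T.Cent X (c • e) ((σ c * c)⁻¹ • C) := by
  obtain ⟨k, hk, hkx⟩ := h
  refine ⟨k, hk, fun x => ?_⟩
  have hσ : σ c * c ≠ 0 := mul_ne_zero ((map_ne_zero σ).mpr hc) hc
  rw [hkx, T.cw_smul]
  simp only [LinearMap.smul_apply, map_smul, smul_smul]
  congr 1
  convert (one_smul F (T.τ (C (T.cw e x)) e)).symm using 2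
  field_simp
  rw [div_self ((map_ne_zero σ).mpr hc)]

/-- The conditions on the second space used below. -/
structure Room (SW : RSpace σ ε₂ W) : Prop where
  four : 4 ≤ Module.finrank F W
  skew : ∃ l : F, l ≠ 0 ∧ σ l + ε₂ * l = 0
  moved : ∃ c : F, σ c ≠ c
  iso : ∀ S : Submodule F W, 2 ≤ Module.finrank F S → ∃ x ∈ S, x ≠ 0 ∧ SW.h x x = 0

theorem exists_hyp_perp (R : Room SW) {e : W} (he : e ≠ 0) (hee : SW.h e e = 0) :
    ∃ w d, w ≠ 0 ∧ SW.h w w = 0 ∧ SW.h d d = 0 ∧ SW.h d w = 1 ∧ SW.h w e = 0 ∧ SW.h d e = 0 := by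
  obtain ⟨f, hff, hf⟩ := SW.exists_partner he hee
  have hef : SW.h e f = ε₂ := by rw [SW.symm, hf, map_one, mul_one]
  obtain ⟨w, hw, hw0, hww⟩ := R.iso (LinearMap.ker ((SW.lin e).prod (SW.lin f))) (by
    have h1 := ((SW.lin e).prod (SW.lin f)).finrank_range_add_finrank_ker
    have h4 := (LinearMap.range ((SW.lin e).prod (SW.lin f))).finrank_le
    rw [Module.finrank_prod, Module.finrank_self] at h4
    have := R.four
    omega)
  have hwe : SW.h w e = 0 := congrArg Prod.fst hw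
  have hwf : SW.h w f = 0 := congrArg Prod.snd hw
  obtain ⟨a, ha⟩ := SW.exists_one hw0
  obtain ⟨d₀, h1, h2⟩ : ∃ d₀, SW.h d₀ w = 1 ∧ SW.h d₀ e = 0 := by
    refine ⟨a - SW.h a e • f - (ε₂ * SW.h a f) • e, ?_, ?_⟩
    · rw [SW.sub_left, SW.sub_left, SW.smul_left, SW.smul_left, SW.swap hwe, SW.swap hwf, ha]
      ring
    · rw [SW.sub_left, SW.sub_left, SW.smul_left, SW.smul_left, hee, hf]
      ring
  obtain ⟨c, hc⟩ := SW.split d₀
  refine ⟨w, d₀ - (ε₂ * c) • w, hw0, hww, ?_, by rw [SW.sub_left, SW.smul_left, h1, hww, mul_zero, sub_zero], hwe,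
    by rw [SW.sub_left, SW.smul_left, h2, hwe, mul_zero, sub_zero]⟩
  rw [SW.sub_left, SW.sub_right, SW.sub_right, SW.smul_left, SW.smul_left, SW.smul_right, SW.smul_right, hww,
    SW.symm d₀ w, h1, map_one, hc, map_mul, SW.seps]
  linear_combination (-c) * SW.eps

theorem rel_layer_conj (hX : T.Mid G X) {e : W} (hee : SW.h e e = 0) {A : Module.End F U} {w : W}
    (h : T.Rel X e (T.layer w A)) {g : V ≃ₗ[F] V} (hg : g ∈ X) {B : W →ₗ[F] W}
    (hgv : ∀ v z, g (T.τ v z) = T.τ v (B z)) (hBe : B e = e) : T.Rel X e (T.layer (B w - w) A) := by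
  have h1 := rel_conj hX hg (LinearEquiv.refl F U) (fun v w => rfl) (e' := e)
    (fun v => by rw [hgv, hBe]; rfl) h
  have h2 := rel_sub hee h1 h
  convert h2 using 1
  refine LinearMap.ext fun v => ?_
  show T.τ (A v) (B w - w) = g (T.τ (A v) w) - T.τ (A v) w
  rw [hgv, map_sub]

theorem rel_layer_add {e : W} {A : Module.End F U} {w w' : W} (h : T.Rel X e (T.layer w A))
    (h' : T.Rel X e (T.layer w' A)) : T.Rel X e (T.layer (w + w') A) := by
  have := rel_add h h'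
  convert this using 1
  exact LinearMap.ext fun v => map_add (T.τ (A v)) w w'

theorem rel_layer_sub {e : W} (hee : SW.h e e = 0) {A : Module.End F U} {w w' : W} (h : T.Rel X e (T.layer w A))
    (h' : T.Rel X e (T.layer w' A)) : T.Rel X e (T.layer (w - w') A) := by
  have := rel_sub hee h h'
  convert this using 1
  exact LinearMap.ext fun v => map_sub (T.τ (A v)) w w'

/-- From the layers on an isotropic line to those on its partner's line and everything orthogonal to both. -/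
theorem spread_half (hX : T.Mid G X) (R : Room SW) {e w d : W} (hee : SW.h e e = 0)
    (hdd : SW.h d d = 0) (hdw : SW.h d w = 1) (hde : SW.h d e = 0)
    {A : Module.End F U} (h : ∀ c : F, T.Rel X e (T.layer (c • w) A)) :
    (∀ c : F, T.Rel X e (T.layer (c • d) A)) ∧
      ∀ g, SW.h g e = 0 → SW.h g d = 0 → SW.h g w = 0 → T.Rel X e (T.layer g A) := by
  have hwd : SW.h w d = ε₂ := by rw [SW.symm, hdw, map_one, mul_one]
  have key : ∀ (c : F) g l, SW.h g e = 0 → SW.h g w = 0 → SW.RootData d g l →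
      T.Rel X e (T.layer ((c * ε₂) • (g + l • d)) A) := by
    intro c g l hge hgw hd
    obtain ⟨r, hr, -, hrv⟩ := hX.exists_rootX hdd hd
    have := rel_layer_conj hX hee (h c) hr hrv (by
      rw [SW.rmap_apply, SW.swap hde, SW.swap hge]; simp)
    rwa [SW.rmap_apply, SW.smul_left, SW.smul_left, hwd, SW.swap hgw, mul_zero, mul_zero, zero_smul, sub_zero,
      add_sub_cancel_left] at this
  have hd : ∀ c : F, T.Rel X e (T.layer (c • d) A) := fun c => by
    obtain ⟨l, hl0, hl⟩ := R.skew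
    have := key (c * l⁻¹ * ε₂) 0 l (SW.zero_left e) (SW.zero_left w)
      ⟨SW.zero_left d, by rw [SW.zero_left, zero_add, hl]⟩
    rw [zero_add, smul_smul] at this
    convert this using 3
    rw [mul_assoc (c * l⁻¹) ε₂ ε₂, SW.eps, mul_one, mul_assoc, inv_mul_cancel₀ hl0, mul_one]
  refine ⟨hd, fun g hge hgd hgw => ?_⟩
  obtain ⟨l, hl⟩ := SW.exists_rootData (w := g) (e := d) hgd
  have := rel_layer_sub hee (key ε₂ g l hge hgw hl) (hd l)
  convert this using 2
  rw [SW.eps, one_smul, add_sub_cancel_right]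

theorem inAlg_of_rel (hX : T.Mid G X) (R : Room SW) {e w d : W} (he : e ≠ 0) (hee : SW.h e e = 0)
    (hww : SW.h w w = 0) (hdd : SW.h d d = 0) (hdw : SW.h d w = 1) (hwe : SW.h w e = 0) (hde : SW.h d e = 0)
    {A : Module.End F U} (h : ∀ c : F, T.Rel X e (T.layer (c • w) A)) : T.InAlg X A := by
  have hwd : SW.h w d = ε₂ := by rw [SW.symm, hdw, map_one, mul_one]
  obtain ⟨h1, h1'⟩ := spread_half hX R hee hdd hdw hde h
  obtain ⟨h2, -⟩ := spread_half hX R hee (w := d) (d := ε₂ • w)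
    (by rw [SW.smul_left, SW.smul_right, hww, mul_zero, mul_zero]) (by rw [SW.smul_left, hwd, SW.eps])
    (by rw [SW.smul_left, hwe, mul_zero]) h1
  have hall : ∀ y, SW.h y e = 0 → T.Rel X e (T.layer y A) := fun y hy => by
    set g := y - SW.h y w • d - (ε₂ * SW.h y d) • w with hg
    have h3 := h1' g (by rw [hg]; simp only [SW.sub_left, SW.smul_left, hy, hde, hwe]; ring)
      (by
        rw [hg]; simp only [SW.sub_left, SW.smul_left, hdd, hwd]
        linear_combination (-SW.h y d) * SW.eps)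
      (by rw [hg]; simp only [SW.sub_left, SW.smul_left, hdw, hww]; ring)
    have h4 := rel_layer_add (rel_layer_add h3 (h1 (SW.h y w))) (h2 (SW.h y d))
    convert h4 using 2
    rw [hg, smul_smul, mul_comm (SW.h y d) ε₂]
    abel
  intro e' w' he' hee' hwe'
  refine SW.transitive R.skew (P := fun e' => ∀ y, SW.h y e' = 0 → T.Rel X e' (T.layer y A))
    (fun p l x hp hl _ hx y hy => ?_) (fun c x hc hx y hy => ?_) he he' hee hee' hall w' hwe'
  · obtain ⟨t, htX, -, ht⟩ := hX.exists_tW hp hl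
    have h0 : SW.h (y - (l * SW.h y p) • p) x = 0 := by
      rw [SW.add_right, SW.smul_right] at hy
      rw [SW.sub_left, SW.smul_left, SW.symm x p]
      rw [map_mul, show σ l = -(ε₂ * l) by linear_combination hl] at hy
      linear_combination hy
    have := rel_conj hX htX (LinearEquiv.refl F U) (fun v w => rfl) (e' := x + (l * SW.h x p) • p)
      (fun v => by rw [ht]; rfl) (hx _ h0)
    convert this using 1
    refine LinearMap.ext fun v => ?_
    show T.τ (A v) y = t (T.τ (A v) _)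
    rw [ht, SW.sub_left, SW.smul_left, hp, mul_zero, sub_zero, sub_add_cancel]
  · refine rel_scale c hc ?_
    have h0 : SW.h (σ c • y) x = 0 := by rw [SW.smul_left, ← SW.smul_right, hy]
    convert hx _ h0 using 1
    exact LinearMap.ext fun v => (map_smul (T.τ (A v)) _ _).symm

theorem inAlg_of_cent (hX : T.Mid G X) (R : Room SW) {e₀ : W} (he₀ : e₀ ≠ 0) (hee₀ : SW.h e₀ e₀ = 0)
    {C : Module.End F U} (h : T.Cent X e₀ C) : T.InAlg X C := by
  obtain ⟨w, d, hw0, hww, hdd, hdw, hwe, hde⟩ := exists_hyp_perp R he₀ hee₀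
  obtain ⟨μ, hμ, hC⟩ : ∃ μ : F, μ ≠ 0 ∧ T.Cent X w (μ • C) := by
    refine SW.transitive R.skew (P := fun x => ∃ μ : F, μ ≠ 0 ∧ T.Cent X x (μ • C))
      (fun p l x hp hl _ hx => ?_) (fun c x hc hx => ?_) he₀ hw0 hee₀ hww ⟨1, one_ne_zero, by simpa using h⟩
    · obtain ⟨μ, hμ, hC⟩ := hx
      obtain ⟨t, htX, -, ht⟩ := hX.exists_tW hp hl
      exact ⟨μ, hμ, cent_conj hX htX (fun v => ht v x) hC⟩
    · obtain ⟨μ, hμ, hC⟩ := hx
      refine ⟨(σ c * c)⁻¹ * μ, mul_ne_zero (inv_ne_zero (mul_ne_zero ((map_ne_zero σ).mpr hc) hc)) hμ, ?_⟩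
      simpa [smul_smul] using cent_scale c hc hC
  obtain ⟨z, hz, hzx⟩ := hC
  have hze : ∀ v, z (T.τ v e₀) = T.τ v e₀ := fun v => by
    rw [hzx, T.cw_tau, SW.swap hwe, zero_smul, map_zero, map_zero, LinearMap.zero_apply, add_zero]
  have h2 : ∀ c : F, T.Rel X e₀ (T.layer (c • w) (μ • C)) := fun c => by
    have hce : SW.h (c • d) e₀ = 0 := by rw [SW.smul_left, hde, mul_zero]
    have h1 := rel_sub hee₀ (rel_conj hX hz (LinearEquiv.refl F U) (fun v w => rfl) (e' := e₀) hze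
      (rel_id hX hee₀ hce)) (rel_id hX hee₀ hce)
    convert h1 using 1
    refine LinearMap.ext fun v => ?_
    show T.τ ((μ • C) v) (c • w) = z (T.τ v (c • d)) - T.τ v (c • d)
    rw [hzx, T.cw_tau, SW.smul_left, hdw, mul_one, add_sub_cancel_left]
    simp only [map_smul, LinearMap.smul_apply]
  have h3 := inAlg_of_rel hX R he₀ hee₀ hww hdd hdw hwe hde h2
  intro e' w' he' hee' hwe'
  have := h3 e' (μ⁻¹ • w') he' hee' (by rw [SW.smul_left, hwe', mul_zero])
  convert this using 1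
  refine LinearMap.ext fun v => ?_
  show T.τ (C v) w' = T.τ (μ • C v) (μ⁻¹ • w')
  rw [map_smul T.τ, LinearMap.smul_apply, map_smul, smul_smul, mul_inv_cancel₀ hμ, one_smul]

theorem exists_cent_of_layers (hX : T.Mid G X) [Nontrivial U] (hA : ¬ T.RadScalar X)
    (hlayers : ∀ e : W, e ≠ 0 → SW.h e e = 0 → ∀ Y : U →ₗ[F] V, T.Rel X e Y →
      (∀ C, T.Cent X e C → ∃ c : F, C = c • LinearMap.id) →
      ∀ w, SW.h e w = 0 → ∃ κ : F, (T.cw w).comp Y = κ • LinearMap.id) :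
    ∃ e, e ≠ 0 ∧ SW.h e e = 0 ∧ ∃ C, T.Cent X e C ∧ ∀ c : F, C ≠ c • LinearMap.id := by
  unfold RadScalar at hA
  push Not at hA
  obtain ⟨e, he, hee, k, hk, hrad, hnk⟩ := hA
  refine ⟨e, he, hee, ?_⟩
  obtain ⟨f, hf⟩ := SW.exists_one he
  have hef : SW.h e f = ε₂ := by rw [SW.symm, hf, map_one, mul_one]
  let Y : U →ₗ[F] V := (res k).comp (T.τ.flip f)
  have hp : ∀ v, T.cw e (Y v) = 0 := fun v => by
    show T.cw e (k (T.τ v f) - T.τ v f) = 0
    rw [map_sub, T.cw_map_of_fix (hX.isomX hk) (LinearEquiv.refl F U) (fun v w => rfl) hrad.fix,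
      LinearEquiv.refl_apply, sub_self]
  have hact : T.Acts e Y k := by
    refine ⟨hrad.fix, fun x => ?_⟩
    obtain ⟨c, hc⟩ := hrad.perp (x - T.τ (T.cw e x) f) (by rw [map_sub, T.cw_tau, hf, one_smul, sub_self])
    refine ⟨c, ?_⟩
    rw [map_sub, sub_eq_iff_eq_add] at hc
    show k x = x + (k (T.τ (T.cw e x) f) - T.τ (T.cw e x) f) + T.τ c e
    rw [hc]
    abel
  by_contra hcon
  push Not at hcon
  have hscal := hlayers e he hee Y ⟨hp, k, hk, hact⟩ hcon
  obtain ⟨u₀, hu₀⟩ := exists_ne (0 : U)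
  obtain ⟨d₀, hd₀⟩ : ∃ d, SU.h u₀ d = 1 := by
    obtain ⟨v, hv⟩ := SU.exists_one hu₀
    exact ⟨ε₁ • v, by rw [SU.smul_right, SU.symm v, hv, map_one, mul_one, SU.seps, SU.eps]⟩
  set y := T.cv d₀ (Y u₀) with hy
  have hYy : ∀ v, ∃ c, Y v = T.τ v y + T.τ c e := fun v => by
    obtain ⟨c, hc⟩ := T.mem_line he (x := Y v - T.τ v y) fun w hw => by
      obtain ⟨κ, hκ⟩ := hscal w hw
      have hcv : ∀ v, T.cw w (Y v) = κ • v := fun v => DFunLike.congr_fun hκ v
      rw [map_sub, T.cw_tau, hcv, hy, T.cv_cw, hcv, SU.smul_left, hd₀, mul_one, sub_self]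
    exact ⟨c, by rw [← hc, add_sub_cancel]⟩
  have hye : SW.h y e = 0 := by rw [hy, T.cv_cw, hp, SU.zero_left]
  obtain ⟨l, hd⟩ := SW.exists_rootData hye
  obtain ⟨r, hr, hrk, hrv⟩ := hX.exists_rootX hee hd
  set kc := r⁻¹ * k with hkc
  have hkcX : kc ∈ X := mul_mem (inv_mem hr) hk
  have hrfix : ∀ v, r (T.τ v e) = T.τ v e := fun v => by rw [hrv, SW.rmap_self hee hd]
  have hkca : T.Acts e 0 kc := by
    refine ⟨fun v => ?_, fun x => ?_⟩
    · show r.symm (k _) = _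
      rw [hrad.fix, LinearEquiv.symm_apply_eq, hrfix]
    · obtain ⟨c, hc⟩ := hact.act x
      obtain ⟨c', hc'⟩ := hYy (T.cw e x)
      refine ⟨c + c' - l • T.cw e x + ε₂ • T.cw y x, r.injective ?_⟩
      show r (r.symm (k x)) = _
      rw [r.apply_symm_apply, hc, hc', LinearMap.zero_apply, add_zero, map_add, hrfix, rootW_act hrv]
      simp only [map_add, map_sub, map_smul, LinearMap.add_apply, LinearMap.sub_apply, LinearMap.smul_apply]
      abel
  let C : Module.End F U := ε₂ • (T.cw f).comp ((res kc).comp (T.τ.flip f))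
  have hform : ∀ x, kc x = x + T.τ (C (T.cw e x)) e := by
    intro x
    set x' := x - T.τ (T.cw e x) f with hx'
    have hx0 : T.cw e x' = 0 := by rw [hx', map_sub, T.cw_tau, hf, one_smul, sub_self]
    obtain ⟨c, hc⟩ := hkca.act x'
    rw [LinearMap.zero_apply, add_zero] at hc
    have hc0 : c = 0 := SU.nd c fun u => by
      have := acts_perp hX hee (fun v => by simp) hkcX hkca hf hx0 rfl hc u
      rw [LinearMap.zero_apply, SV.zero_right, neg_zero] at this
      exact (mul_eq_zero.mp this).resolve_left SW.eps_ne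
    rw [hc0, map_zero, LinearMap.zero_apply, add_zero] at hc
    obtain ⟨c', hc'⟩ := hkca.act (T.τ (T.cw e x) f)
    rw [LinearMap.zero_apply, add_zero] at hc'
    have hC : C (T.cw e x) = c' := by
      show ε₂ • T.cw f (kc (T.τ (T.cw e x) f) - T.τ (T.cw e x) f) = c'
      rw [hc', add_sub_cancel_left, T.cw_tau, hef, smul_smul, SW.eps, one_smul]
    rw [hC, show x = x' + T.τ (T.cw e x) f by rw [hx', sub_add_cancel], map_add, hc, hc']
    abel
  obtain ⟨s, hs⟩ := hcon C ⟨kc, hkcX, hform⟩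
  refine hnk ?_
  have hkk : T.IsKron kc := ⟨LinearMap.id, LinearMap.id + s • (SW.lin e).smulRight e, fun v z => by
    rw [hform, hs, T.cw_tau]
    simp [RSpace.lin_apply, smul_smul, mul_comm]⟩
  have := IsKron.mul T hrk hkk
  rwa [hkc, mul_inv_cancel_left] at this

theorem exists_cent (hX : T.Mid G X) (R : Room SW) [Nontrivial U] (hA : ¬ T.RadScalar X) :
    ∃ e, e ≠ 0 ∧ SW.h e e = 0 ∧ ∃ C, T.Cent X e C ∧ ∀ c : F, C ≠ c • LinearMap.id := by
  refine exists_cent_of_layers hX hA fun e he hee Y hY hcon => ?_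
  obtain ⟨hp, k, hk, hact⟩ := hY
  intro w hew
  obtain ⟨c, hc⟩ := R.moved
  have hwe := SW.swap hew
  obtain ⟨C₁, hC₁, e₁⟩ := comm_cent hX he hee ⟨hp, k, hk, hact⟩ (rel_id hX hee hwe)
  obtain ⟨C₂, hC₂, e₂⟩ := comm_cent hX he hee ⟨hp, k, hk, hact⟩
    (rel_id hX hee (w := c • w) (by rw [SW.smul_left, hwe, mul_zero]))
  obtain ⟨s₁, rfl⟩ := hcon C₁ hC₁
  obtain ⟨s₂, rfl⟩ := hcon C₂ hC₂
  refine ⟨(σ c - c)⁻¹ * (ε₂ * (s₂ - c * s₁)), LinearMap.ext fun v => SU.ext_left fun u => ?_⟩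
  have hne : σ c - c ≠ 0 := sub_ne_zero.mpr hc
  have q₁ := e₁ v u
  have q₂ := e₂ v u
  simp only [LinearMap.smul_apply, LinearMap.id_apply, layer_apply, map_smul, SV.smul_left, SV.smul_right,
    SU.smul_left, SU.smul_right] at q₁ q₂
  rw [LinearMap.comp_apply, T.h_cw, LinearMap.smul_apply, LinearMap.id_apply, SU.smul_left]
  field_simp
  linear_combination c * q₁ - q₂

end TSpace

end Cfsg.Lib.Classical.TensorF
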