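import Cfsg.Agent.Classical.TensorF.Alg

/-! All transvections follow from the full block algebra. -/

set_option autoImplicit false
set_option linter.unusedSectionVars false
set_option linter.unusedSimpArgs false
set_option linter.style.haveILetI false

namespace Cfsg.Lib.Classical.TensorF

universe u v w x

variable {F : Type u} [Field F] {σ : F →+* F} {V : Type v} [AddCommGroup V] [Module F V]
  {U : Type w} [AddCommGroup U] [Module F U] {W : Type x} [AddCommGroup W] [Module F W]
  {SU : RSpace σ 1 U} {SW : RSpace σ 1 W} {SV : RSpace σ 1 V}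

namespace TSpace

variable {T : TSpace SU SW SV} [FiniteDimensional F U] [FiniteDimensional F W] {G X : Subgroup (V ≃ₗ[F] V)}

theorem mem_span_iso (R : Room SW) (z : W) : z ∈ Submodule.span F {p : W | SW.h p p = 0} := by
  obtain ⟨e, -, he, hee⟩ := R.iso ⊤ (by rw [finrank_top]; have := R.four; omega)
  obtain ⟨f, hff, hf⟩ := SW.exists_partner he hee
  have hef : SW.h e f = 1 := by rw [SW.symm, hf, map_one, one_mul]
  obtain ⟨g, hg, h1, h2⟩ : ∃ g, z = g + SW.h z e • f + SW.h z f • e ∧ SW.h g e = 0 ∧ SW.h g f = 0 := by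
    refine ⟨z - SW.h z e • f - SW.h z f • e, by abel, ?_, ?_⟩ <;>
      simp [SW.sub_left, SW.smul_left, hee, hff, hf, hef]
  obtain ⟨c, hc⟩ := SW.split g
  have hem : e ∈ Submodule.span F {p : W | SW.h p p = 0} := Submodule.subset_span hee
  have hfm : f ∈ Submodule.span F {p : W | SW.h p p = 0} := Submodule.subset_span hff
  have hm : g + f + (-c) • e ∈ Submodule.span F {p : W | SW.h p p = 0} := Submodule.subset_span (by
    show SW.h _ _ = 0
    simp only [SW.add_left, SW.add_right, SW.smul_left, SW.smul_right, hee, hff, hf, hef, h1, h2, SW.swap h1,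
      SW.swap h2, map_neg, hc]
    ring)
  rw [hg, show g = (g + f + (-c) • e) - f + c • e by module]
  exact add_mem (add_mem (add_mem (sub_mem hm hfm) (Submodule.smul_mem _ _ hem)) (Submodule.smul_mem _ _ hfm))
    (Submodule.smul_mem _ _ hem)

theorem transv_pure (hX : T.Mid G X) (R : Room SW) (RU : URoom SU) (hA : ¬ T.RadScalar X) (u : U) {e : W}
    (he : e ≠ 0) (hee : SW.h e e = 0) {l : F} (hl : σ l + l = 0) :
    ∃ g ∈ X, ∀ x, g x = x + (l * SV.h x (T.τ u e)) • T.τ u e := by
  obtain ⟨c, hc⟩ := exists_moved_scalar R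
  have hσ : σ (l / (c - σ c)) = l / (c - σ c) := by
    rw [map_div₀, map_sub, SU.invol, show σ l = -l by linear_combination hl, ← neg_sub c (σ c), neg_div_neg_eq]
  have hz := zc_skew hX R (inAlg_all hX R RU hA (SU.rk u u)) (l / (c - σ c) * c) (C := l • SU.rk u u) fun v w => by
    rw [← selfAdj_rk u v w, LinearMap.smul_apply, SU.smul_left, map_mul, hσ]
    field_simp
  obtain ⟨k, hk, hkx⟩ := hz e he hee
  refine ⟨k, hk, fun x => ?_⟩
  rw [hkx, LinearMap.smul_apply, RSpace.rk_apply, smul_smul, T.h_cw, map_smul, LinearMap.smul_apply]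

theorem transv_mem (hX : T.Mid G X) (R : Room SW) (RU : URoom SU) (hA : ¬ T.RadScalar X) {y : V}
    (hy : SV.h y y = 0) {l : F} (hl : σ l + l = 0) : ∃ g ∈ X, ∀ x, g x = x + (l * SV.h x y) • y := by
  by_cases hy0 : y = 0
  · exact ⟨1, one_mem X, fun x => by rw [hy0]; simp⟩
  obtain ⟨f, hff, hf0, hu0⟩ : ∃ f, SW.h f f = 0 ∧ f ≠ 0 ∧ T.cw f y ≠ 0 := by
    by_contra hc
    push Not at hc
    refine hy0 (T.ext_left fun v z => ?_)
    rw [SV.zero_left, ← T.h_cw]
    have hz : T.cw z y = 0 := by
      refine Submodule.span_induction (p := fun z _ => T.cw z y = 0) (fun r hr => ?_) ?_ ?_ ?_ (mem_span_iso R z)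
      · by_cases hr0 : r = 0
        · rw [hr0, show (0 : W) = (0 : F) • (0 : W) by simp, T.cw_smul, map_zero, zero_smul]
        · exact hc r hr hr0
      · rw [show (0 : W) = (0 : F) • (0 : W) by simp, T.cw_smul, map_zero, zero_smul]
      · intro a b _ _ ha hb; rw [T.cw_add, ha, hb, add_zero]
      · intro c a _ ha; rw [T.cw_smul, ha, smul_zero]
    rw [hz, SU.zero_left]
  set u := T.cw f y with hu
  obtain ⟨e, hee, hef⟩ := SW.exists_partner hf0 hff
  have he0 : e ≠ 0 := fun h => by rw [h, SW.zero_left] at hef; exact zero_ne_one hef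
  have hfe : SW.h f e = 1 := by rw [SW.symm, hef, map_one, one_mul]
  set c := T.cw e y with hc
  set m := y - T.τ u e - T.τ c f with hm
  obtain ⟨u', hu'⟩ := SU.exists_one hu0
  have huu' : SU.h u u' = 1 := by rw [SU.symm, hu', map_one, one_mul]
  let pw : W →ₗ[F] W := LinearMap.id - (SW.lin f).smulRight e - (SW.lin e).smulRight f
  have hpw : ∀ z, SW.h (pw z) f = 0 := fun z => by
    show SW.h (z - SW.h z f • e - SW.h z e • f) f = 0
    rw [SW.sub_left, SW.sub_left, SW.smul_left, SW.smul_left, hff, hef]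
    ring
  have hmap : T.map LinearMap.id pw = LinearMap.id - (T.τ.flip e).comp (T.cw f) - (T.τ.flip f).comp (T.cw e) :=
    T.ext fun v z => by
      simp [T.map_tau, T.cw_tau, pw, RSpace.lin_apply]
  have hmm : T.map LinearMap.id pw y = m := by
    rw [hmap]; rfl
  let Y : U →ₗ[F] V := ∑ i, T.layer (pw (Module.finBasis F W i)) (SU.rk u' (T.cw (SW.dualVec i) y))
  have hY : T.Rel X f Y := rel_sum _ _ fun i _ => inAlg_all hX R RU hA _ f _ hf0 hff (hpw _)
  have hYu : Y u = m := by
    rw [← hmm]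
    simp only [Y, TSpace.map, LinearMap.coe_sum, Finset.sum_apply, layer_apply, RSpace.rk_apply, huu', one_smul,
      LinearMap.comp_apply, LinearMap.flip_apply, LinearMap.id_apply]
  obtain ⟨hp, k, hk, hka⟩ := hY
  obtain ⟨c', hc'⟩ := hka.act (T.τ u e)
  rw [T.cw_tau, hef, one_smul, hYu] at hc'
  set δ := c - c' with hδ
  have hyk : y = k (T.τ u e) + T.τ δ f := by
    rw [hc', hδ, hm, map_sub, LinearMap.sub_apply]; abel
  have hcwk : T.cw f (k (T.τ u e)) = u := by
    rw [hc', map_add, map_add, T.cw_tau, T.cw_tau, hef, hff, one_smul, zero_smul, add_zero, ← hYu, hp, add_zero]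
  have hδ0 : SU.h u δ + SU.h δ u = 0 := by
    have h0 : SV.h (k (T.τ u e)) (k (T.τ u e)) = 0 := by rw [hX.isomX hk, T.form, hee, mul_zero]
    have h1 := hy
    rw [hyk, SV.add_left, SV.add_right, SV.add_right, h0, T.form, hff, SV.symm (k (T.τ u e)) (T.τ δ f), ← T.h_cw,
      hcwk] at h1
    rw [SU.symm u δ, one_mul]
    linear_combination h1
  obtain ⟨t, ht⟩ := exists_moved_scalar R
  set s := t / (t - σ t) with hs
  have hσs : σ s = 1 - s := by
    rw [hs, map_div₀, map_sub, SU.invol, ← neg_sub t (σ t), div_neg]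
    field_simp
    ring
  set α := SU.h u δ with hα
  set C : Module.End F U := SU.rk u' δ - SU.rk δ u' + α • SU.rk u' u' with hC
  have hCu : C u = δ := by
    simp only [hC, LinearMap.add_apply, LinearMap.sub_apply, LinearMap.smul_apply, RSpace.rk_apply, huu', one_smul,
      ← hα, sub_add_cancel]
  have hz : T.ZC X C := by
    refine zc_skew hX R (inAlg_all hX R RU hA (SU.rk u' δ + (α * s) • SU.rk u' u')) 1 fun v w => ?_
    have hσα : σ α = -α := by
      rw [hα]
      rw [SU.symm u δ, one_mul] at hδ0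
      linear_combination hδ0
    simp only [hC, LinearMap.add_apply, LinearMap.sub_apply, LinearMap.smul_apply, RSpace.rk_apply, SU.add_left,
      SU.sub_left, SU.smul_left, SU.add_right, SU.smul_right, map_one, one_mul, map_mul, hσα, hσs, SU.symm w u']
    ring
  obtain ⟨z, hzX, hzx⟩ := hz f hf0 hff
  obtain ⟨g, hg, hgx⟩ := transv_pure hX R RU hA u he0 hee hl
  refine ⟨z * k * g * (z * k)⁻¹, mul_mem (mul_mem (mul_mem hzX hk) hg) (inv_mem (mul_mem hzX hk)), fun x => ?_⟩
  set h := z * k with hh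
  have hhy : h (T.τ u e) = y := by
    show z (k _) = y
    rw [hzx, hcwk, hCu, ← hyk]
  show h (g (h.symm x)) = _
  rw [hgx, map_add, map_smul, h.apply_symm_apply, hhy, ← hX.isomX (mul_mem hzX hk), h.apply_symm_apply, hhy]

end TSpace

end Cfsg.Lib.Classical.TensorF
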