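import Cfsg.Agent.Classical.TensorF.Scalar

/-! Averaging the partial trace over the cosets of the Kronecker products. -/

set_option autoImplicit false
set_option linter.unusedSectionVars false
set_option linter.unusedSimpArgs false
set_option linter.style.haveILetI false

namespace Cfsg.Lib.Classical.TensorF

open Cfsg.Lib.Classical.TensorQ (Rooted)

universe u v w x

variable {F : Type u} [Field F] {σ : F →+* F} {ε ε₁ ε₂ : F} {V : Type v} [AddCommGroup V] [Module F V]
  {U : Type w} [AddCommGroup U] [Module F U] {W : Type x} [AddCommGroup W] [Module F W]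
  {SU : RSpace σ ε₁ U} {SW : RSpace σ ε₂ W} {SV : RSpace σ ε V}

namespace TSpace

variable {T : TSpace SU SW SV} [FiniteDimensional F U] [FiniteDimensional F W] [FiniteDimensional F V] [Finite F]
  {G X : Subgroup (V ≃ₗ[F] V)}

/-- The Kronecker products in `X`. -/
def kronIn (T : TSpace SU SW SV) [Nontrivial U] [Nontrivial W] (X : Subgroup (V ≃ₗ[F] V)) :
    Subgroup (V ≃ₗ[F] V) where
  carrier := {g | g ∈ X ∧ T.IsKron g}
  one_mem' := ⟨one_mem X, T.isKron_one⟩
  mul_mem' {_ _} hg hh := ⟨mul_mem hg.1 hh.1, IsKron.mul T hg.2 hh.2⟩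
  inv_mem' {_} hg := ⟨inv_mem hg.1, IsKron.inv T hg.2⟩

/-- The filtration at `e`. -/
noncomputable def fil (T : TSpace SU SW SV) (e : W) (i : ℤ) : Submodule F V :=
  if i ≤ 0 then ⊤ else if i = 1 then LinearMap.ker (T.cw e) else if i = 2 then LinearMap.range (T.τ.flip e) else ⊥

theorem fil_antitone {e : W} (he : SW.h e e = 0) : Antitone (T.fil e) := by
  intro a b hab
  have h21 : LinearMap.range (T.τ.flip e) ≤ LinearMap.ker (T.cw e) := by
    rintro _ ⟨c, rfl⟩
    rw [LinearMap.mem_ker, LinearMap.flip_apply, T.cw_tau, he, zero_smul]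
  unfold fil
  by_cases ha0 : a ≤ 0
  · rw [if_pos ha0]
    exact le_top
  rw [if_neg ha0, if_neg (by omega : ¬ b ≤ 0)]
  by_cases hb1 : b = 1
  · rw [if_pos hb1, if_pos (by omega : a = 1)]
  rw [if_neg hb1]
  by_cases hb2 : b = 2
  · rw [if_pos hb2]
    by_cases ha1 : a = 1
    · rw [if_pos ha1]
      exact h21
    · rw [if_neg ha1, if_pos (by omega : a = 2)]
  rw [if_neg hb2]
  exact bot_le

theorem fil_high (e : W) {i : ℤ} (hi : 3 ≤ i) : T.fil e i = ⊥ := by
  rw [fil, if_neg (by omega), if_neg (by omega), if_neg (by omega)]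

theorem fil_low (e : W) {i : ℤ} (hi : i ≤ 0) : T.fil e i = ⊤ := by rw [fil, if_pos hi]

theorem mem_fil_one {e : W} {x : V} : x ∈ T.fil e 1 ↔ T.cw e x = 0 := by
  rw [fil, if_neg (by omega), if_pos rfl, LinearMap.mem_ker]

theorem mem_fil_two {e : W} {x : V} : x ∈ T.fil e 2 ↔ ∃ c, T.τ c e = x := by
  rw [fil, if_neg (by omega), if_neg (by omega), if_pos rfl]
  exact Iff.rfl

theorem radK_raises {e : W} {he : SW.h e e = 0} {k : V ≃ₗ[F] V} (hk : k ∈ T.radK e he) : Raises (T.fil e) k := by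
  obtain ⟨w, l, hd, hv⟩ := hk
  intro i x hx
  have hkx : k x - x = T.τ (T.cw e x) (w + l • e) - ε₂ • T.τ (T.cw w x) e := by
    rw [rootW_act hv]; abel
  rcases lt_trichotomy i 0 with hi | rfl | hi
  · rw [T.fil_low e (by omega)]
    exact Submodule.mem_top
  · rw [zero_add, mem_fil_one, hkx, map_sub, map_smul, T.cw_tau, T.cw_tau, he, SW.add_left, SW.smul_left, hd.1, he]
    simp
  · rcases lt_trichotomy i 2 with hi2 | rfl | hi2
    · obtain rfl : i = 1 := by omega
      rw [mem_fil_one] at hx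
      refine mem_fil_two.mpr ⟨-(ε₂ • T.cw w x), ?_⟩
      rw [hkx, hx, map_neg, map_smul, map_zero, LinearMap.zero_apply, zero_sub, LinearMap.neg_apply,
        LinearMap.smul_apply]
    · obtain ⟨c, rfl⟩ := mem_fil_two.mp hx
      rw [hv, SW.rmap_self he hd, sub_self]
      exact zero_mem _
    · rw [T.fil_high e (by omega), Submodule.mem_bot] at hx
      rw [hx, map_zero, sub_zero]
      exact zero_mem _

theorem endFil_fil_low (e : W) {i : ℤ} (hi : i ≤ -2) (L : Module.End F V) : L ∈ endFil (T.fil e) i := by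
  intro j x hx
  by_cases hj : j ≤ 2
  · rw [T.fil_low e (by omega)]
    exact Submodule.mem_top
  · rw [T.fil_high e (by omega), Submodule.mem_bot] at hx
    rw [hx, map_zero]
    exact zero_mem _

theorem endFil_endFil_low (e : W) {i : ℤ} (hi : i ≤ -4) (L : Module.End F (Module.End F V)) :
    L ∈ endFil (endFil (T.fil e)) i := by
  intro j x hx
  by_cases hj : j ≤ 2
  · exact T.endFil_fil_low e (by omega) _
  · have hx0 : x = 0 := LinearMap.ext fun y => by
      have := hx 0 y (by rw [T.fil_low e le_rfl]; exact Submodule.mem_top)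
      rwa [T.fil_high e (by omega), Submodule.mem_bot] at this
    rw [hx0, map_zero]
    exact zero_mem _

/-- The filtration at an isotropic vector of a plane has only one step. -/
noncomputable def fil₂ (T : TSpace SU SW SV) (e : W) (i : ℤ) : Submodule F V := T.fil e (2 * i)

theorem fil₂_low (e : W) {i : ℤ} (hi : i ≤ 0) : T.fil₂ e i = ⊤ := T.fil_low e (by omega)

theorem fil₂_high (e : W) {i : ℤ} (hi : 2 ≤ i) : T.fil₂ e i = ⊥ := T.fil_high e (by omega)

theorem fil_halved {e : W} (he0 : e ≠ 0) (he : SW.h e e = 0) (hW : Module.finrank F W = 2) :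
    Halved (T.fil e) (T.fil₂ e) := by
  refine ⟨fun i => rfl, fun i => ?_, T.fil_antitone he⟩
  rcases lt_trichotomy i 1 with hi | rfl | hi
  · rw [fil₂, T.fil_low e (by omega), T.fil_low e (by omega)]
  · refine le_antisymm (fun x hx => ?_) (T.fil_antitone he (by omega))
    rw [fil₂, mul_one, mem_fil_two]
    have hx' : T.cw e x = 0 := mem_fil_one.mp hx
    obtain ⟨f, hf⟩ := SW.exists_one he0
    refine ⟨ε₂ • T.cw f x, ?_⟩
    have hker : ∀ z, SW.h z e = 0 → ∃ c : F, z = c • e := by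
      intro z hz
      by_contra hc
      push Not at hc
      have hli : LinearIndependent F ![e, z] := LinearIndependent.pair_iff.mpr fun a b hab => by
        by_cases hb : b = 0
        · subst hb
          simp only [zero_smul, add_zero, smul_eq_zero] at hab
          exact ⟨hab.resolve_right he0, rfl⟩
        · refine absurd ?_ (hc (-(b⁻¹ * a)))
          have := congrArg (fun y => b⁻¹ • y) hab
          simp only [smul_add, smul_zero, smul_smul, inv_mul_cancel₀ hb, one_smul] at this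
          rw [neg_smul]
          exact eq_neg_of_add_eq_zero_right this
      have htop : Submodule.span F (Set.range ![e, z]) = ⊤ :=
        Submodule.eq_top_of_finrank_eq (by rw [finrank_span_eq_card hli, hW, Fintype.card_fin])
      have hfe : f ∈ Submodule.span F (Set.range ![e, z]) := htop ▸ Submodule.mem_top
      rw [Matrix.range_cons_cons_empty, Submodule.mem_span_pair] at hfe
      obtain ⟨a, b, hab⟩ := hfe
      rw [← hab, SW.add_left, SW.smul_left, SW.smul_left, he, hz, mul_zero, mul_zero, add_zero] at hf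
      exact zero_ne_one hf
    have hef : SW.h e f = ε₂ := by rw [SW.symm, hf, map_one, mul_one]
    refine (T.ext_left fun v z => ?_).symm
    obtain ⟨c, hc⟩ := hker (z - SW.h z e • f) (by rw [SW.sub_left, SW.smul_left, hf, mul_one, sub_self])
    have hz' : z = c • e + SW.h z e • f := by rw [← hc]; abel
    have he1 : SV.h x (T.τ v e) = 0 := by rw [← T.h_cw, hx', SU.zero_left]
    rw [T.form, SU.smul_left, SW.symm z e]
    conv_lhs => rw [hz']
    rw [map_add, map_smul, map_smul, SV.add_right, SV.smul_right, SV.smul_right, he1, mul_zero, zero_add,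
      ← T.h_cw]
    linear_combination -(σ (SW.h z e) * SU.h (T.cw f x) v) * SW.eps
  · rw [fil₂, T.fil_high e (by omega), T.fil_high e (by omega)]

theorem radK_raises₂ {e : W} (he0 : e ≠ 0) {he : SW.h e e = 0} (hW : Module.finrank F W = 2) {k : V ≃ₗ[F] V}
    (hk : k ∈ T.radK e he) : Raises (T.fil₂ e) k := by
  intro i x hx
  rcases lt_trichotomy i 0 with hi | rfl | hi
  · rw [T.fil₂_low e (by omega)]
    exact Submodule.mem_top
  · rw [← (fil_halved he0 he hW).odd]
    exact radK_raises hk 0 x hx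
  · rw [fil₂] at hx ⊢
    have hh := radK_raises hk _ x hx
    rw [T.fil_high e (show (3 : ℤ) ≤ 2 * i + 1 by omega), Submodule.mem_bot] at hh
    rw [hh]
    exact zero_mem _

theorem endFil_fil₂_low (e : W) {i : ℤ} (hi : i ≤ -1) (L : Module.End F V) : L ∈ endFil (T.fil₂ e) i := by
  intro j x hx
  by_cases hj : j ≤ 1
  · rw [T.fil₂_low e (by omega)]
    exact Submodule.mem_top
  · rw [T.fil₂_high e (by omega), Submodule.mem_bot] at hx
    rw [hx, map_zero]
    exact zero_mem _

theorem endFil_endFil₂_low (e : W) {i : ℤ} (hi : i ≤ -2) (L : Module.End F (Module.End F V)) :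
    L ∈ endFil (endFil (T.fil₂ e)) i := by
  intro j x hx
  by_cases hj : j ≤ 1
  · exact T.endFil_fil₂_low e (by omega) _
  · have hx0 : x = 0 := LinearMap.ext fun y => by
      have := hx 0 y (by rw [T.fil₂_low e le_rfl]; exact Submodule.mem_top)
      rwa [T.fil₂_high e (by omega), Submodule.mem_bot] at this
    rw [hx0, map_zero]
    exact zero_mem _

/-- The projections for two opposite isotropic vectors. -/
noncomputable def oppFil {e f : W} (he : SW.h e e = 0) (hf : SW.h f e = 1) (hff : SW.h f f = 0) :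
    Opp (T.fil e) (T.fil f) where
  π := ![(T.τ.flip f).comp (T.cw e), LinearMap.id - (T.τ.flip f).comp (T.cw e) - ε₂ • (T.τ.flip e).comp (T.cw f),
    ε₂ • (T.τ.flip e).comp (T.cw f)]
  sum x := by
    rw [Fin.sum_univ_three]
    simp
    abel
  memP s x := by
    have hef : SW.h e f = ε₂ := by rw [SW.symm, hf, map_one, mul_one]
    fin_cases s
    · rw [T.fil_low e (by simp)]
      exact Submodule.mem_top
    · refine mem_fil_one.mpr ?_
      simp [T.cw_tau, he, hf]
    · refine mem_fil_two.mpr ⟨ε₂ • T.cw f x, ?_⟩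
      simp
  memQ s x := by
    have hef : SW.h e f = ε₂ := by rw [SW.symm, hf, map_one, mul_one]
    fin_cases s
    · exact mem_fil_two.mpr ⟨_, rfl⟩
    · refine mem_fil_one.mpr ?_
      simp [T.cw_tau, hff, hef, smul_smul, SW.eps]
    · rw [T.fil_low f (by simp)]
      exact Submodule.mem_top
  killP s i x hsi hx := by
    have hef : SW.h e f = ε₂ := by rw [SW.symm, hf, map_one, mul_one]
    have h1 : x ∈ T.fil e 1 := T.fil_antitone he (by omega) hx
    rw [mem_fil_one] at h1
    fin_cases s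
    · simp [h1]
    · obtain ⟨c, rfl⟩ : ∃ c, T.τ c e = x := mem_fil_two.mp (T.fil_antitone he (by simp at hsi; omega) hx)
      simp [T.cw_tau, he, hef, smul_smul, SW.eps]
    · rw [T.fil_high e (by simp at hsi; omega), Submodule.mem_bot] at hx
      simp [hx]
  killQ s j x hsj hx := by
    have hef : SW.h e f = ε₂ := by rw [SW.symm, hf, map_one, mul_one]
    have h1 : x ∈ T.fil f 1 := T.fil_antitone hff (by omega) hx
    rw [mem_fil_one] at h1
    fin_cases s
    · rw [T.fil_high f (by simp at hsj; omega), Submodule.mem_bot] at hx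
      simp [hx]
    · obtain ⟨c, rfl⟩ : ∃ c, T.τ c f = x := mem_fil_two.mp (T.fil_antitone hff (by simp at hsj; omega) hx)
      simp [T.cw_tau, hf, hff]
    · simp [h1]

section

variable [Nontrivial U] [Nontrivial W]

theorem far_mem (D : Data T) (hX : T.Mid G X) (hA : T.RadScalar X) (p : ℕ) [Fact p.Prime] [CharP F p] [Finite V]
    {g : V ≃ₗ[F] V} (hg : g ∈ X) {e l : W} (he : e ≠ 0) (hee : SW.h e e = 0) (hl : l ≠ 0) (hll : SW.h l l = 0)
    (hgl : ∀ v u, SV.h (g (T.τ v e)) (T.τ u l) = 0) : g ∈ T.kronIn X := by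
  have hR := rooted D hX hA p (T.kronIn X) fun _ => Iff.rfl
  obtain ⟨z, hz0, hz⟩ := D.skew
  obtain ⟨t, htX, -, ht⟩ := hX.exists_tW hee hz
  have htR : T.IsRootT X t := ⟨htX, e, z, he, hee, hz0, hz, ht⟩
  set s := g * t * g⁻¹ with hs
  have hsX : s ∈ X := mul_mem (mul_mem hg htX) (inv_mem hg)
  have hsk : T.IsKron s := by
    refine kron_of_stab (Or.inr D.skew) hX hA hl hll hsX fun u => ⟨u, ?_⟩
    have h0 : T.cw e (g.symm (T.τ u l)) = 0 := SU.nd _ fun v => by
      rw [T.h_cw, ← hX.isomX hg, g.apply_symm_apply]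
      exact SV.swap (hgl v u)
    have h1 := ht.res_apply (g.symm (T.τ u l))
    rw [h0, map_zero, LinearMap.zero_apply, smul_zero, TensorF.res_apply, sub_eq_zero] at h1
    show g (t (g.symm _)) = _
    rw [h1, g.apply_symm_apply]
  exact hR.ctrl g hg t htR (hR.fuse g hg t htR ⟨hsX, hsk⟩)

theorem centralizer_mem (D : Data T) (hX : T.Mid G X) (hA : T.RadScalar X) (p : ℕ) [Fact p.Prime] [CharP F p]
    [Finite V] {g r : V ≃ₗ[F] V} (hg : g ∈ X) {e : W} (he : e ≠ 0) {hee : SW.h e e = 0} (hr : r ∈ T.radK e hee)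
    (hr1 : r ≠ 1) (hgr : g * r = r * g) : g ∈ T.kronIn X := by
  obtain ⟨w, l, hd, hv⟩ := hr
  have hres : ∀ x, res r x = T.τ (T.cw e x) (w + l • e) - ε₂ • T.τ (T.cw w x) e := fun x => by
    rw [TensorF.res_apply, rootW_act hv]; abel
  obtain ⟨y, hy⟩ : ∃ y, SW.rmap e w l y - y = e := by
    by_cases hw : ∃ z, SW.h z e = 0 ∧ SW.h z w ≠ 0
    · obtain ⟨z, hz1, hz2⟩ := hw
      refine ⟨(-(ε₂ * SW.h z w))⁻¹ • z, ?_⟩
      have hne : ε₂ * SW.h z w ≠ 0 := mul_ne_zero SW.eps_ne hz2
      rw [SW.rmap_apply, SW.smul_left, SW.smul_left, hz1, mul_zero, zero_smul, add_zero, sub_sub_cancel_left,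
        ← neg_smul]
      convert one_smul F e using 2
      field_simp [SW.eps_ne, hz2]
    · push Not at hw
      obtain ⟨c, rfl⟩ := SW.mem_line he (z := w) fun z hz => SW.swap (hw z (SW.swap hz))
      obtain ⟨f, hf⟩ := SW.exists_one he
      have hk : c + l - ε₂ * σ c ≠ 0 := fun h0 => hr1 (T.ext_equiv fun v z => by
        rw [hv, SW.rmap_apply, SW.smul_right, show (c • e + l • e : W) = (c + l) • e from (add_smul c l e).symm,
          smul_smul, add_sub_assoc, ← sub_smul,
          show SW.h z e * (c + l) - ε₂ * (σ c * SW.h z e) = SW.h z e * (c + l - ε₂ * σ c) by ring, h0, mul_zero,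
          zero_smul, add_zero]
        rfl)
      refine ⟨(c + l - ε₂ * σ c)⁻¹ • f, ?_⟩
      rw [SW.rmap_apply, SW.smul_left, SW.smul_left, SW.smul_right, hf,
        show (c • e + l • e : W) = (c + l) • e from (add_smul c l e).symm, smul_smul, add_sub_assoc, ← sub_smul,
        add_sub_cancel_left]
      convert one_smul F e using 2
      field_simp
  refine far_mem D hX hA p hg he hee he hee fun v u => ?_
  have h1 : T.τ v e = res r (T.τ v y) := by rw [TensorF.res_apply, hv, ← map_sub, hy]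
  have h2 : g (res r (T.τ v y)) = res r (g (T.τ v y)) := by
    rw [TensorF.res_apply, TensorF.res_apply, map_sub]
    exact congrArg (· - _) (DFunLike.congr_fun hgr _)
  rw [h1, h2, ← T.h_cw, hres, map_sub, map_smul, T.cw_tau, T.cw_tau, hee, SW.add_left, SW.smul_left, hd.1, hee]
  simp [SU.zero_left]

theorem mem_of_conj_mem (D : Data T) (hX : T.Mid G X) (hA : T.RadScalar X) (p : ℕ) [hp : Fact p.Prime] [CharP F p]
    [Finite V] {x r : V ≃ₗ[F] V} (hx : x ∈ X) {e : W} (he : e ≠ 0) {hee : SW.h e e = 0} (hr : r ∈ T.radK e hee)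
    (hr1 : r ≠ 1) (hxr : x⁻¹ * r * x ∈ T.kronIn X) : x ∈ T.kronIn X := by
  haveI : Finite (V ≃ₗ[F] V) := Finite.of_injective (fun g => (g : V → V)) DFunLike.coe_injective
  have hR := rooted D hX hA p (T.kronIn X) fun _ => Iff.rfl
  set r' := x⁻¹ * r * x with hr'
  have hrX := hX.radK_le hee hr
  have hr'I := hX.isomX hxr.1
  have hr'p : r' ^ p ^ 2 = 1 := by
    have := conj_pow (i := p ^ 2) (a := x⁻¹) (b := r)
    rw [inv_inv] at this
    rw [hr', this, (radK_unip hr).pow_eq_one p, mul_one, inv_mul_cancel]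
  obtain ⟨A, B, hAB, -, hB⟩ := exists_normal_form p 2 hxr.2 hr'p
  obtain ⟨u₀, hu₀⟩ := exists_ne (0 : U)
  obtain ⟨u₁, hu₁⟩ := SU.exists_one hu₀
  set a := SU.h (A u₁) (A u₀) with ha
  have hsim : ∀ z z', a * SW.h (B z) (B z') = SW.h z z' := fun z z' => by
    have := hr'I (T.τ u₁ z) (T.τ u₀ z')
    rwa [hAB, hAB, T.form, T.form, hu₁, one_mul] at this
  -- an isotropic vector fixed by the second factor
  obtain ⟨l, hl, hll, hBl, hBh⟩ : ∃ l, l ≠ 0 ∧ SW.h l l = 0 ∧ B l = l ∧ ∀ z, SW.h (B z) l = SW.h z l := by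
    by_cases hn : B - 1 = 0
    · rw [sub_eq_zero] at hn
      exact ⟨e, he, hee, by rw [hn]; rfl, fun z => by rw [hn]; rfl⟩
    obtain ⟨w, hw, hw2⟩ := exists_ker_sq _ hB hn
    set l := (B - 1) w with hl
    have hBl : B l = l := by
      rw [LinearMap.sub_apply, Module.End.one_apply, sub_eq_zero] at hw2
      exact hw2
    have hfun : ∀ z, a * SW.h (B z) l = SW.h z l := fun z => by
      have := hsim z l
      rwa [hBl] at this
    have hone : a = 1 := by
      obtain ⟨z, hz⟩ := SW.exists_one hw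
      have ha0 : a ≠ 0 := fun h => by
        have := hfun z
        rw [h, zero_mul, hz] at this
        exact zero_ne_one this
      have hstep : ∀ (n : ℕ), a ^ n * SW.h (((B - 1) ^ n) z) l = (1 - a) ^ n := by
        intro n
        induction n with
        | zero => simp [hz]
        | succ n ih =>
          rw [pow_succ' (B - 1) n, Module.End.mul_apply]
          set y := ((B - 1) ^ n) z with hy
          rw [LinearMap.sub_apply, Module.End.one_apply, SW.sub_left]
          linear_combination (1 - a) * ih + a ^ n * hfun y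
      have h0 := hstep (p ^ 2)
      rw [hB, LinearMap.zero_apply, SW.zero_left, mul_zero] at h0
      exact (sub_eq_zero.mp (eq_zero_of_pow_eq_zero h0.symm)).symm
    refine ⟨l, hw, ?_, hBl, fun z => by simpa [hone] using hfun z⟩
    have h1 := hfun w
    rw [hone, one_mul] at h1
    have h2 : SW.h l l = SW.h (B w) l - SW.h w l := by
      conv_lhs => arg 2; rw [hl, LinearMap.sub_apply, Module.End.one_apply]
      rw [SW.sub_left]
    rw [h2, h1, sub_self]
  obtain ⟨z, hz0, hz⟩ := D.skew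
  obtain ⟨t, htX, -, ht⟩ := hX.exists_tW hee hz
  obtain ⟨t', htX', -, ht'⟩ := hX.exists_tW hll hz
  have hcomm : t * r = r * t := T.ext_equiv fun v y => by
    obtain ⟨w, k, hd, hv⟩ := hr
    show t (r _) = r (t _)
    rw [hv, ht, ht, hv, map_add (SW.rmap e w k), map_smul (SW.rmap e w k), SW.rmap_self hee hd]
    congr 4
    rw [SW.rmap_apply e w k y, SW.sub_left, SW.add_left, SW.smul_left, SW.smul_left, SW.add_left, SW.smul_left, hee,
      hd.1]
    simp
  have hcomm' : t' * r' = r' * t' := T.ext_equiv fun v y => by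
    show t' (r' _) = r' (t' _)
    rw [hAB, ht', ht', hAB, map_add B, map_smul B, hBl, hBh]
  let S : Subgroup (V ≃ₗ[F] V) := X ⊓ Subgroup.centralizer {r'}
  have hmemS : ∀ g, g ∈ S ↔ g ∈ X ∧ g * r' = r' * g := fun g =>
    ⟨fun h => ⟨h.1, Subgroup.mem_centralizer_singleton_iff.mp h.2⟩,
      fun h => ⟨h.1, Subgroup.mem_centralizer_singleton_iff.mpr h.2⟩⟩
  obtain ⟨c, hc, hcM⟩ := hR.exists_mul_mem (S := S) inf_le_left (inv_mem hx) (r := t) (r₂ := t')
    ⟨htX, e, z, he, hee, hz0, hz, ht⟩ ⟨htX', l, z, hl, hll, hz0, hz, ht'⟩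
    ((hmemS _).mpr ⟨mul_mem (mul_mem (inv_mem hx) htX) (inv_mem (inv_mem hx)), by
      rw [hr', inv_inv]
      calc x⁻¹ * t * x * (x⁻¹ * r * x) = x⁻¹ * (t * r) * x := by group
        _ = x⁻¹ * (r * t) * x := by rw [hcomm]
        _ = x⁻¹ * r * x * (x⁻¹ * t * x) := by group⟩)
    ((hmemS _).mpr ⟨htX', hcomm'⟩)
  obtain ⟨hcX, hcr⟩ := (hmemS c).mp hc
  set m := c * x⁻¹ with hm
  have hmr : m * r * m⁻¹ = r' := by
    rw [hm, mul_inv_rev, inv_inv]
    calc c * x⁻¹ * r * (x * c⁻¹) = c * r' * c⁻¹ := by rw [hr']; group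
      _ = r' := by rw [hcr, mul_inv_cancel_right]
  have h1 : m⁻¹ * c * m ∈ T.kronIn X := by
    refine centralizer_mem D hX hA p (mul_mem (mul_mem (inv_mem hcM.1) hcX) hcM.1) he hr hr1 ?_
    calc m⁻¹ * c * m * r = m⁻¹ * (c * (m * r * m⁻¹)) * m := by group
      _ = m⁻¹ * (m * r * m⁻¹ * c) * m := by rw [hmr, hcr]
      _ = r * (m⁻¹ * c * m) := by group
  have : x = m⁻¹ * (m * (m⁻¹ * c * m) * m⁻¹) := by rw [hm]; group
  rw [this]
  exact mul_mem (inv_mem hcM) (mul_mem (mul_mem hcM h1) (inv_mem hcM))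

/-- The action on endomorphisms of endomorphisms. -/
noncomputable def conjTwo (X : Subgroup (V ≃ₗ[F] V)) :
    X →* (Module.End F (Module.End F V) ≃ₗ[F] Module.End F (Module.End F V)) where
  toFun g := (g : V ≃ₗ[F] V).conj.conj
  map_one' := LinearEquiv.ext fun _ => LinearMap.ext fun _ => LinearMap.ext fun _ => rfl
  map_mul' _ _ := LinearEquiv.ext fun _ => LinearMap.ext fun _ => LinearMap.ext fun _ => rfl

theorem conjTwo_fix_of_free (hX : T.Mid G X) (hiso : ∃ e : W, e ≠ 0 ∧ SW.h e e = 0)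
    (hcard : ∀ (e : W) (hee : SW.h e e = 0), e ≠ 0 → ∀ m, Nat.card (T.radK e hee) = ringChar F ^ m →
      5 ≤ m * (ringChar F - 1) ∨ Module.finrank F W = 2 ∧ 3 ≤ m * (ringChar F - 1))
    (hfree : ∀ x ∈ X, ∀ (e : W) (hee : SW.h e e = 0), e ≠ 0 → ∀ r ∈ T.radK e hee, r ≠ 1 →
      x⁻¹ * r * x ∈ T.kronIn X → x ∈ T.kronIn X) {g : V ≃ₗ[F] V} (hg : g ∈ X) :
    g.conj.conj T.trOne = T.trOne := by
  classical
  let p := ringChar F
  haveI : Fact p.Prime := ⟨CharP.char_is_prime F p⟩
  haveI : Finite V := Module.finite_of_finite F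
  haveI : Finite (V ≃ₗ[F] V) := Finite.of_injective (fun g => (g : V → V)) DFunLike.coe_injective
  haveI : Fintype X := Fintype.ofFinite X
  set M₀ := (T.kronIn X).subgroupOf X
  haveI : Fintype (X ⧸ M₀) := Fintype.ofFinite _
  let ρ := conjTwo (F := F) X
  have hfix : ∀ a : X, a ∈ M₀ → ρ a T.trOne = T.trOne := fun a ha => T.trOne_kron ha.2
  let f : X ⧸ M₀ → Module.End F (Module.End F V) := Quotient.lift (fun a => ρ a T.trOne) fun a b hab => by
    have h1 : a⁻¹ * b ∈ M₀ := QuotientGroup.leftRel_apply.mp hab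
    show ρ a T.trOne = ρ b T.trOne
    conv_rhs => rw [show b = a * (a⁻¹ * b) by group, map_mul, LinearEquiv.mul_apply, hfix _ h1]
  have hf : ∀ (k : X) (c : X ⧸ M₀), f (k • c) = ρ k (f c) := fun k c =>
    QuotientGroup.induction_on c fun a => by
      show ρ (k * a) T.trOne = ρ k (ρ a T.trOne)
      rw [map_mul, LinearEquiv.mul_apply]
  set c₀ : X ⧸ M₀ := QuotientGroup.mk 1
  set S := (Finset.univ : Finset (X ⧸ M₀)).erase c₀ with hS
  have main : ∀ e : W, e ≠ 0 → ∀ hee : SW.h e e = 0,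
      ∑ c ∈ S, f c ∈ endFil (endFil (T.fil e)) 1 := by
    intro e he hee
    set K := (T.radK e hee).subgroupOf X
    haveI : Fintype K := Fintype.ofFinite K
    have hanti := T.fil_antitone hee
    have hraise : ∀ k : K, Raises (endFil (endFil (T.fil e))) (ρ (k : X)) := fun k => by
      have hk : ((k : X) : V ≃ₗ[F] V) ∈ T.radK e hee := k.2
      refine Raises.conj (endFil_antitone hanti) (Raises.conj hanti (radK_raises hk) (radK_raises (inv_mem hk))) ?_
      exact Raises.conj hanti (radK_raises (inv_mem hk)) (radK_raises hk)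
    have hKp : IsPGroup p K := fun k => ⟨2, Subtype.ext (Subtype.ext (by
      have hk : ((k : X) : V ≃ₗ[F] V) ∈ T.radK e hee := k.2
      simpa using (radK_unip hk).pow_eq_one p))⟩
    obtain ⟨m, hm⟩ := IsPGroup.iff_card.mp hKp
    have hm5 : 5 ≤ m * (p - 1) ∨ Module.finrank F W = 2 ∧ 3 ≤ m * (p - 1) := hcard e hee he m (by
      rw [← hm]; exact (Nat.card_congr (Subgroup.subgroupOfEquivOfLe (hX.radK_le hee)).toEquiv).symm)
    refine sum_orbits ρ K f hf (fun x => ?_) S (fun k c hc => ?_) fun k c hc hkc => ?_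
    · haveI : Fintype (⊤ : Subgroup K) := Fintype.ofFinite _
      rcases hm5 with hm5 | ⟨hW, hm3⟩
      · have hs := sum_raises p (ρ.comp K.subtype) (endFil_antitone (endFil_antitone hanti)) hraise m ⊤
          (by rw [← hm]; exact Nat.card_congr Subgroup.topEquiv.toEquiv) (-4) x (T.endFil_endFil_low e le_rfl x)
        rw [← Equiv.sum_comp (Subgroup.topEquiv (G := K)).symm.toEquiv
          (fun k : (⊤ : Subgroup K) => (ρ.comp K.subtype) (k : K) x)] at hs
        exact endFil_antitone (endFil_antitone hanti) (by omega) hs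
      · have hh := (fil_halved (T := T) he hee hW).endFil.endFil
        have hanti₂ : Antitone (T.fil₂ e) := fun a b hab => hanti (by omega)
        have hraise₂ : ∀ k : K, Raises (endFil (endFil (T.fil₂ e))) (ρ (k : X)) := fun k => by
          have hk : ((k : X) : V ≃ₗ[F] V) ∈ T.radK e hee := k.2
          refine Raises.conj (endFil_antitone hanti₂)
            (Raises.conj hanti₂ (radK_raises₂ he hW hk) (radK_raises₂ he hW (inv_mem hk))) ?_
          exact Raises.conj hanti₂ (radK_raises₂ he hW (inv_mem hk)) (radK_raises₂ he hW hk)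
        have hs := sum_raises p (ρ.comp K.subtype) (endFil_antitone (endFil_antitone hanti₂)) hraise₂ m ⊤
          (by rw [← hm]; exact Nat.card_congr Subgroup.topEquiv.toEquiv) (-2) x (T.endFil_endFil₂_low e le_rfl x)
        rw [← Equiv.sum_comp (Subgroup.topEquiv (G := K)).symm.toEquiv
          (fun k : (⊤ : Subgroup K) => (ρ.comp K.subtype) (k : K) x)] at hs
        rw [← hh.even] at hs
        exact hh.anti (by omega) hs
    · refine Finset.mem_erase.mpr ⟨fun h => (Finset.mem_erase.mp hc).1 ?_, Finset.mem_univ _⟩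
      rw [← inv_smul_smul (k : X) c, h]
      refine QuotientGroup.eq.mpr ?_
      show _ ∈ T.kronIn X
      refine ⟨SetLike.coe_mem _, ?_⟩
      simpa using radK_isKron (he := hee) (k.2 : ((k : X) : V ≃ₗ[F] V) ∈ T.radK e hee)
    · induction c using QuotientGroup.induction_on with
      | H a =>
        by_contra hk1
        have h1 : ((k : X) * a)⁻¹ * a ∈ M₀ := QuotientGroup.eq.mp hkc
        have h2 : (a : V ≃ₗ[F] V)⁻¹ * ((k : X) : V ≃ₗ[F] V)⁻¹ * (a : V ≃ₗ[F] V) ∈ T.kronIn X := by
          have h3 : ((((k : X) * a)⁻¹ * a : X) : V ≃ₗ[F] V) ∈ T.kronIn X := h1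
          simpa [mul_assoc] using h3
        have h4 := hfree _ a.2 e hee he _ (inv_mem (k.2 : ((k : X) : V ≃ₗ[F] V) ∈ T.radK e hee))
          (fun h => hk1 (Subtype.ext (Subtype.ext (inv_eq_one.mp h)))) h2
        refine (Finset.mem_erase.mp hc).1 (QuotientGroup.eq.mpr ?_)
        show _ ∈ T.kronIn X
        simpa using inv_mem h4
  obtain ⟨e, he, hee⟩ := hiso
  obtain ⟨f', hff, hfe⟩ := SW.exists_partner he hee
  have hf0 : f' ≠ 0 := fun h => by rw [h, SW.zero_left] at hfe; exact zero_ne_one hfe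
  have hT : ∑ c ∈ S, f c = 0 :=
    (oppFil hee hfe hff).disjoint_end₂ (T.fil_antitone hee) (T.fil_antitone hff) (by norm_num)
      (main e he hee) (main f' hf0 hff)
  have htot : ∑ c, f c = T.trOne := by
    rw [← Finset.add_sum_erase _ _ (Finset.mem_univ c₀), ← hS, hT, add_zero]
    show ρ 1 T.trOne = _
    rw [map_one]
    rfl
  have hinv : ρ ⟨g, hg⟩ (∑ c, f c) = ∑ c, f c := by
    rw [map_sum]
    simp only [← hf]
    exact Equiv.sum_comp (MulAction.toPerm (⟨g, hg⟩ : X)) f
  rw [htot] at hinv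
  exact hinv

theorem kron_of_free (hX : T.Mid G X) (hiso : ∃ e : W, e ≠ 0 ∧ SW.h e e = 0)
    (hcard : ∀ (e : W) (hee : SW.h e e = 0), e ≠ 0 → ∀ m, Nat.card (T.radK e hee) = ringChar F ^ m →
      5 ≤ m * (ringChar F - 1) ∨ Module.finrank F W = 2 ∧ 3 ≤ m * (ringChar F - 1))
    (hfree : ∀ x ∈ X, ∀ (e : W) (hee : SW.h e e = 0), e ≠ 0 → ∀ r ∈ T.radK e hee, r ≠ 1 →
      x⁻¹ * r * x ∈ T.kronIn X → x ∈ T.kronIn X)
    (himage : ∀ e e' : W, e ≠ 0 → SW.h e e = 0 → e' ≠ 0 → SW.h e' e' = 0 → ∀ g ∈ X,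
      (∀ v : U, ∃ v', g (T.τ v e) = T.τ v' e') → T.IsKron g) {g : V ≃ₗ[F] V} (hg : g ∈ X) :
    T.IsKron g := by
  obtain ⟨e, he, hee⟩ := hiso
  obtain ⟨v₀, hv₀⟩ := exists_ne (0 : U)
  have halg : ∀ A : Module.End F U, ∃ A' : Module.End F U, ∀ x, T.map A LinearMap.id (g x) =
      g (T.map A' LinearMap.id x) := by
    intro A
    obtain ⟨L, rfl⟩ := T.ptr_surjective A
    refine ⟨T.ptr ((g⁻¹ : V ≃ₗ[F] V).conj L), fun x => ?_⟩
    have h1 := conjTwo_fix_of_free hX ⟨e, he, hee⟩ hcard hfree (inv_mem hg)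
    have h2 : T.trOne ((g⁻¹ : V ≃ₗ[F] V).conj L) = (g⁻¹ : V ≃ₗ[F] V).conj (T.trOne L) := by
      conv_lhs => rw [← h1]
      show (g⁻¹ : V ≃ₗ[F] V).conj (T.trOne ((g⁻¹ : V ≃ₗ[F] V).conj.symm ((g⁻¹ : V ≃ₗ[F] V).conj L))) = _
      rw [LinearEquiv.symm_apply_apply]
    have h3 := congrArg g (DFunLike.congr_fun h2 x)
    show T.trOne L (g x) = g (T.trOne _ x)
    refine Eq.symm (h3.trans ?_)
    show g (g.symm (T.trOne L (g x))) = _
    rw [g.apply_symm_apply]
  set y := g (T.τ v₀ e) with hy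
  have hy0 : y ≠ 0 := fun h => T.tau_ne_zero hv₀ he (g.map_eq_zero_iff.mp h)
  obtain ⟨d, hd⟩ : ∃ d, T.cv d y ≠ 0 := by
    by_contra hc
    push Not at hc
    exact hy0 (T.ext_left fun v z => by rw [← T.h_cv, hc, SW.zero_left, SV.zero_left])
  set w := T.cv d y with hw
  let L := LinearMap.range (g.toLinearMap.comp (T.τ.flip e))
  have hle : LinearMap.range (T.τ.flip w) ≤ L := by
    rintro _ ⟨u, rfl⟩
    obtain ⟨A', hA'⟩ := halg ((SU.lin d).smulRight u)
    refine ⟨A' v₀, ?_⟩
    show g (T.τ (A' v₀) e) = T.τ u w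
    have h1 := hA' (T.τ v₀ e)
    rw [T.map_tau A', LinearMap.id_apply] at h1
    rw [← h1, hw, ← hy]
    refine DFunLike.congr_fun (T.ext (L := T.map ((SU.lin d).smulRight u) LinearMap.id)
      (L' := (T.τ u).comp (T.cv d)) fun a z => ?_) y
    rw [T.map_tau, LinearMap.comp_apply, T.cv_tau, LinearMap.smulRight_apply, RSpace.lin_apply, LinearMap.id_apply,
      map_smul, map_smul, LinearMap.smul_apply]
  have hinj : ∀ {b : W}, b ≠ 0 → Function.Injective (T.τ.flip b) := fun hb a a' h => T.tau_inj_left hb h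
  have heq : LinearMap.range (T.τ.flip w) = L := by
    refine Submodule.eq_of_le_of_finrank_le hle ((LinearMap.finrank_range_le _).trans ?_)
    rw [LinearMap.finrank_range_of_inj (hinj hd)]
  have himg : ∀ v : U, ∃ v', g (T.τ v e) = T.τ v' w := fun v => by
    have : g (T.τ v e) ∈ L := ⟨v, rfl⟩
    rw [← heq] at this
    obtain ⟨v', h⟩ := this
    exact ⟨v', h.symm⟩
  have hww : SW.h w w = 0 := by
    obtain ⟨v', hv'⟩ := SU.exists_one hv₀
    have hmem : ∀ v, ∃ a, g (T.τ a e) = T.τ v w := fun v => by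
      have : T.τ v w ∈ L := by rw [← heq]; exact ⟨v, rfl⟩
      obtain ⟨a, h⟩ := this
      exact ⟨a, h⟩
    obtain ⟨a, ha⟩ := hmem v'
    obtain ⟨b, hb⟩ := hmem v₀
    have := hX.isomX hg (T.τ a e) (T.τ b e)
    rwa [ha, hb, T.form, T.form, hee, mul_zero, hv', one_mul] at this
  exact himage e w he hee hd hww g hg himg

theorem kron_of_radScalar (D : Data T)
    (hcount : ∀ m : ℕ, Nat.card F ^ (Module.finrank F W - 2) < ringChar F ^ m → 5 ≤ m * (ringChar F - 1))
    (hX : T.Mid G X) (hA : T.RadScalar X) {g : V ≃ₗ[F] V} (hg : g ∈ X) :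
    T.IsKron g := by
  haveI : Finite V := Module.finite_of_finite F
  haveI : Fact (ringChar F).Prime := ⟨CharP.char_is_prime F _⟩
  refine kron_of_free hX D.iso (fun e hee he m hm => Or.inl (hcount m ?_))
    (fun x hx e hee he r hr hr1 h => mem_of_conj_mem D hX hA (ringChar F) hx he (hee := hee) hr hr1 h)
    (fun e e' he hee he' hee' g hg h => kron_of_image D.skew hX hA he hee he' hee' hg h) hg
  obtain ⟨f, -, hf⟩ := SW.exists_partner he hee
  obtain ⟨l₀, hl₀, hl₀'⟩ := D.skew
  have h1 := T.card_perp_lt hee hf hl₀ hl₀'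
  rw [hm, Module.natCard_eq_pow_finrank (K := F)] at h1
  refine lt_of_le_of_lt (Nat.pow_le_pow_right Nat.card_pos ?_) h1
  have := ((SW.lin e).prod (SW.lin f)).finrank_range_add_finrank_ker
  have h4 := (LinearMap.range ((SW.lin e).prod (SW.lin f))).finrank_le
  rw [Module.finrank_prod, Module.finrank_self] at h4
  rw [LinearMap.ker_prod] at this
  omega

end

end TSpace

end Cfsg.Lib.Classical.TensorF
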