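import Cfsg.Agent.Classical.TensorF.Space

/-! Tensor products of linear maps, Kronecker automorphisms, and groups between them and the isometries. -/

set_option autoImplicit false
set_option linter.unusedSectionVars false
set_option linter.unusedSimpArgs false
set_option linter.style.haveILetI false

namespace Cfsg.Lib.Classical.TensorF

universe u v w x

variable {F : Type u} [Field F] {σ : F →+* F} {ε ε₁ ε₂ : F} {V : Type v} [AddCommGroup V] [Module F V]
  {U : Type w} [AddCommGroup U] [Module F U] {W : Type x} [AddCommGroup W] [Module F W]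
  {SU : RSpace σ ε₁ U} {SW : RSpace σ ε₂ W} {SV : RSpace σ ε V}

/-- `g` preserves the form. -/
def RSpace.IsIsom (S : RSpace σ ε V) (g : V ≃ₗ[F] V) : Prop := ∀ x y, S.h (g x) (g y) = S.h x y

theorem RSpace.IsIsom.mul {g g' : V ≃ₗ[F] V} (h : SV.IsIsom g) (h' : SV.IsIsom g') : SV.IsIsom (g * g') :=
  fun x y => (h _ _).trans (h' x y)

theorem RSpace.IsIsom.inv {g : V ≃ₗ[F] V} (h : SV.IsIsom g) : SV.IsIsom g⁻¹ := fun x y => by
  have := h ((g⁻¹ : V ≃ₗ[F] V) x) ((g⁻¹ : V ≃ₗ[F] V) y)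
  rw [show g ((g⁻¹ : V ≃ₗ[F] V) x) = x from g.apply_symm_apply x,
    show g ((g⁻¹ : V ≃ₗ[F] V) y) = y from g.apply_symm_apply y] at this
  exact this.symm

theorem RSpace.exists_dual [FiniteDimensional F V] (S : RSpace σ ε V) (i : Fin (Module.finrank F V)) :
    ∃ d, ∀ z, S.h z d = (Module.finBasis F V).coord i z :=
  S.exists_rep _

/-- The dual vectors of the basis. -/
noncomputable def RSpace.dualVec [FiniteDimensional F V] (S : RSpace σ ε V) (i : Fin (Module.finrank F V)) : V :=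
  Classical.choose (S.exists_dual i)

theorem RSpace.h_dualVec [FiniteDimensional F V] (S : RSpace σ ε V) (z : V) (i : Fin (Module.finrank F V)) :
    S.h z (S.dualVec i) = (Module.finBasis F V).coord i z :=
  Classical.choose_spec (S.exists_dual i) z

/-- `g - 1` as a linear map. -/
def res (g : V ≃ₗ[F] V) : V →ₗ[F] V := g.toLinearMap - LinearMap.id

theorem res_apply (g : V ≃ₗ[F] V) (x : V) : res g x = g x - x := rfl

/-- `g - 1` is nilpotent of index at most three. -/
def Unip (g : V ≃ₗ[F] V) : Prop := ∀ x, res g (res g (res g x)) = 0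

theorem Unip.pow_eq_one {g : V ≃ₗ[F] V} (h : Unip g) (p : ℕ) [hp : Fact p.Prime] [CharP F p] :
    g ^ p ^ 2 = 1 := by
  by_cases hV : ∀ x : V, x = 0
  · exact LinearEquiv.ext fun x => (hV _).trans (hV x).symm
  haveI : Nontrivial V := by
    push Not at hV
    obtain ⟨x, hx⟩ := hV
    exact ⟨x, 0, hx⟩
  haveI : CharP (Module.End F V) p := charP_of_injective_algebraMap (FaithfulSMul.algebraMap_injective F _) p
  have h3 : (res g : Module.End F V) ^ 3 = 0 := LinearMap.ext h
  have h4 : 3 ≤ p ^ 2 := le_trans (by norm_num : 3 ≤ 2 ^ 2) (Nat.pow_le_pow_left hp.out.two_le 2)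
  have h5 : ((g.toLinearMap : Module.End F V) - 1) ^ p ^ 2 = 0 := pow_eq_zero_of_le h4 h3
  rw [sub_pow_char_pow_of_commute _ _ (Commute.one_right _), one_pow, sub_eq_zero] at h5
  have e : ∀ (n : ℕ) (x : V), (g ^ n) x = ((g.toLinearMap : Module.End F V) ^ n) x := by
    intro n
    induction n with
    | zero => intro x; rfl
    | succ n ih => intro x; rw [pow_succ, pow_succ]; exact ih (g x)
  exact LinearEquiv.ext fun x => by rw [e, h5]; rfl

theorem Unip.det [Finite F] [FiniteDimensional F V] {g : V ≃ₗ[F] V} (h : Unip g) : LinearEquiv.det g = 1 := by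
  let p := ringChar F
  haveI : Fact p.Prime := ⟨CharP.char_is_prime F p⟩
  have h1 : (LinearEquiv.det g : F) ^ p ^ 2 = 1 := by
    rw [← Units.val_pow_eq_pow_val, ← map_pow, h.pow_eq_one p, map_one, Units.val_one]
  exact Units.ext (iterateFrobenius_inj F p 2 (by
    rw [iterateFrobenius_def, iterateFrobenius_def, h1, Units.val_one, one_pow]))

namespace TSpace

variable (T : TSpace SU SW SV)

/-- `g` is a tensor product of two maps. -/
def IsKron (g : V ≃ₗ[F] V) : Prop :=
  ∃ (A : U →ₗ[F] U) (B : W →ₗ[F] W), ∀ v z, g (T.τ v z) = T.τ (A v) (B z)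

theorem isKron_one : T.IsKron 1 := ⟨LinearMap.id, LinearMap.id, fun _ _ => rfl⟩

theorem IsKron.mul {g g' : V ≃ₗ[F] V} (h : T.IsKron g) (h' : T.IsKron g') : T.IsKron (g * g') := by
  obtain ⟨A, B, e⟩ := h
  obtain ⟨A', B', e'⟩ := h'
  exact ⟨A.comp A', B.comp B', fun v z => by
    show g (g' (T.τ v z)) = _
    rw [e', e]; rfl⟩

variable [FiniteDimensional F U] [FiniteDimensional F W]

theorem IsKron.equivs [Nontrivial U] [Nontrivial W] {g : V ≃ₗ[F] V} (h : T.IsKron g) :
    ∃ (A : U ≃ₗ[F] U) (B : W ≃ₗ[F] W), ∀ v z, g (T.τ v z) = T.τ (A v) (B z) := by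
  obtain ⟨A, B, e⟩ := h
  obtain ⟨v₀, hv₀⟩ := exists_ne (0 : U)
  obtain ⟨z₀, hz₀⟩ := exists_ne (0 : W)
  have hA : Function.Injective A := by
    rw [← LinearMap.ker_eq_bot, LinearMap.ker_eq_bot']
    intro v hv
    by_contra hv0
    refine T.tau_ne_zero hv0 hz₀ (g.map_eq_zero_iff.mp ?_)
    rw [e, hv, map_zero, LinearMap.zero_apply]
  have hB : Function.Injective B := by
    rw [← LinearMap.ker_eq_bot, LinearMap.ker_eq_bot']
    intro z hz
    by_contra hz0
    refine T.tau_ne_zero hv₀ hz0 (g.map_eq_zero_iff.mp ?_)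
    rw [e, hz, map_zero]
  exact ⟨LinearEquiv.ofInjectiveEndo A hA, LinearEquiv.ofInjectiveEndo B hB, e⟩

theorem IsKron.inv [Nontrivial U] [Nontrivial W] {g : V ≃ₗ[F] V} (h : T.IsKron g) : T.IsKron g⁻¹ := by
  obtain ⟨A, B, e⟩ := IsKron.equivs T h
  refine ⟨A.symm, B.symm, fun v z => ?_⟩
  show g.symm _ = _
  rw [LinearEquiv.symm_apply_eq, e]
  simp

theorem eq_sum (x : V) : x = ∑ i, T.τ (T.cw (SW.dualVec i) x) (Module.finBasis F W i) := by
  have : (∑ i, ((T.τ.flip (Module.finBasis F W i)).comp (T.cw (SW.dualVec i)))) = LinearMap.id := T.ext fun v z => by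
    simp only [LinearMap.coe_sum, Finset.sum_apply, LinearMap.comp_apply, LinearMap.flip_apply, T.cw_tau,
      SW.h_dualVec, LinearMap.id_apply, map_smul, LinearMap.smul_apply]
    simp only [← map_smul, ← map_sum, Module.Basis.coord_apply, (Module.finBasis F W).sum_repr z]
  have := DFunLike.congr_fun this x
  simp only [LinearMap.coe_sum, Finset.sum_apply, LinearMap.comp_apply, LinearMap.flip_apply, LinearMap.id_apply] at this
  exact this.symm

/-- The tensor product of two maps. -/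
noncomputable def map (A : U →ₗ[F] U) (B : W →ₗ[F] W) : V →ₗ[F] V :=
  ∑ i, (T.τ.flip (B (Module.finBasis F W i))).comp (A.comp (T.cw (SW.dualVec i)))

theorem map_tau (A : U →ₗ[F] U) (B : W →ₗ[F] W) (v : U) (z : W) : T.map A B (T.τ v z) = T.τ (A v) (B z) := by
  simp only [map, LinearMap.coe_sum, Finset.sum_apply, LinearMap.comp_apply, LinearMap.flip_apply, T.cw_tau,
    SW.h_dualVec, map_smul, LinearMap.smul_apply]
  simp only [← map_smul, ← map_sum, Module.Basis.coord_apply, (Module.finBasis F W).sum_repr z]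

theorem exists_kron (A : U ≃ₗ[F] U) (B : W ≃ₗ[F] W) :
    ∃ g : V ≃ₗ[F] V, (∀ v z, g (T.τ v z) = T.τ (A v) (B z)) ∧ T.IsKron g := by
  refine ⟨LinearEquiv.ofLinearMap (T.map A.toLinearMap B.toLinearMap)
    (T.map A.symm.toLinearMap B.symm.toLinearMap) (T.ext fun v z => ?_) (T.ext fun v z => ?_),
    fun v z => T.map_tau _ _ v z, ⟨A.toLinearMap, B.toLinearMap, fun v z => T.map_tau _ _ v z⟩⟩ <;>
    simp [T.map_tau]

theorem isom_of_tau {g : V ≃ₗ[F] V}
    (h : ∀ v z v' z', SV.h (g (T.τ v z)) (g (T.τ v' z')) = SU.h v v' * SW.h z z') : SV.IsIsom g := by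
  intro x y
  have h1 : ∀ v z, SV.h (g x) (g (T.τ v z)) = SV.h x (T.τ v z) := fun v z =>
    DFunLike.congr_fun (T.ext (L := (SV.lin (g (T.τ v z))).comp g.toLinearMap) (L' := SV.lin (T.τ v z))
      fun v' z' => by
        show SV.h (g (T.τ v' z')) (g (T.τ v z)) = SV.h (T.τ v' z') (T.τ v z)
        rw [h, T.form]) x
  rw [SV.symm (g y) (g x), SV.symm y x]
  congr 2
  exact DFunLike.congr_fun (T.ext (L := (SV.lin (g x)).comp g.toLinearMap) (L' := SV.lin x) fun v z => by
    show SV.h (g (T.τ v z)) (g x) = SV.h (T.τ v z) x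
    rw [SV.symm (g x), SV.symm x, h1]) y

/-- `X` lies between the Kronecker products in `G` and `G`, a group of isometries containing the unipotent ones. -/
structure Mid (G X : Subgroup (V ≃ₗ[F] V)) : Prop where
  le : X ≤ G
  isom : ∀ g ∈ G, SV.IsIsom g
  unip : ∀ g, SV.IsIsom g → Unip g → g ∈ G
  kron : ∀ g ∈ G, T.IsKron g → g ∈ X

variable {T} {G X : Subgroup (V ≃ₗ[F] V)}

theorem Mid.isomX (hX : T.Mid G X) {g : V ≃ₗ[F] V} (hg : g ∈ X) : SV.IsIsom g := hX.isom g (hX.le hg)

theorem Mid.kronX (hX : T.Mid G X) {g : V ≃ₗ[F] V} (hi : SV.IsIsom g) (hu : Unip g) (hk : T.IsKron g) : g ∈ X :=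
  hX.kron g (hX.unip g hi hu) hk

variable (T)

theorem unip_of_right {g : V ≃ₗ[F] V} {B : W →ₗ[F] W} (e : ∀ v z, g (T.τ v z) = T.τ v (B z))
    (hB : ∀ z, (B - (LinearMap.id : W →ₗ[F] W)) ((B - (LinearMap.id : W →ₗ[F] W)) ((B - (LinearMap.id : W →ₗ[F] W)) z)) = 0) : Unip g := by
  intro x
  refine DFunLike.congr_fun (T.ext (L := (res g).comp ((res g).comp (res g))) (L' := 0) fun v z => ?_) x
  have h1 : ∀ v z, res g (T.τ v z) = T.τ v ((B - (LinearMap.id : W →ₗ[F] W)) z) := fun v z => by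
    simp [res_apply, e, map_sub]
  simp only [LinearMap.comp_apply, h1, hB, map_zero, LinearMap.zero_apply]

theorem unip_of_left {g : V ≃ₗ[F] V} {A : U →ₗ[F] U} (e : ∀ v z, g (T.τ v z) = T.τ (A v) z)
    (hA : ∀ z, (A - (LinearMap.id : U →ₗ[F] U)) ((A - (LinearMap.id : U →ₗ[F] U)) ((A - (LinearMap.id : U →ₗ[F] U)) z)) = 0) : Unip g := by
  intro x
  refine DFunLike.congr_fun (T.ext (L := (res g).comp ((res g).comp (res g))) (L' := 0) fun v z => ?_) x
  have h1 : ∀ v z, res g (T.τ v z) = T.τ ((A - (LinearMap.id : U →ₗ[F] U)) v) z := fun v z => by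
    simp [res_apply, e, map_sub]
  simp only [LinearMap.comp_apply, h1, hA, map_zero, LinearMap.zero_apply]

end TSpace

end Cfsg.Lib.Classical.TensorF
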