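import Cfsg.Agent.Classical.TensorF.Alg

/-! Symmetric bilinear spaces in odd characteristic: reflections and invariant spaces of self-adjoint maps. -/

set_option autoImplicit false
set_option linter.unusedSectionVars false
set_option linter.unusedSimpArgs false
set_option linter.style.haveILetI false

namespace Cfsg.Lib.Classical.TensorF

universe u v w

variable {F : Type u} [Field F] {U : Type w} [AddCommGroup U] [Module F U] {S : RSpace (RingHom.id F) 1 U}

namespace RSpace

theorem comm (S : RSpace (RingHom.id F) 1 U) (x y : U) : S.h y x = S.h x y := by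
  rw [S.symm, one_mul, RingHom.id_apply]

theorem smul_right' {ε : F} (S : RSpace (RingHom.id F) ε U) (c : F) (x y : U) : S.h x (c • y) = c * S.h x y := by
  rw [S.smul_right, RingHom.id_apply]

/-- The reflection at `u`. -/
noncomputable def refl (S : RSpace (RingHom.id F) 1 U) (u : U) : U →ₗ[F] U :=
  LinearMap.id - (2 / S.h u u) • S.rk u u

theorem refl_apply (u x : U) : S.refl u x = x - (2 / S.h u u * S.h x u) • u := by
  simp [refl, rk_apply, smul_smul]

theorem refl_self {u : U} (hu : S.h u u ≠ 0) : S.refl u u = -u := by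
  rw [refl_apply, div_mul_cancel₀ _ hu, two_smul]
  abel

theorem refl_perp {u x : U} (h : S.h x u = 0) : S.refl u x = x := by simp [refl_apply, h]

theorem refl_refl {u : U} (hu : S.h u u ≠ 0) (x : U) : S.refl u (S.refl u x) = x := by
  rw [refl_apply u x, map_sub, map_smul, refl_self hu, refl_apply]
  module

theorem refl_form {u : U} (hu : S.h u u ≠ 0) (x y : U) : S.h (S.refl u x) (S.refl u y) = S.h x y := by
  simp only [refl_apply, S.sub_left, S.sub_right, S.smul_left, S.smul_right', S.comm u y]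
  rw [S.comm y u]
  field_simp
  ring

/-- The reflection as an automorphism. -/
noncomputable def reflEquiv {u : U} (hu : S.h u u ≠ 0) : U ≃ₗ[F] U :=
  LinearEquiv.ofLinearMap (S.refl u) (S.refl u) (LinearMap.ext (S.refl_refl hu)) (LinearMap.ext (S.refl_refl hu))

theorem reflEquiv_apply {u : U} (hu : S.h u u ≠ 0) (x : U) : S.reflEquiv hu x = S.refl u x := rfl

theorem refl_selfAdj {u : U} (hu : S.h u u ≠ 0) (x y : U) : S.h (S.refl u x) y = S.h x (S.refl u y) := by
  rw [← S.refl_form hu x (S.refl u y), S.refl_refl hu]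

theorem avoid (φ ψ : Module.Dual F U) (hφ : φ ≠ 0) (hψ : ψ ≠ 0) : ∃ x, φ x ≠ 0 ∧ ψ x ≠ 0 := by
  obtain ⟨a, ha⟩ : ∃ a, φ a ≠ 0 := by
    by_contra h
    push Not at h
    exact hφ (LinearMap.ext h)
  obtain ⟨b, hb⟩ : ∃ b, ψ b ≠ 0 := by
    by_contra h
    push Not at h
    exact hψ (LinearMap.ext h)
  by_cases h1 : ψ a = 0
  · by_cases h2 : φ b = 0
    · exact ⟨a + b, by rwa [map_add, h2, add_zero], by rwa [map_add, h1, zero_add]⟩
    · exact ⟨b, h2, hb⟩
  · exact ⟨a, ha, h1⟩

theorem exists_aniso (h2 : (2 : F) ≠ 0) {P : Submodule F U} {x : U} (hx : x ∈ P) {y : U} (hy : y ∈ P)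
    (hxy : S.h x y ≠ 0) : ∃ z ∈ P, S.h z z ≠ 0 := by
  by_contra hc
  push Not at hc
  have h := hc (x + y) (P.add_mem hx hy)
  rw [S.add_left, S.add_right, S.add_right, hc x hx, hc y hy, S.comm x y] at h
  exact hxy ((mul_eq_zero.mp (by linear_combination h : (2 : F) * S.h x y = 0)).resolve_left h2)

variable [FiniteDimensional F U]

theorem exists_rep_sub {P : Submodule F U} (hnd : ∀ x ∈ P, (∀ y ∈ P, S.h x y = 0) → x = 0) {r : U} (hr : r ∈ P)
    (h0 : r ≠ 0) : ∃ f ∈ P, S.h f r = 1 := by
  obtain ⟨y, hy, hry⟩ : ∃ y ∈ P, S.h r y ≠ 0 := by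
    by_contra hc
    push Not at hc
    exact h0 (hnd r hr hc)
  exact ⟨(S.h y r)⁻¹ • y, P.smul_mem _ hy, by
    rw [S.smul_left, inv_mul_cancel₀ (by rwa [S.comm r y])]⟩

/-- A nonzero subspace invariant under the reflections of a nondegenerate `P` is `P`. -/
theorem eq_of_invariant [Finite F] (h2 : (2 : F) ≠ 0) {P : Submodule F U}
    (hnd : ∀ x ∈ P, (∀ y ∈ P, S.h x y = 0) → x = 0) (hdim : 2 ≤ Module.finrank F P)
    (hex : ¬ (Nat.card F = 3 ∧ Module.finrank F P = 2)) {A : Submodule F U} (hAP : A ≤ P) (hA : A ≠ ⊥)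
    (hinv : ∀ w ∈ P, S.h w w ≠ 0 → ∀ x ∈ A, S.refl w x ∈ A) : A = P := by
  have hdich : ∀ w ∈ P, S.h w w ≠ 0 → w ∈ A ∨ ∀ x ∈ A, S.h x w = 0 := by
    intro w hw hww
    refine or_iff_not_imp_right.mpr fun h => ?_
    push Not at h
    obtain ⟨x, hx, hxw⟩ := h
    have h1 := A.sub_mem hx (hinv w hw hww x hx)
    rw [refl_apply, sub_sub_cancel] at h1
    exact (A.smul_mem_iff (mul_ne_zero (div_ne_zero h2 hww) hxw)).mp h1
  have hndA : ∀ x ∈ A, (∀ y ∈ A, S.h x y = 0) → x = 0 := by
    intro r hr hperp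
    by_contra hr0
    obtain ⟨f, hf, hfr⟩ := exists_rep_sub hnd (hAP hr) hr0
    have hrr := hperp r hr
    set f₀ := f - (S.h f f / 2) • r with hf₀
    have h1 : S.h f₀ f₀ = 0 := by
      rw [hf₀]
      simp only [S.sub_left, S.sub_right, S.smul_left, S.smul_right', hrr, hfr, S.comm f r]
      field_simp
      ring
    have h3 : S.h f₀ r = 1 := by rw [hf₀, S.sub_left, S.smul_left, hfr, hrr, mul_zero, sub_zero]
    have hw : S.h (f₀ + r) (f₀ + r) ≠ 0 := by
      rw [S.add_left, S.add_right, S.add_right, h1, hrr, S.comm f₀ r, h3, zero_add, add_zero, one_add_one_eq_two]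
      exact h2
    have hrw : S.h r (f₀ + r) ≠ 0 := by
      rw [S.add_right, hrr, S.comm f₀ r, h3, add_zero]
      exact one_ne_zero
    rcases hdich _ (P.add_mem (P.sub_mem hf (P.smul_mem _ (hAP hr))) (hAP hr)) hw with h | h
    · exact hrw (hperp _ h)
    · exact hrw (h r hr)
  by_contra hne
  let L : P →ₗ[F] Module.Dual F A :=
    LinearMap.mk₂ F (fun (y : P) (s : A) => S.h (y : U) (s : U)) (fun a b c => S.add_left _ _ _)
      (fun c a b => S.smul_left _ _ _) (fun a b c => S.add_right _ _ _) (fun c a b => S.smul_right' _ _ _)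
  set B := LinearMap.ker L with hB
  have hBmem : ∀ y : P, y ∈ B ↔ ∀ s ∈ A, S.h (y : U) s = 0 := fun y => by
    rw [hB, LinearMap.mem_ker]
    exact ⟨fun h s hs => DFunLike.congr_fun h ⟨s, hs⟩, fun h => LinearMap.ext fun s => h s s.2⟩
  have hrn := L.finrank_range_add_finrank_ker
  rw [← hB] at hrn
  have hrng : Module.finrank F (LinearMap.range L) ≤ Module.finrank F A :=
    (Submodule.finrank_le _).trans Subspace.dual_finrank_eq.le
  have hBpos : 0 < Module.finrank F B := by
    by_contra h
    exact hne (Submodule.eq_of_le_of_finrank_le hAP (by omega))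
  obtain ⟨t₀, ht₀B, ht₀⟩ := B.exists_mem_ne_zero_of_ne_bot
    (fun h => by rw [h, finrank_bot] at hBpos; omega)
  have hsum : ∀ s ∈ A, s ≠ 0 → ∀ t ∈ B, (t : P) ≠ 0 → S.h s s + S.h (t : U) t = 0 := by
    intro s hs hs0 t ht ht0
    have hts := (hBmem t).mp ht
    by_contra h
    have hn : S.h (s + (t : U)) (s + (t : U)) ≠ 0 := by
      rwa [S.add_left, S.add_right, S.add_right, hts s hs, S.comm (t : U) s, hts s hs, add_zero, zero_add]
    rcases hdich _ (P.add_mem (hAP hs) t.2) hn with h1 | h1
    · have htA : (t : U) ∈ A := by simpa using A.sub_mem h1 hs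
      refine ht0 (Subtype.ext (hndA _ htA fun y hy => hts y hy))
    · refine hs0 (hndA s hs fun y hy => ?_)
      have := h1 y hy
      rwa [S.add_right, S.comm (t : U) y, hts y hy, add_zero, S.comm s y] at this
  obtain ⟨s, hs, hss⟩ : ∃ s ∈ A, S.h s s ≠ 0 := by
    obtain ⟨a, ha, ha0⟩ := A.exists_mem_ne_zero_of_ne_bot hA
    obtain ⟨f, hf, hfa⟩ := exists_rep_sub hndA ha ha0
    exact exists_aniso h2 hf ha (by rw [hfa]; exact one_ne_zero)
  have hs0 : s ≠ 0 := fun h => hss (by rw [h, S.zero_left])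
  have hconst : ∀ x ∈ A, x ≠ 0 → S.h x x = S.h s s := fun x hx hx0 => by
    linear_combination hsum x hx hx0 t₀ ht₀B ht₀ - hsum s hs hs0 t₀ ht₀B ht₀
  have hsq : ∀ c : F, c ≠ 0 → c * c = 1 := fun c hc => by
    have := hconst (c • s) (A.smul_mem c hs) (smul_ne_zero hc hs0)
    rw [S.smul_left, S.smul_right'] at this
    exact mul_right_cancel₀ hss (by linear_combination this)
  have h3 : Nat.card F = 3 := by
    haveI : Fintype F := Fintype.ofFinite F
    classical
    have hle : (Finset.univ : Finset F) ⊆ {0, 1, -1} := fun c _ => by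
      by_cases hc : c = 0
      · simp [hc]
      · rcases mul_self_eq_one_iff.mp (hsq c hc) with h | h <;> simp [h]
    have h1 := Finset.card_le_card hle
    have h4 : ({0, 1, -1} : Finset F).card ≤ 3 := Finset.card_le_three
    have h5 : Nat.card F ≠ 2 := fun h => h2 (by
      have h6 := Nat.cast_card_eq_zero F
      rw [← Nat.card_eq_fintype_card, h] at h6
      exact_mod_cast h6)
    have h6 : 1 < Fintype.card F := Fintype.one_lt_card
    rw [Finset.card_univ] at h1
    rw [Nat.card_eq_fintype_card] at h5 ⊢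
    omega
  have hone : ∀ (C : Submodule F U) (c : F), c ≠ 0 → (∀ x ∈ C, x ≠ 0 → S.h x x = c) → Module.finrank F C ≤ 1 := by
    intro C c hc hC
    by_contra hlt
    obtain ⟨a, ha, ha0⟩ := C.exists_mem_ne_zero_of_ne_bot (fun h => by rw [h, finrank_bot] at hlt; omega)
    obtain ⟨b, hb, hab⟩ : ∃ b ∈ C, b ∉ Submodule.span F {a} := by
      by_contra hh
      push Not at hh
      have := Submodule.finrank_mono (fun x hx => hh x hx : C ≤ Submodule.span F {a})
      rw [finrank_span_singleton ha0] at this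
      omega
    have hb0 : b ≠ 0 := fun h => hab (by rw [h]; exact zero_mem _)
    have h1 := hC _ (C.add_mem ha hb) fun h => hab (by
      rw [eq_neg_of_add_eq_zero_right h]; exact neg_mem (Submodule.mem_span_singleton_self a))
    have h4 := hC _ (C.sub_mem ha hb) fun h => hab (by
      rw [← sub_eq_zero.mp h]; exact Submodule.mem_span_singleton_self a)
    rw [S.add_left, S.add_right, S.add_right, hC a ha ha0, hC b hb hb0, S.comm a b] at h1
    rw [S.sub_left, S.sub_right, S.sub_right, hC a ha ha0, hC b hb hb0, S.comm a b] at h4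
    exact mul_ne_zero h2 hc (by linear_combination h1 + h4)
  have hA1 := hone A _ hss hconst
  have hB1 : Module.finrank F B ≤ 1 := by
    have h1 := hone (B.map P.subtype) (-(S.h s s)) (neg_ne_zero.mpr hss) fun x hx hx0 => by
      obtain ⟨t, ht, rfl⟩ := hx
      exact eq_neg_of_add_eq_zero_right (hsum s hs hs0 t ht fun h => hx0 (by rw [h, map_zero]))
    rwa [Submodule.finrank_map_subtype_eq] at h1
  exact hex ⟨h3, by omega⟩

variable [Finite F]

theorem exists_iso (h3 : 3 ≤ Module.finrank F U) (S : RSpace (RingHom.id F) 1 U) : ∃ e : U, e ≠ 0 ∧ S.h e e = 0 := by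
  classical
  haveI : Fintype F := Fintype.ofFinite F
  let B : LinearMap.BilinForm F U := LinearMap.mk₂ F S.h S.add_left (fun c a b => S.smul_left c a b) S.add_right
    (fun c a b => S.smul_right' c a b)
  let p := ringChar F
  let b := Module.finBasis F U
  let P : MvPolynomial (Fin (Module.finrank F U)) F :=
    ∑ i, ∑ j, MvPolynomial.C (S.h (b i) (b j)) * MvPolynomial.X i * MvPolynomial.X j
  have heval : ∀ x : Fin (Module.finrank F U) → F,
      MvPolynomial.eval x P = S.h (b.equivFun.symm x) (b.equivFun.symm x) := by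
    intro x
    show _ = B _ _
    simp only [P, map_sum, map_mul, MvPolynomial.eval_C, MvPolynomial.eval_X, Module.Basis.equivFun_symm_apply,
      map_smul, LinearMap.sum_apply, LinearMap.smul_apply, smul_eq_mul]
    rw [Finset.sum_comm]
    exact Finset.sum_congr rfl fun j _ => by
      rw [Finset.mul_sum]
      exact Finset.sum_congr rfl fun i _ => by simp only [B, LinearMap.mk₂_apply]; ring
  haveI : CharP F p := ringChar.charP F
  haveI : Fact p.Prime := ⟨CharP.char_is_prime F p⟩
  have hdeg : P.totalDegree < Fintype.card (Fin (Module.finrank F U)) := by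
    rw [Fintype.card_fin]
    refine lt_of_le_of_lt ?_ (by omega : 2 < Module.finrank F U)
    refine MvPolynomial.totalDegree_finsetSum_le fun i _ => MvPolynomial.totalDegree_finsetSum_le fun j _ => ?_
    refine (MvPolynomial.totalDegree_mul _ _).trans ?_
    refine (add_le_add (MvPolynomial.totalDegree_mul _ _) le_rfl).trans ?_
    simp
  have hdvd := char_dvd_card_solutions p hdeg
  have h0 : MvPolynomial.eval (0 : Fin (Module.finrank F U) → F) P = 0 := by
    rw [heval, map_zero, S.zero_left]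
  by_contra hc
  push Not at hc
  have hcard : Fintype.card { x : Fin (Module.finrank F U) → F // MvPolynomial.eval x P = 0 } = 1 := by
    refine Fintype.card_eq_one_iff.mpr ⟨⟨0, h0⟩, fun ⟨x, hx⟩ => Subtype.ext ?_⟩
    by_contra hx0
    exact hc _ ((map_ne_zero_iff _ b.equivFun.symm.injective).mpr hx0) (by rw [← heval]; exact hx)
  rw [hcard] at hdvd
  exact (Fact.out : p.Prime).one_lt.ne' (Nat.dvd_one.mp hdvd)

/-- Isotropic vectors are connected by reflections. -/
theorem iso_transitive (h2 : (2 : F) ≠ 0) {P : U → Prop}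
    (hP : ∀ w x : U, S.h w w ≠ 0 → S.h x x = 0 → P x → P (S.refl w x)) {x y : U} (hx : x ≠ 0) (hy : y ≠ 0)
    (hxx : S.h x x = 0) (hyy : S.h y y = 0) (h₀ : P x) : P y := by
  have one : ∀ x y : U, S.h x x = 0 → S.h y y = 0 → S.h x y ≠ 0 → P x → P y := by
    intro x y hxx hyy hxy hPx
    have hn : S.h (x - y) (x - y) ≠ 0 := by
      rw [S.sub_left, S.sub_right, S.sub_right, hxx, hyy, S.comm x y]
      exact fun h => mul_ne_zero h2 hxy (by linear_combination -h)
    have := hP (x - y) x hn hxx hPx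
    rwa [refl_apply, S.sub_left, S.sub_right, S.sub_right, hxx, hyy, S.comm x y,
      show 2 / (0 - S.h x y - (S.h x y - 0)) * (0 - S.h x y) = (1 : F) by
        rw [div_mul_eq_mul_div, div_eq_one_iff_eq (fun h => mul_ne_zero h2 hxy (by linear_combination -h))]
        ring,
      one_smul, sub_sub_cancel] at this
  by_cases hxy : S.h x y = 0
  · obtain ⟨z, hzz, hzx, hzy⟩ : ∃ z, S.h z z = 0 ∧ S.h z x ≠ 0 ∧ S.h z y ≠ 0 := by
      obtain ⟨a, haa, ha⟩ := S.exists_partner hx hxx
      obtain ⟨b, hbb, hb⟩ := S.exists_partner hy hyy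
      by_cases h1 : S.h a y = 0
      · by_cases h3 : S.h b x = 0
        · refine ⟨a + (b - S.h a b • x), ?_, ?_, ?_⟩
          · simp only [S.add_left, S.add_right, S.sub_left, S.sub_right, S.smul_left, S.smul_right', haa, hbb, hxx,
              ha, h3, S.comm a b, S.comm a x, S.comm b x]
            ring
          · simp [S.add_left, S.sub_left, S.smul_left, ha, h3, hxx]
          · simp [S.add_left, S.sub_left, S.smul_left, h1, hb, hxy]
        · exact ⟨b, hbb, h3, by rw [hb]; exact one_ne_zero⟩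
      · exact ⟨a, haa, by rw [ha]; exact one_ne_zero, h1⟩
    exact one z y hzz hyy hzy (one x z hxx hzz (by rwa [S.comm z x]) h₀)
  · exact one x y hxx hyy hxy h₀

end RSpace

end Cfsg.Lib.Classical.TensorF
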