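import Cfsg.Agent.Classical.TensorF.Orth

/-! Spaces of self-adjoint maps invariant under reflections contain the rank-one maps at isotropic vectors. -/

set_option autoImplicit false
set_option linter.unusedSectionVars false
set_option linter.unusedSimpArgs false
set_option linter.style.haveILetI false

namespace Cfsg.Lib.Classical.TensorF

universe u v w

variable {F : Type u} [Field F] [Finite F] {U : Type w} [AddCommGroup U] [Module F U] [FiniteDimensional F U]
  {S : RSpace (RingHom.id F) 1 U}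

namespace RSpace

/-- The symmetric map of two vectors. -/
def sy (S : RSpace (RingHom.id F) 1 U) (u v : U) : Module.End F U := S.rk u v + S.rk v u

theorem sy_apply (u v x : U) : S.sy u v x = S.h x u • v + S.h x v • u := rfl

theorem sy_comm (u v : U) : S.sy u v = S.sy v u := add_comm _ _

theorem refl_sy {w : U} (hw : S.h w w ≠ 0) (u v : U) :
    (S.refl w).comp ((S.sy u v).comp (S.refl w)) = S.sy (S.refl w u) (S.refl w v) :=
  LinearMap.ext fun x => by
    simp only [LinearMap.comp_apply, sy_apply, map_add, map_smul, refl_selfAdj hw]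

theorem refl_rk {w : U} (hw : S.h w w ≠ 0) (u : U) :
    (S.refl w).comp ((S.rk u u).comp (S.refl w)) = S.rk (S.refl w u) (S.refl w u) :=
  LinearMap.ext fun x => by
    simp only [LinearMap.comp_apply, rk_apply, map_smul, refl_selfAdj hw]

theorem perp_nd {u : U} (hu : S.h u u ≠ 0) :
    ∀ x ∈ LinearMap.ker (S.lin u), (∀ y ∈ LinearMap.ker (S.lin u), S.h x y = 0) → x = 0 := by
  intro x hx h
  refine S.nd x fun y => ?_
  have hxu : S.h x u = 0 := hx
  have hy : y - (S.h y u / S.h u u) • u ∈ LinearMap.ker (S.lin u) := by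
    rw [LinearMap.mem_ker, lin_apply, S.sub_left, S.smul_left, div_mul_cancel₀ _ hu, sub_self]
  have := h _ hy
  rwa [S.sub_right, S.smul_right', hxu, mul_zero, sub_zero] at this

theorem finrank_perp {u : U} (hu : S.h u u ≠ 0) :
    Module.finrank F (LinearMap.ker (S.lin u)) + 1 = Module.finrank F U := by
  have h := (S.lin u).finrank_range_add_finrank_ker
  have h1 : LinearMap.range (S.lin u) = ⊤ := by
    refine LinearMap.range_eq_top.mpr fun c => ⟨(c / S.h u u) • u, ?_⟩
    rw [lin_apply, S.smul_left, div_mul_cancel₀ _ hu]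
  rw [h1, finrank_top, Module.finrank_self] at h
  omega

/-- The symmetric maps along an anisotropic `u` in the space reach every vector orthogonal to it. -/
theorem sy_all (h2 : (2 : F) ≠ 0) (h3 : 3 ≤ Module.finrank F U) (hex : ¬ (Nat.card F = 3 ∧ Module.finrank F U = 3))
    {A : Submodule F (Module.End F U)}
    (hinv : ∀ C ∈ A, ∀ w, S.h w w ≠ 0 → (S.refl w).comp (C.comp (S.refl w)) ∈ A) {u v : U} (hu : S.h u u ≠ 0)
    (hv : v ≠ 0) (huv : S.h v u = 0) (hA : S.sy u v ∈ A) {y : U} (hy : S.h y u = 0) : S.sy u y ∈ A := by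
  let Y : Submodule F U :=
    { carrier := {y | S.h y u = 0 ∧ S.sy u y ∈ A}
      add_mem' := fun {a b} ha hb => ⟨by rw [S.add_left, ha.1, hb.1, add_zero], by
        convert A.add_mem ha.2 hb.2 using 1
        exact LinearMap.ext fun x => by simp [sy_apply, S.add_right, add_smul]; abel⟩
      zero_mem' := ⟨S.zero_left u, by
        convert A.zero_mem using 1
        exact LinearMap.ext fun x => by simp [sy_apply, S.zero_right]⟩
      smul_mem' := fun c a ha => ⟨by rw [S.smul_left, ha.1, mul_zero], by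
        convert A.smul_mem c ha.2 using 1
        exact LinearMap.ext fun x => by simp [sy_apply, S.smul_right', smul_smul, mul_comm]⟩ }
  have hrank := finrank_perp hu
  have hYP : Y = LinearMap.ker (S.lin u) :=
    eq_of_invariant h2 (perp_nd hu) (by omega) (fun h => hex ⟨h.1, by omega⟩) (fun x hx => hx.1)
      (fun h => hv ((Submodule.mem_bot F).mp (h ▸ (⟨huv, hA⟩ : v ∈ Y)))) fun w hwP hw x hx => by
        have hwu : S.h w u = 0 := hwP
        have hru : S.refl w u = u := refl_perp (by rw [S.comm w u]; exact hwu)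
        refine ⟨by rw [← hru, refl_form hw, hx.1], ?_⟩
        have := hinv _ hx.2 w hw
        rwa [refl_sy hw, hru] at this
  exact (hYP.symm ▸ (hy : y ∈ LinearMap.ker (S.lin u)) : y ∈ Y).2

theorem exists_sy_mem (h2 : (2 : F) ≠ 0) (h3 : 3 ≤ Module.finrank F U) {A : Submodule F (Module.End F U)}
    (hsym : ∀ C ∈ A, S.SelfAdj C) (hinv : ∀ C ∈ A, ∀ w, S.h w w ≠ 0 → (S.refl w).comp (C.comp (S.refl w)) ∈ A)
    {H : Module.End F U} (hH : H ∈ A) (hns : ∀ c : F, H ≠ c • LinearMap.id) :
    ∃ u v, S.h u u ≠ 0 ∧ v ≠ 0 ∧ S.h v u = 0 ∧ S.sy u v ∈ A := by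
  obtain ⟨u, hu, hne⟩ : ∃ u, S.h u u ≠ 0 ∧ ∀ c : F, H u ≠ c • u := by
    by_contra hc
    push Not at hc
    obtain ⟨e, he, hee⟩ := exists_iso h3 S
    obtain ⟨f, hff, hfe⟩ := S.exists_partner he hee
    have hu₀ : S.h (e + f) (e + f) ≠ 0 := by
      rw [S.add_left, S.add_right, S.add_right, hee, hff, hfe, S.comm f e, hfe, zero_add, add_zero,
        one_add_one_eq_two]
      exact h2
    obtain ⟨κ, hκ⟩ := hc _ hu₀
    let E := LinearMap.ker (H - κ • (LinearMap.id : Module.End F U))
    have hE : E = ⊤ := eq_of_invariant h2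
      (fun x _ h => S.nd x fun y => h y Submodule.mem_top) (by rw [finrank_top]; omega)
      (by rw [finrank_top]; omega) le_top
      (fun h => hu₀ (by
        have h1 : e + f ∈ E := by simp [E, hκ]
        rw [h, Submodule.mem_bot] at h1
        rw [h1, S.zero_left]))
      fun w _ hw x hx => by
        obtain ⟨μ, hμ⟩ := hc w hw
        have hx' : H x = κ • x := by simpa [E, sub_eq_zero] using hx
        have h1 : S.h (H x) w = μ * S.h x w := by rw [hsym H hH, hμ, S.smul_right']
        rw [hx', S.smul_left] at h1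
        simp only [E, LinearMap.mem_ker, LinearMap.sub_apply, LinearMap.smul_apply, LinearMap.id_apply, refl_apply,
          map_sub, map_smul, hx', hμ]
        linear_combination (norm := module) (congrArg (fun t => (2 / S.h w w * t) • w) h1)
    exact hns κ (LinearMap.ext fun x => by simpa [E, sub_eq_zero] using (hE.symm ▸ Submodule.mem_top : x ∈ E))
  set β := S.h (H u) u with hβ
  set v := H u - (β / S.h u u) • u with hv
  have hvu : S.h v u = 0 := by rw [hv, S.sub_left, S.smul_left, div_mul_cancel₀ _ hu, ← hβ, sub_self]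
  refine ⟨u, v, hu, fun h => hne _ (sub_eq_zero.mp h), hvu, ?_⟩
  have := A.smul_mem (S.h u u / 2) (A.sub_mem hH (hinv H hH u hu))
  convert this using 1
  refine LinearMap.ext fun x => ?_
  have hxv : S.h x v = S.h (H x) u - β / S.h u u * S.h x u := by
    rw [hv, S.sub_right, S.smul_right', hsym H hH]
  simp only [sy_apply, LinearMap.smul_apply, LinearMap.sub_apply, LinearMap.comp_apply, refl_apply, map_sub,
    map_smul, S.sub_left, S.smul_left, hxv, ← hβ]
  simp only [hv]
  match_scalars <;> field_simp <;> ring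

theorem exists_rk_mem (h2 : (2 : F) ≠ 0) (h3 : 3 ≤ Module.finrank F U) (hex : ¬ (Nat.card F = 3 ∧ Module.finrank F U = 3))
    {A : Submodule F (Module.End F U)} (hsym : ∀ C ∈ A, S.SelfAdj C)
    (hinv : ∀ C ∈ A, ∀ w, S.h w w ≠ 0 → (S.refl w).comp (C.comp (S.refl w)) ∈ A)
    {H : Module.End F U} (hH : H ∈ A) (hns : ∀ c : F, H ≠ c • LinearMap.id) :
    ∀ z, S.h z z = 0 → S.rk z z ∈ A := by
  obtain ⟨u, v, hu, hv, hvu, huv⟩ := exists_sy_mem h2 h3 hsym hinv hH hns
  obtain ⟨u', z, hu', hz0, hzz, hzu, hmem⟩ :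
      ∃ u' z, S.h u' u' ≠ 0 ∧ z ≠ 0 ∧ S.h z z = 0 ∧ S.h z u' = 0 ∧ S.sy u' z ∈ A := by
    obtain ⟨e, he, hee⟩ := exists_iso h3 S
    obtain ⟨x, hx, hx0⟩ := Submodule.exists_mem_ne_zero_of_ne_bot
      (p := LinearMap.ker ((S.lin e).prod (S.lin u))) fun h => by
        have h1 := ((S.lin e).prod (S.lin u)).finrank_range_add_finrank_ker
        have h4 := (LinearMap.range ((S.lin e).prod (S.lin u))).finrank_le
        rw [Module.finrank_prod, Module.finrank_self] at h4
        rw [h, finrank_bot] at h1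
        omega
    have hxe : S.h x e = 0 := congrArg Prod.fst hx
    have hxu : S.h x u = 0 := congrArg Prod.snd hx
    have hux := sy_all h2 h3 hex hinv hu hv hvu huv hxu
    by_cases hxx : S.h x x = 0
    · exact ⟨u, x, hu, hx0, hxx, hxu, hux⟩
    · rw [sy_comm] at hux
      have hu0 : u ≠ 0 := fun h => hu (by rw [h, S.zero_left])
      exact ⟨x, e, hxx, he, hee, S.swap hxe,
        sy_all h2 h3 hex hinv hxx hu0 (S.swap hxu) hux (S.swap hxe)⟩
  have huz : S.h u' z = 0 := S.swap hzu
  have hz : S.rk z z ∈ A := by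
    set g := (2 : F) • u' + z with hg
    have hgg : S.h g g = 4 * S.h u' u' := by
      rw [hg, S.add_left, S.add_right, S.add_right, S.smul_left, S.smul_left, S.smul_right', S.smul_right', hzz, hzu,
        huz]
      ring
    have h4 : (4 : F) ≠ 0 := by
      rw [show (4 : F) = 2 * 2 by norm_num]
      exact mul_ne_zero h2 h2
    have hgn : S.h g g ≠ 0 := by rw [hgg]; exact mul_ne_zero h4 hu'
    have e1 : S.refl g u' = -u' - z := by
      rw [refl_apply, hgg, hg, S.add_right, S.smul_right', huz, add_zero,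
        show 2 / (4 * S.h u' u') * (2 * S.h u' u') = (1 : F) by field_simp; ring, one_smul, two_smul]
      abel
    have e2 : S.refl g z = z := refl_perp (by rw [hg, S.add_right, S.smul_right', hzu, hzz, mul_zero, add_zero])
    have h1 := hinv _ hmem g hgn
    rw [refl_sy hgn, e1, e2] at h1
    have := A.smul_mem (-(1 / 2) : F) (A.add_mem h1 hmem)
    convert this using 1
    refine LinearMap.ext fun x => ?_
    simp only [rk_apply, sy_apply, LinearMap.smul_apply, LinearMap.add_apply, S.sub_right, S.neg_right]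
    match_scalars <;> field_simp <;> ring
  intro y hyy
  by_cases hy0 : y = 0
  · rw [hy0]
    convert A.zero_mem using 1
    exact LinearMap.ext fun x => by simp [rk_apply]
  exact iso_transitive h2 (P := fun y => S.rk y y ∈ A)
    (fun w x hw _ h => by rw [← refl_rk hw]; exact hinv _ h w hw) hz0 hy0 hzz hyy hz

theorem exists_pairing (h2 : (2 : F) ≠ 0) (h3 : 3 ≤ Module.finrank F U)
    (hex : ¬ (Nat.card F = 3 ∧ Module.finrank F U = 3)) {a b : U} (ha : a ≠ 0) (hb : b ≠ 0) :
    ∃ z, S.h z z = 0 ∧ S.h z a ≠ 0 ∧ S.h z b ≠ 0 := by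
  have hspan : Submodule.span F {p : U | S.h p p = 0} = ⊤ := by
    obtain ⟨e, he, hee⟩ := exists_iso h3 S
    refine eq_of_invariant h2 (fun x _ h => S.nd x fun y => h y Submodule.mem_top) (by rw [finrank_top]; omega)
      (by rw [finrank_top]; omega) le_top
      (fun h => he ((Submodule.mem_bot F).mp (h ▸ Submodule.subset_span (show e ∈ {p : U | S.h p p = 0} from hee))))
      fun w _ hw x hx => ?_
    refine (Submodule.span_le (p := (Submodule.span F {p : U | S.h p p = 0}).comap (S.refl w))).mpr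
      (fun p hp => Submodule.subset_span ?_) hx
    show S.h _ _ = 0
    rw [refl_form hw]
    exact hp
  have hex1 : ∀ c : U, c ≠ 0 → ∃ z, S.h z z = 0 ∧ S.h z c ≠ 0 := fun c hc => by
    by_contra h
    push Not at h
    have : ∀ x : U, S.h x c = 0 := fun x => by
      have hle : Submodule.span F {p : U | S.h p p = 0} ≤ LinearMap.ker (S.lin c) := Submodule.span_le.mpr h
      exact hle (hspan ▸ Submodule.mem_top)
    exact hc (S.nd c fun y => by rw [S.comm y c]; exact this y)
  by_contra hcon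
  push Not at hcon
  obtain ⟨z₀, hz₀, hz₀a⟩ := hex1 a ha
  have hz₀b := hcon z₀ hz₀ hz₀a
  obtain ⟨y, hy, hyb'⟩ := hex1 b hb
  have hya : S.h y a = 0 := by
    by_contra h
    exact hyb' (hcon y hy h)
  by_cases h01 : S.h z₀ y = 0
  · refine hyb' ?_
    have := hcon (z₀ + y) (by rw [S.add_left, S.add_right, S.add_right, hz₀, hy, S.comm z₀ y, h01]; simp)
      (by rwa [S.add_left, hya, add_zero])
    rwa [S.add_left, hz₀b, zero_add] at this
  set z₁ := (S.h z₀ y)⁻¹ • y with hz₁
  have h11 : S.h z₁ z₁ = 0 := by rw [hz₁, S.smul_left, S.smul_right', hy]; ring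
  have h1a : S.h z₁ a = 0 := by rw [hz₁, S.smul_left, hya, mul_zero]
  have h1b : S.h z₁ b ≠ 0 := by rw [hz₁, S.smul_left]; exact mul_ne_zero (inv_ne_zero h01) hyb'
  have h01' : S.h z₀ z₁ = 1 := by rw [hz₁, S.smul_right', inv_mul_cancel₀ h01]
  have h10 : S.h z₁ z₀ = 1 := by rw [S.comm z₀ z₁, h01']
  set Q := LinearMap.ker ((S.lin z₀).prod (S.lin z₁)) with hQ
  have hQ1 : ∀ g ∈ Q, S.h g z₀ = 0 ∧ S.h g z₁ = 0 := fun g hg => ⟨congrArg Prod.fst hg, congrArg Prod.snd hg⟩
  have hQdim : Module.finrank F U ≤ Module.finrank F Q + 2 := by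
    have h1 := ((S.lin z₀).prod (S.lin z₁)).finrank_range_add_finrank_ker
    have h4 := (LinearMap.range ((S.lin z₀).prod (S.lin z₁))).finrank_le
    rw [Module.finrank_prod, Module.finrank_self] at h4
    rw [← hQ] at h1
    omega
  have hpart : ∀ r ∈ Q, r ≠ 0 → ∃ f ∈ Q, S.h f r = 1 := fun r hr hr0 => by
    obtain ⟨f, hf⟩ := S.exists_one hr0
    refine ⟨f - S.h f z₁ • z₀ - S.h f z₀ • z₁, Prod.ext ?_ ?_, ?_⟩
    · show S.h _ z₀ = 0
      rw [S.sub_left, S.sub_left, S.smul_left, S.smul_left, hz₀, h10]; ring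
    · show S.h _ z₁ = 0
      rw [S.sub_left, S.sub_left, S.smul_left, S.smul_left, h11, h01']; ring
    · rw [S.sub_left, S.sub_left, S.smul_left, S.smul_left, S.comm r z₀, S.comm r z₁, (hQ1 r hr).1, (hQ1 r hr).2, hf]
      ring
  have hbad : ∀ g ∈ Q, S.h g g ≠ 0 → ∀ s : F, s ≠ 0 →
      s * S.h z₀ a + S.h g a = 0 ∨ S.h g b - S.h g g / (2 * s) * S.h z₁ b = 0 := by
    intro g hg hgg s hs
    refine or_iff_not_imp_left.mpr fun h => ?_
    have := hcon (s • z₀ + g - (S.h g g / (2 * s)) • z₁) (by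
      simp only [S.add_left, S.add_right, S.sub_left, S.sub_right, S.smul_left, S.smul_right', hz₀, h11, h01', h10,
        (hQ1 g hg).1, (hQ1 g hg).2, S.comm g z₀, S.comm g z₁]
      field_simp
      ring)
      (by simpa [S.sub_left, S.add_left, S.smul_left, h1a] using h)
    simpa [S.sub_left, S.add_left, S.smul_left, hz₀b] using this
  have hnog : ∀ g ∈ Q, S.h g g ≠ 0 → ¬ (3 < Nat.card F ∨ S.h g a = 0) := by
    intro g hg hgg hor
    classical
    haveI : Fintype F := Fintype.ofFinite F
    have hsub : (Finset.univ : Finset F) ⊆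
        {0, -(S.h g a / S.h z₀ a), S.h g g * S.h z₁ b / (2 * S.h g b)} := by
      intro s _
      by_cases hs : s = 0
      · simp [hs]
      simp only [Finset.mem_insert, Finset.mem_singleton]
      rcases hbad g hg hgg s hs with h | h
      · refine Or.inr (Or.inl ?_)
        rw [← neg_div, eq_div_iff hz₀a]
        linear_combination h
      · refine Or.inr (Or.inr ?_)
        have hgb : S.h g b = S.h g g / (2 * s) * S.h z₁ b := by linear_combination h
        rw [hgb]
        field_simp
    rcases hor with hq | hga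
    · have h1 := Finset.card_le_card hsub
      have h5 := Finset.card_le_three (a := (0 : F)) (b := -(S.h g a / S.h z₀ a))
        (c := S.h g g * S.h z₁ b / (2 * S.h g b))
      rw [Finset.card_univ, ← Nat.card_eq_fintype_card] at h1
      omega
    · have hb1 := fun s hs => (hbad g hg hgg s hs).resolve_left fun h => by
        rw [hga, add_zero] at h
        exact mul_ne_zero hs hz₀a h
      have e1 := hb1 1 one_ne_zero
      have e2 := hb1 (-1) (neg_ne_zero.mpr one_ne_zero)
      refine mul_ne_zero hgg h1b ?_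
      linear_combination (norm := (field_simp; ring)) e2 - e1
  obtain ⟨g₀, hg₀, hgg₀⟩ : ∃ g ∈ Q, S.h g g ≠ 0 := by
    obtain ⟨r, hr, hr0⟩ := Q.exists_mem_ne_zero_of_ne_bot fun h => by rw [h, finrank_bot] at hQdim; omega
    obtain ⟨f, hf, hfr⟩ := hpart r hr hr0
    exact exists_aniso h2 hf hr (by rw [hfr]; exact one_ne_zero)
  have hq : ¬ 3 < Nat.card F := fun h => hnog g₀ hg₀ hgg₀ (Or.inl h)
  have h4 : 4 ≤ Module.finrank F U := by
    haveI : Fintype F := Fintype.ofFinite F
    have h5 : 1 < Fintype.card F := Fintype.one_lt_card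
    by_contra h
    refine hex ⟨?_, by omega⟩
    have h6 : Nat.card F ≠ 2 := fun h => h2 (by
      have h7 := Nat.cast_card_eq_zero F
      rw [← Nat.card_eq_fintype_card, h] at h7
      exact_mod_cast h7)
    rw [Nat.card_eq_fintype_card] at hq h6 ⊢
    omega
  obtain ⟨r, hr, hr0⟩ := Submodule.exists_mem_ne_zero_of_ne_bot (p := Q ⊓ LinearMap.ker (S.lin a)) fun h => by
    have h1 := ((S.lin a).comp Q.subtype).finrank_range_add_finrank_ker
    have h5 := (LinearMap.range ((S.lin a).comp Q.subtype)).finrank_le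
    rw [Module.finrank_self] at h5
    have h6 : Module.finrank F (LinearMap.ker ((S.lin a).comp Q.subtype)) = 0 := by
      rw [LinearMap.ker_comp, Submodule.finrank_eq_zero, Submodule.eq_bot_iff]
      intro x hx
      exact Subtype.ext ((Submodule.mem_bot F).mp (h ▸ (⟨x.2, hx⟩ : (x : U) ∈ Q ⊓ LinearMap.ker (S.lin a))))
    omega
  have hra : S.h r a = 0 := hr.2
  have hker : ∀ g ∈ Q, S.h g a = 0 → S.h g g = 0 := fun g hg hga => by
    by_contra h
    exact hnog g hg h (Or.inr hga)
  have hrr := hker r hr.1 hra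
  obtain ⟨f, hf, hfr⟩ := hpart r hr.1 hr0
  set f₀ := f - (S.h f f / 2) • r with hf₀
  have hf₀Q : f₀ ∈ Q := Q.sub_mem hf (Q.smul_mem _ hr.1)
  have hff : S.h f₀ f₀ = 0 := by
    rw [hf₀]
    simp only [S.sub_left, S.sub_right, S.smul_left, S.smul_right', hrr, hfr, S.comm f r]
    field_simp
    ring
  have hfr0 : S.h f₀ r = 1 := by rw [hf₀, S.sub_left, S.smul_left, hfr, hrr, mul_zero, sub_zero]
  have hfa : S.h f₀ a ≠ 0 := fun h => by
    have h' := hker (f₀ + r) (Q.add_mem hf₀Q hr.1) (by rw [S.add_left, h, hra, add_zero])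
    rw [S.add_left, S.add_right, S.add_right, hff, hrr, S.comm f₀ r, hfr0] at h'
    exact h2 (by linear_combination h')
  have e1 := hcon (f₀ + z₁) (by
    rw [S.add_left, S.add_right, S.add_right, hff, h11, S.comm f₀ z₁, (hQ1 _ hf₀Q).2]; simp)
    (by rwa [S.add_left, h1a, add_zero])
  have e2 := hcon (f₀ - z₁) (by
    simp [S.sub_left f₀ z₁, S.sub_right _ f₀ z₁, hff, h11, S.comm f₀ z₁, (hQ1 _ hf₀Q).2])
    (by rwa [S.sub_left, h1a, sub_zero])
  rw [S.add_left] at e1
  rw [S.sub_left] at e2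
  exact mul_ne_zero h2 h1b (by linear_combination e1 - e2)

/-- Such a space moves every nonzero vector to every vector. -/
theorem exists_apply_eq (h2 : (2 : F) ≠ 0) (h3 : 3 ≤ Module.finrank F U)
    (hex : ¬ (Nat.card F = 3 ∧ Module.finrank F U = 3))
    {A : Submodule F (Module.End F U)} (hrk : ∀ z, S.h z z = 0 → S.rk z z ∈ A) {a : U} (ha : a ≠ 0) (b : U) :
    ∃ C ∈ A, C a = b := by
  set I := A.map (LinearMap.applyₗ a) with hI
  suffices htop : I = ⊤ by
    obtain ⟨C, hC, h⟩ := (htop.symm ▸ Submodule.mem_top : b ∈ I)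
    exact ⟨C, hC, h⟩
  by_contra hne
  obtain ⟨Φ, hΦ, hker⟩ := Submodule.exists_le_ker_of_lt_top I (lt_top_iff_ne_top.mpr hne)
  obtain ⟨c, hc⟩ := S.exists_rep Φ
  have hc0 : c ≠ 0 := fun h => hΦ (LinearMap.ext fun x => by rw [← hc, h, S.zero_right, LinearMap.zero_apply])
  obtain ⟨z, hzz, hza, hzc⟩ := exists_pairing h2 h3 hex ha hc0 (S := S)
  have h1 : Φ (S.rk z z a) = 0 := hker ⟨_, hrk z hzz, rfl⟩
  rw [← hc, rk_apply, S.smul_left, S.comm z a] at h1
  exact mul_ne_zero hza hzc h1

end RSpace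

end Cfsg.Lib.Classical.TensorF
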