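import Cfsg.Agent.Classical.TensorF.Map

/-! The partial trace over the second factor. -/

set_option autoImplicit false
set_option linter.unusedSectionVars false
set_option linter.unusedSimpArgs false
set_option linter.style.haveILetI false

namespace Cfsg.Lib.Classical.TensorF

universe u v w x

variable {F : Type u} [Field F] {σ : F →+* F} {ε ε₁ ε₂ : F} {V : Type v} [AddCommGroup V] [Module F V]
  {U : Type w} [AddCommGroup U] [Module F U] {W : Type x} [AddCommGroup W] [Module F W]
  {SU : RSpace σ ε₁ U} {SW : RSpace σ ε₂ W} {SV : RSpace σ ε V}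

namespace TSpace

variable (T : TSpace SU SW SV) [FiniteDimensional F U] [FiniteDimensional F W]

/-- The trace of the block of `L` at `v`, `u`. -/
noncomputable def ptc (L : Module.End F V) (v u : U) : F :=
  LinearMap.trace F W (((T.cv u).comp L).comp (T.τ v))

theorem exists_ptr (L : Module.End F V) (v : U) : ∃ c, ∀ u, SU.h c u = T.ptc L v u := by
  have hcv : ∀ (a : F) (u : U), T.cv (a • u) = σ a • T.cv u := fun a u =>
    LinearMap.ext fun x => T.cv_smul a u x
  have hcva : ∀ (u u' : U), T.cv (u + u') = T.cv u + T.cv u' := fun u u' =>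
    LinearMap.ext fun x => T.cv_add u u' x
  let φ : U →ₗ[F] F :=
    { toFun := fun u => ε₁ * σ (T.ptc L v u)
      map_add' := fun a b => by simp only [ptc, hcva, LinearMap.add_comp, map_add, mul_add]
      map_smul' := fun a b => by
        simp only [ptc, hcv, LinearMap.smul_comp, map_smul, smul_eq_mul, map_mul, SU.invol, RingHom.id_apply]
        ring }
  obtain ⟨c, hc⟩ := SU.exists_rep φ
  refine ⟨c, fun u => ?_⟩
  rw [SU.symm u c, hc]
  show ε₁ * σ (ε₁ * σ (T.ptc L v u)) = _
  rw [map_mul, SU.seps, SU.invol, ← mul_assoc, SU.eps, one_mul]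

/-- The vector of the partial trace. -/
noncomputable def ptrVec (L : Module.End F V) (v : U) : U := Classical.choose (T.exists_ptr L v)

theorem h_ptrVec (L : Module.End F V) (v u : U) : SU.h (T.ptrVec L v) u = T.ptc L v u :=
  Classical.choose_spec (T.exists_ptr L v) u

/-- The partial trace of `L`. -/
noncomputable def ptr : Module.End F V →ₗ[F] Module.End F U where
  toFun L :=
    { toFun := T.ptrVec L
      map_add' := fun a b => SU.ext_left fun u => by
        simp only [SU.add_left, T.h_ptrVec, ptc, map_add, LinearMap.comp_add]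
      map_smul' := fun c a => SU.ext_left fun u => by
        simp only [RingHom.id_apply, SU.smul_left, T.h_ptrVec, ptc, map_smul, LinearMap.comp_smul, smul_eq_mul] }
  map_add' L L' := LinearMap.ext fun v => SU.ext_left fun u => by
    show SU.h (T.ptrVec (L + L') v) u = SU.h (T.ptrVec L v + T.ptrVec L' v) u
    simp only [SU.add_left, T.h_ptrVec, ptc, LinearMap.comp_add, LinearMap.add_comp, map_add]
  map_smul' c L := LinearMap.ext fun v => SU.ext_left fun u => by
    show SU.h (T.ptrVec (c • L) v) u = SU.h (c • T.ptrVec L v) u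
    simp only [SU.smul_left, T.h_ptrVec, ptc, LinearMap.comp_smul, LinearMap.smul_comp, map_smul, smul_eq_mul]

theorem h_ptr (L : Module.End F V) (v u : U) : SU.h (T.ptr L v) u = T.ptc L v u := T.h_ptrVec L v u

/-- The partial trace, extended to the whole space. -/
noncomputable def trOne : Module.End F (Module.End F V) where
  toFun L := T.map (T.ptr L) LinearMap.id
  map_add' L L' := T.ext fun v z => by
    rw [LinearMap.add_apply, T.map_tau, T.map_tau, T.map_tau, map_add, LinearMap.add_apply, map_add,
      LinearMap.add_apply]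
  map_smul' c L := T.ext fun v z => by
    rw [RingHom.id_apply, LinearMap.smul_apply, T.map_tau, T.map_tau, map_smul, LinearMap.smul_apply, map_smul,
      LinearMap.smul_apply]

theorem trOne_tau (L : Module.End F V) (v : U) (z : W) : T.trOne L (T.τ v z) = T.τ (T.ptr L v) z :=
  T.map_tau _ _ v z

theorem ptr_surjective [Nontrivial W] (A : Module.End F U) : ∃ L, T.ptr L = A := by
  obtain ⟨z, hz⟩ := exists_ne (0 : W)
  obtain ⟨φ, hφ⟩ : ∃ φ : Module.Dual F W, φ z = 1 := by
    obtain ⟨φ, hφ⟩ := Module.Projective.exists_dual_ne_zero F hz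
    exact ⟨(φ z)⁻¹ • φ, by rw [LinearMap.smul_apply, smul_eq_mul, inv_mul_cancel₀ hφ]⟩
  refine ⟨T.map A (φ.smulRight z), LinearMap.ext fun v => SU.ext_left fun u => ?_⟩
  rw [T.h_ptr, ptc, show ((T.cv u).comp (T.map A (φ.smulRight z))).comp (T.τ v) = SU.h (A v) u • φ.smulRight z from
    LinearMap.ext fun y => by simp only [LinearMap.comp_apply, T.map_tau, T.cv_tau, LinearMap.smul_apply],
    map_smul, LinearMap.trace_smulRight, hφ, smul_eq_mul, mul_one]

theorem trOne_kron [Nontrivial U] [Nontrivial W] {g : V ≃ₗ[F] V} (hg : T.IsKron g) :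
    g.conj.conj T.trOne = T.trOne := by
  obtain ⟨A, B, hAB⟩ := IsKron.equivs T hg
  have key : ∀ L, T.trOne (g.conj L) = g.conj (T.trOne L) := by
    intro L
    have hu : ∀ u, ∃ u', ∀ x, B.symm (T.cv u (g x)) = T.cv u' x := fun u => by
      obtain ⟨u', hu'⟩ := SU.exists_rep ((SU.lin u).comp A.toLinearMap)
      exact ⟨u', fun x => DFunLike.congr_fun (T.ext
        (L := B.symm.toLinearMap.comp ((T.cv u).comp g.toLinearMap)) (L' := T.cv u') fun a z => by
          simp only [LinearMap.comp_apply, LinearEquiv.coe_coe, hAB, T.cv_tau, map_smul, LinearEquiv.symm_apply_apply,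
            hu', RSpace.lin_apply]) x⟩
    have hsymm : ∀ v z, g.symm (T.τ v z) = T.τ (A.symm v) (B.symm z) := fun v z => by
      rw [LinearEquiv.symm_apply_eq, hAB, A.apply_symm_apply, B.apply_symm_apply]
    have hAu : ∀ u u', (∀ x, B.symm (T.cv u (g x)) = T.cv u' x) → ∀ a, SU.h (A a) u = SU.h a u' := fun u u' h a => by
      obtain ⟨z, hz⟩ := exists_ne (0 : W)
      have := h (T.τ a z)
      rw [hAB, T.cv_tau, T.cv_tau, map_smul, B.symm_apply_apply] at this
      exact smul_left_injective F hz this
    have hptr : ∀ v, T.ptr (g.conj L) v = A (T.ptr L (A.symm v)) := fun v => SU.ext_left fun u => by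
      obtain ⟨u', hu'⟩ := hu u
      rw [hAu u u' hu', T.h_ptr, T.h_ptr]
      unfold ptc
      rw [show ((T.cv u).comp (g.conj L)).comp (T.τ v) =
          (((T.cv u).comp g.toLinearMap).comp (L.comp (T.τ (A.symm v)))).comp B.symm.toLinearMap from
          LinearMap.ext fun z => by
            simp only [LinearMap.comp_apply, LinearEquiv.conj_apply, LinearEquiv.coe_coe, hsymm],
        LinearMap.trace_comp_comm']
      congr 1
      exact LinearMap.ext fun z => hu' _
    refine T.ext fun v z => ?_
    show T.trOne (g.conj L) (T.τ v z) = g (T.trOne L (g.symm (T.τ v z)))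
    rw [hsymm, T.trOne_tau, T.trOne_tau, hAB, hptr, B.apply_symm_apply]
  refine LinearMap.ext fun L => ?_
  show g.conj (T.trOne (g.conj.symm L)) = _
  rw [← key, LinearEquiv.apply_symm_apply]

end TSpace

end Cfsg.Lib.Classical.TensorF
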