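import Cfsg.Agent.Classical.TensorF.Map

/-! The unipotent radical of the stabiliser of an isotropic vector of the second space. -/

set_option autoImplicit false
set_option linter.unusedSectionVars false
set_option linter.unusedSimpArgs false
set_option linter.style.haveILetI false

namespace Cfsg.Lib.Classical.TensorF

universe u v w x

variable {F : Type u} [Field F] {σ : F →+* F} {ε ε₁ ε₂ : F} {V : Type v} [AddCommGroup V] [Module F V]
  {U : Type w} [AddCommGroup U] [Module F U] {W : Type x} [AddCommGroup W] [Module F W]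
  {SU : RSpace σ ε₁ U} {SW : RSpace σ ε₂ W} {SV : RSpace σ ε V}

namespace RSpace

variable (S : RSpace σ ε₂ W)

/-- A radical map at `e`. -/
def rmap (e w : W) (l : F) : W →ₗ[F] W :=
  LinearMap.id + (S.lin e).smulRight (w + l • e) - ε₂ • (S.lin w).smulRight e

theorem rmap_apply (e w : W) (l : F) (z : W) :
    S.rmap e w l z = z + S.h z e • (w + l • e) - (ε₂ * S.h z w) • e := by
  simp [rmap, lin_apply, smul_smul]

/-- The conditions making `rmap` an isometry. -/
def RootData (e w : W) (l : F) : Prop := S.h w e = 0 ∧ S.h w w + σ l + ε₂ * l = 0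

theorem rmap_zero (e z : W) : S.rmap e 0 0 z = z := by simp [rmap_apply, S.zero_right]

theorem rmap_self {e w : W} (he : S.h e e = 0) {l : F} (hd : S.RootData e w l) : S.rmap e w l e = e := by
  rw [rmap_apply, he, S.swap hd.1]; simp

theorem rmap_form {e w : W} (he : S.h e e = 0) {l : F} (hd : S.RootData e w l) (z z' : W) :
    S.h (S.rmap e w l z) (S.rmap e w l z') = S.h z z' := by
  obtain ⟨h1, h2⟩ := hd
  simp only [rmap_apply, S.add_left, S.sub_left, S.smul_left, S.add_right, S.sub_right, S.smul_right, he, h1,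
    S.swap h1, map_mul, map_add, map_sub, S.seps, S.invol, S.symm z' w, S.symm z' e, smul_add, smul_smul]
  linear_combination (S.h z e * σ (S.h z' e)) * h2 +
    (-(S.h z w * σ (S.h z' e))) * S.eps

theorem rmap_comp {e w w' : W} (he : S.h e e = 0) {l l' : F} (hd : S.RootData e w l) (hd' : S.RootData e w' l')
    (z : W) :
    S.rmap e w l (S.rmap e w' l' z) = S.rmap e (w + w') (l + l' - ε₂ * S.h w' w) z := by
  simp only [rmap_apply, S.add_left, S.sub_left, S.smul_left, S.add_right, he, hd'.1, S.swap hd.1]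
  module

theorem rootData_add {e w w' : W} {l l' : F} (hd : S.RootData e w l) (hd' : S.RootData e w' l') :
    S.RootData e (w + w') (l + l' - ε₂ * S.h w' w) := by
  refine ⟨by rw [S.add_left, hd.1, hd'.1, add_zero], ?_⟩
  simp only [S.add_left, S.add_right, map_add, map_sub, map_mul, S.seps, S.symm w' w]
  linear_combination hd.2 + hd'.2 - S.h w' w * S.eps

theorem rootData_neg {e w : W} {l : F} (hd : S.RootData e w l) : S.RootData e (-w) (-l - ε₂ * S.h w w) := by
  refine ⟨by rw [S.neg_left, hd.1, neg_zero], ?_⟩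
  simp only [S.neg_left, S.neg_right, neg_neg, map_sub, map_neg, map_mul, S.seps]
  have h := S.symm w w
  linear_combination -hd.2 - S.h w w * S.eps + h

theorem rootData_zero (e : W) : S.RootData e 0 0 := ⟨S.zero_left e, by simp [S.zero_left]⟩

theorem exists_rootData {e w : W} (hw : S.h w e = 0) : ∃ l, S.RootData e w l := by
  obtain ⟨c, hc⟩ := S.split w
  refine ⟨-(ε₂ * c), hw, ?_⟩
  rw [hc, map_neg, map_mul, S.seps]
  linear_combination (-c) * S.eps

theorem rmap_res {e w : W} (he : S.h e e = 0) {l : F} (hd : S.RootData e w l) (z : W) :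
    (S.rmap e w l - (LinearMap.id : W →ₗ[F] W)) ((S.rmap e w l - (LinearMap.id : W →ₗ[F] W))
      ((S.rmap e w l - (LinearMap.id : W →ₗ[F] W)) z)) = 0 := by
  simp only [LinearMap.sub_apply, LinearMap.id_apply, rmap_apply, S.add_left, S.sub_left, S.smul_left, he, hd.1,
    S.swap hd.1]
  module

/-- The radical map as an automorphism. -/
noncomputable def rmapEquiv {e w : W} (he : S.h e e = 0) {l : F} (hd : S.RootData e w l) : W ≃ₗ[F] W :=
  LinearEquiv.ofLinearMap (S.rmap e w l) (S.rmap e (-w) (-l - ε₂ * S.h w w))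
    (LinearMap.ext fun z => by
      rw [LinearMap.comp_apply, S.rmap_comp he hd (S.rootData_neg hd), LinearMap.id_apply]
      rw [add_neg_cancel, S.neg_left,
        show l + (-l - ε₂ * S.h w w) - ε₂ * -S.h w w = 0 by ring, S.rmap_zero])
    (LinearMap.ext fun z => by
      rw [LinearMap.comp_apply, S.rmap_comp he (S.rootData_neg hd) hd, LinearMap.id_apply]
      rw [neg_add_cancel, S.neg_right,
        show -l - ε₂ * S.h w w + l - ε₂ * -S.h w w = 0 by ring, S.rmap_zero])

theorem rmapEquiv_apply {e w : W} (he : S.h e e = 0) {l : F} (hd : S.RootData e w l) (z : W) :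
    S.rmapEquiv he hd z = S.rmap e w l z := rfl

end RSpace

namespace TSpace

variable (T : TSpace SU SW SV)

/-- `g` is a radical map at `e` on the second factor. -/
def IsRootW (e : W) (g : V ≃ₗ[F] V) : Prop :=
  ∃ w l, SW.RootData e w l ∧ ∀ v z, g (T.τ v z) = T.τ v (SW.rmap e w l z)

/-- `g` is a transvection of the second factor. -/
def IsTW (e : W) (l : F) (g : V ≃ₗ[F] V) : Prop := ∀ v z, g (T.τ v z) = T.τ v (z + (l * SW.h z e) • e)

/-- The radical maps at `e`. -/
def radK (e : W) (he : SW.h e e = 0) : Subgroup (V ≃ₗ[F] V) where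
  carrier := {g | T.IsRootW e g}
  one_mem' := ⟨0, 0, SW.rootData_zero e, fun v z => by rw [SW.rmap_zero]; rfl⟩
  mul_mem' := by
    rintro g g' ⟨w, l, hd, h⟩ ⟨w', l', hd', h'⟩
    exact ⟨_, _, SW.rootData_add hd hd', fun v z => by
      show g (g' _) = _
      rw [h', h, SW.rmap_comp he hd hd']⟩
  inv_mem' := by
    rintro g ⟨w, l, hd, h⟩
    refine ⟨_, _, SW.rootData_neg hd, fun v z => ?_⟩
    show g.symm _ = _
    rw [LinearEquiv.symm_apply_eq, h, SW.rmap_comp he hd (SW.rootData_neg hd)]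
    rw [add_neg_cancel, SW.neg_left,
      show l + (-l - ε₂ * SW.h w w) - ε₂ * -SW.h w w = 0 by ring, SW.rmap_zero]

variable [FiniteDimensional F U] [FiniteDimensional F W]

theorem exists_rootW {e w : W} (he : SW.h e e = 0) {l : F} (hd : SW.RootData e w l) :
    ∃ g, (∀ v z, g (T.τ v z) = T.τ v (SW.rmap e w l z)) ∧ T.IsKron g ∧ SV.IsIsom g ∧ Unip g := by
  obtain ⟨g, hg, hk⟩ := T.exists_kron (LinearEquiv.refl F U) (SW.rmapEquiv he hd)
  refine ⟨g, hg, hk, T.isom_of_tau fun v z v' z' => ?_, T.unip_of_right (B := SW.rmap e w l) hg fun z => SW.rmap_res he hd z⟩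
  rw [hg, hg, T.form]
  exact congrArg (_ * ·) (SW.rmap_form he hd z z')

variable {T} {G X : Subgroup (V ≃ₗ[F] V)}

theorem Mid.exists_rootX (hX : T.Mid G X) {e w : W} (he : SW.h e e = 0) {l : F} (hd : SW.RootData e w l) :
    ∃ g ∈ X, T.IsKron g ∧ ∀ v z, g (T.τ v z) = T.τ v (SW.rmap e w l z) := by
  obtain ⟨g, hg, hk, hi, hu⟩ := T.exists_rootW he hd
  exact ⟨g, hX.kronX hi hu hk, hk, hg⟩

theorem Mid.exists_tW (hX : T.Mid G X) {e : W} (he : SW.h e e = 0) {l : F} (hl : σ l + ε₂ * l = 0) :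
    ∃ g ∈ X, T.IsKron g ∧ T.IsTW e l g := by
  obtain ⟨g, hg, hk, hgv⟩ := hX.exists_rootX he (l := l) (w := 0)
    ⟨SW.zero_left e, by rw [SW.zero_left, zero_add, hl]⟩
  refine ⟨g, hg, hk, fun v z => ?_⟩
  rw [hgv, SW.rmap_apply, SW.zero_right, mul_zero, zero_smul, sub_zero, zero_add, smul_smul, mul_comm]

theorem IsTW.res_apply {e : W} {l : F} {g : V ≃ₗ[F] V} (h : T.IsTW e l g) (x : V) :
    res g x = l • T.τ (T.cw e x) e := by
  refine DFunLike.congr_fun (T.ext (L := res g) (L' := l • (T.τ.flip e).comp (T.cw e)) fun v z => ?_) x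
  rw [TensorF.res_apply, h, map_add, add_sub_cancel_left, LinearMap.smul_apply, LinearMap.comp_apply,
    LinearMap.flip_apply, T.cw_tau, map_smul, map_smul, LinearMap.smul_apply, smul_smul]

theorem Mid.radK_le (hX : T.Mid G X) {e : W} (he : SW.h e e = 0) : T.radK e he ≤ X := by
  rintro g ⟨w, l, hd, h⟩
  obtain ⟨g', hg', -, h'⟩ := hX.exists_rootX he hd
  rwa [T.ext_equiv (g := g) (g' := g') fun v z => by rw [h, h']]

theorem radK_unip {e : W} {he : SW.h e e = 0} {g : V ≃ₗ[F] V} (hg : g ∈ T.radK e he) : Unip g := by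
  obtain ⟨w, l, hd, h⟩ := hg
  exact T.unip_of_right (B := SW.rmap e w l) h fun z => SW.rmap_res he hd z

theorem radK_isKron {e : W} {he : SW.h e e = 0} {g : V ≃ₗ[F] V} (hg : g ∈ T.radK e he) : T.IsKron g := by
  obtain ⟨w, l, -, h⟩ := hg
  exact ⟨LinearMap.id, _, h⟩

variable (T)

/-- The radical group at `e` has more elements than `⟨e, f⟩^⊥`. -/
theorem card_perp_lt [Finite F] [FiniteDimensional F V] [Nontrivial U] {e f : W} (he : SW.h e e = 0)
    (hf : SW.h f e = 1) {l₀ : F} (hl₀ : l₀ ≠ 0) (hl₀' : σ l₀ + ε₂ * l₀ = 0) :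
    Nat.card ↥(LinearMap.ker (SW.lin e) ⊓ LinearMap.ker (SW.lin f)) < Nat.card ↥(T.radK e he) := by
  classical
  haveI : Finite V := Module.finite_of_finite F
  haveI : Finite W := Module.finite_of_finite F
  haveI : Finite (V ≃ₗ[F] V) := Finite.of_injective (fun g => (g : V → V)) DFunLike.coe_injective
  have hex : ∀ w : ↥(LinearMap.ker (SW.lin e) ⊓ LinearMap.ker (SW.lin f)), ∃ g : T.radK e he, ∃ l : F,
      ((w : W) = 0 → l = 0) ∧ ∀ v z, g.1 (T.τ v z) = T.τ v (SW.rmap e w l z) := fun w => by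
    obtain ⟨l, hw0, hd⟩ : ∃ l, ((w : W) = 0 → l = 0) ∧ SW.RootData e w l := by
      by_cases h0 : (w : W) = 0
      · exact ⟨0, fun _ => rfl, h0 ▸ SW.rootData_zero e⟩
      · obtain ⟨l, hd⟩ := SW.exists_rootData (e := e) (w := (w : W)) w.2.1
        exact ⟨l, fun h => absurd h h0, hd⟩
    obtain ⟨g, hg, -, -, -⟩ := T.exists_rootW he hd
    exact ⟨⟨g, _, l, hd, hg⟩, l, hw0, hg⟩
  choose g l hl0 hg using hex
  have hd₀ : SW.RootData e 0 l₀ := ⟨SW.zero_left e, by rw [SW.zero_left, zero_add, hl₀']⟩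
  obtain ⟨g₀, hg₀, -, -, -⟩ := T.exists_rootW he hd₀
  obtain ⟨v, hv⟩ := exists_ne (0 : U)
  have hef : SW.h e f ≠ 0 := by rw [SW.symm, hf, map_one, mul_one]; exact SW.eps_ne
  have heq : ∀ (w w' : ↥(LinearMap.ker (SW.lin e) ⊓ LinearMap.ker (SW.lin f))) (a b : F),
      T.τ v (SW.rmap e w a f) = T.τ v (SW.rmap e w' b f) → w = w' ∧ a = b := fun w w' a b h => by
    have h2 := T.tau_inj_right hv h
    have hwf : SW.h (w : W) f = 0 := w.2.2
    have hwf' : SW.h (w' : W) f = 0 := w'.2.2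
    rw [SW.rmap_apply, SW.rmap_apply, hf, one_smul, one_smul, SW.swap hwf, SW.swap hwf', mul_zero, zero_smul, sub_zero,
      sub_zero, add_left_cancel_iff] at h2
    have h3 := congrArg (fun z => SW.h z f) h2
    simp only [SW.add_left, SW.smul_left, hwf, hwf', zero_add] at h3
    have h4 := mul_right_cancel₀ hef h3
    rw [h4] at h2
    exact ⟨Subtype.ext (add_right_cancel h2), h4⟩
  refine lt_of_lt_of_le (Nat.lt_succ_self _) ?_
  rw [Nat.succ_eq_add_one, ← Finite.card_option]
  refine Nat.card_le_card_of_injective (fun o => o.elim ⟨g₀, _, l₀, hd₀, hg₀⟩ g) ?_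
  have hno : ∀ w, g w ≠ ⟨g₀, _, l₀, hd₀, hg₀⟩ := fun w h => by
    have h1 := hg w v f
    rw [h] at h1
    change g₀ (T.τ v f) = _ at h1
    rw [hg₀] at h1
    obtain ⟨hw, hl⟩ := heq 0 w l₀ (l w) h1
    exact hl₀ (hl.trans (hl0 w (by rw [← hw]; rfl)))
  rintro (_ | w) (_ | w') h
  · rfl
  · exact absurd h.symm (hno w')
  · exact absurd h (hno w)
  · congr 1
    refine (heq w w' (l w) (l w') ?_).1
    rw [← hg w v f, ← hg w' v f, show g w = g w' from h]

end TSpace

end Cfsg.Lib.Classical.TensorF
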