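import Cfsg.Agent.Classical.TensorF.Stab
import Cfsg.Agent.Classical.TensorF.Average
import Cfsg.Agent.Classical.TensorF.PTrace
import Cfsg.Agent.Classical.TensorQ.Rooted

/-! If the radical elements of `X` are Kronecker products, so is all of `X`. -/

set_option autoImplicit false
set_option linter.unusedSectionVars false
set_option linter.unusedSimpArgs false
set_option linter.style.haveILetI false

namespace Cfsg.Lib.Classical.TensorF

open Cfsg.Lib.Classical.TensorQ (Rooted)

universe u v w x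

variable {F : Type u} [Field F] {σ : F →+* F} {ε ε₁ ε₂ : F} {V : Type v} [AddCommGroup V] [Module F V]
  {U : Type w} [AddCommGroup U] [Module F U] {W : Type x} [AddCommGroup W] [Module F W]
  {SU : RSpace σ ε₁ U} {SW : RSpace σ ε₂ W} {SV : RSpace σ ε V}

theorem exists_ker_sq {n : Module.End F W} : ∀ N : ℕ, n ^ N = 0 → n ≠ 0 → ∃ w, n w ≠ 0 ∧ n (n w) = 0
  | 0, h, hn => absurd (LinearMap.ext fun x => by
      have := DFunLike.congr_fun h (n x)
      simpa using this) hn
  | N + 1, h, hn => by
    by_cases hN : n ^ N = 0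
    · exact exists_ker_sq N hN hn
    obtain ⟨w₀, hw₀⟩ : ∃ w, (n ^ N) w ≠ 0 := by
      by_contra hc
      push Not at hc
      exact hN (LinearMap.ext hc)
    cases N with
    | zero => exact absurd (by simpa using h) hn
    | succ M =>
      refine ⟨(n ^ M) w₀, ?_, ?_⟩
      · rwa [pow_succ', Module.End.mul_apply] at hw₀
      · have := DFunLike.congr_fun h w₀
        rwa [pow_succ', pow_succ', Module.End.mul_apply, Module.End.mul_apply] at this

theorem RSpace.two_mul_le [FiniteDimensional F V] (hσ : σ = RingHom.id F) (S : RSpace σ ε V) (P : Submodule F V)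
    (hP : ∀ x ∈ P, ∀ y ∈ P, S.h x y = 0) : 2 * Module.finrank F P ≤ Module.finrank F V := by
  subst hσ
  let L : P →ₗ[F] Module.Dual F V :=
    { toFun := fun x =>
        { toFun := fun y => S.h (x : V) y
          map_add' := fun a b => S.add_right _ a b
          map_smul' := fun c a => S.smul_right c _ a }
      map_add' := fun a b => LinearMap.ext fun y => S.add_left _ _ y
      map_smul' := fun c a => LinearMap.ext fun y => S.smul_left c _ y }
  have hL : Function.Injective L := by
    rw [← LinearMap.ker_eq_bot, LinearMap.ker_eq_bot']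
    exact fun x hx => Subtype.ext (S.nd _ fun y => DFunLike.congr_fun hx y)
  have h1 : LinearMap.range L ≤ P.dualAnnihilator := by
    rintro _ ⟨x, rfl⟩
    exact (Submodule.mem_dualAnnihilator _).mpr fun y hy => hP x x.2 y hy
  have h2 := Submodule.finrank_mono h1
  rw [LinearMap.finrank_range_of_inj hL] at h2
  have h3 := Subspace.finrank_add_finrank_dualAnnihilator_eq P
  omega

namespace TSpace

variable {T : TSpace SU SW SV} [FiniteDimensional F U] [FiniteDimensional F W] [FiniteDimensional F V] [Finite F]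
  {G X : Subgroup (V ≃ₗ[F] V)}

/-- The standing hypotheses. -/
structure Data (T : TSpace SU SW SV) : Prop where
  nU : Nontrivial U
  first : Module.finrank F U < Module.finrank F W ∨
    (σ = RingHom.id F ∧ ε₁ = 1 ∧ (2 : F) ≠ 0 ∧ (4 ≤ Module.finrank F W ∨ 5 ≤ Module.finrank F U ∨ Module.finrank F U = 3))
  skew : ∃ l : F, l ≠ 0 ∧ σ l + ε₂ * l = 0
  iso : ∃ e : W, e ≠ 0 ∧ SW.h e e = 0

/-- A transvection of the second factor lying in `X`. -/
def IsRootT (T : TSpace SU SW SV) (X : Subgroup (V ≃ₗ[F] V)) (g : V ≃ₗ[F] V) : Prop :=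
  g ∈ X ∧ ∃ e : W, ∃ l : F, e ≠ 0 ∧ SW.h e e = 0 ∧ l ≠ 0 ∧ σ l + ε₂ * l = 0 ∧ T.IsTW e l g

theorem IsTW.isKron {e : W} {l : F} {g : V ≃ₗ[F] V} (h : T.IsTW e l g) : T.IsKron g :=
  ⟨LinearMap.id, LinearMap.id + l • (SW.lin e).smulRight e, fun v z => by
    rw [h]; simp [RSpace.lin_apply, smul_smul]⟩

theorem IsTW.pow {e : W} (he : SW.h e e = 0) {l : F} {g : V ≃ₗ[F] V} (h : T.IsTW e l g) (n : ℕ) :
    T.IsTW e (n * l) (g ^ n) := by
  induction n with
  | zero => intro v z; simp
  | succ n ih =>
    intro v z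
    rw [pow_succ]
    show (g ^ n) (g _) = _
    rw [h, ih, SW.add_left, SW.smul_left, he, mul_zero, add_zero, add_assoc, ← add_smul]
    congr 3
    push_cast
    ring

theorem exists_normal_form [Nontrivial U] [Nontrivial W] (p k : ℕ) [hp : Fact p.Prime] [CharP F p] {g : V ≃ₗ[F] V}
    (hg : T.IsKron g) (hgp : g ^ p ^ k = 1) :
    ∃ (A : Module.End F U) (B : Module.End F W), (∀ v z, g (T.τ v z) = T.τ (A v) (B z)) ∧
      (A - 1) ^ p ^ k = 0 ∧ (B - 1) ^ p ^ k = 0 := by
  obtain ⟨A, B, hAB⟩ := hg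
  let A' : Module.End F U := A
  let B' : Module.End F W := B
  have hpow : ∀ (n : ℕ) v z, (g ^ n) (T.τ v z) = T.τ ((A' ^ n) v) ((B' ^ n) z) := by
    intro n
    induction n with
    | zero => intro v z; rfl
    | succ n ih =>
      intro v z
      rw [pow_succ, pow_succ, pow_succ]
      show (g ^ n) (g _) = _
      rw [hAB, ih]
      rfl
  have h1 : ∀ v z, T.τ ((A' ^ p ^ k) v) ((B' ^ p ^ k) z) = T.τ v z := fun v z => by rw [← hpow, hgp]; rfl
  obtain ⟨v₀, hv₀⟩ := exists_ne (0 : U)
  obtain ⟨d, hd⟩ := SU.exists_one hv₀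
  obtain ⟨z₀, hz₀⟩ := exists_ne (0 : W)
  obtain ⟨c, hc⟩ : ∃ c : F, ∀ z, c • (B' ^ p ^ k) z = z := by
    refine ⟨ε₁ * SU.h ((A' ^ p ^ k) v₀) d, fun z => ?_⟩
    have := congrArg (fun y => ε₁ • T.cv d y) (h1 v₀ z)
    simp only [T.cv_tau, SU.symm d v₀, hd, map_one, mul_one, smul_smul, SU.eps, one_smul] at this
    exact this
  have hc0 : c ≠ 0 := fun h => hz₀ (by rw [← hc z₀, h, zero_smul])
  have hB : B' ^ p ^ k = c⁻¹ • (1 : Module.End F W) := LinearMap.ext fun z => by
    rw [LinearMap.smul_apply, Module.End.one_apply]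
    nth_rewrite 2 [← hc z]
    rw [smul_smul, inv_mul_cancel₀ hc0, one_smul]
  have hA : A' ^ p ^ k = c • (1 : Module.End F U) := LinearMap.ext fun v => by
    have h2 : T.τ (c⁻¹ • (A' ^ p ^ k) v) z₀ = T.τ v z₀ := by
      rw [map_smul, LinearMap.smul_apply, ← map_smul]
      have := h1 v z₀
      rwa [hB, LinearMap.smul_apply, Module.End.one_apply] at this
    rw [LinearMap.smul_apply, Module.End.one_apply]
    conv_rhs => rw [← T.tau_inj_left hz₀ h2, smul_smul, mul_inv_cancel₀ hc0, one_smul]
  obtain ⟨μ, hμ⟩ := (Finite.injective_iff_surjective.mp (iterateFrobenius_inj F p k)) c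
  rw [iterateFrobenius_def] at hμ
  have hμ0 : μ ≠ 0 := fun h => hc0 (by rw [← hμ, h, zero_pow (pow_ne_zero k hp.out.ne_zero)])
  haveI : CharP (Module.End F U) p := charP_of_injective_algebraMap (FaithfulSMul.algebraMap_injective F _) p
  haveI : CharP (Module.End F W) p := charP_of_injective_algebraMap (FaithfulSMul.algebraMap_injective F _) p
  refine ⟨μ⁻¹ • A', μ • B', fun v z => ?_, ?_, ?_⟩
  · show _ = T.τ (μ⁻¹ • A v) (μ • B z)
    rw [hAB, map_smul T.τ, LinearMap.smul_apply, map_smul, smul_smul, inv_mul_cancel₀ hμ0, one_smul]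
  · rw [sub_pow_char_pow_of_commute _ _ (Commute.one_right _), one_pow, smul_pow, hA, smul_smul, inv_pow, hμ,
      inv_mul_cancel₀ hc0, one_smul, sub_self]
  · rw [sub_pow_char_pow_of_commute _ _ (Commute.one_right _), one_pow, smul_pow, hB, smul_smul, hμ,
      mul_inv_cancel₀ hc0, one_smul, sub_self]

theorem exists_rootL (hX : T.Mid G X) {d w : U} (hd : SU.h d d = 0) {l : F} (hr : SU.RootData d w l) :
    ∃ g ∈ X, ∀ v z, g (T.τ v z) = T.τ (SU.rmap d w l v) z := by
  obtain ⟨g, hg, hk⟩ := T.exists_kron (SU.rmapEquiv hd hr) (LinearEquiv.refl F W)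
  refine ⟨g, hX.kronX (T.isom_of_tau fun v z v' z' => ?_)
    (T.unip_of_left (A := SU.rmap d w l) hg fun z => SU.rmap_res hd hr z) hk, hg⟩
  rw [hg, hg, T.form]
  exact congrArg (· * _) (SU.rmap_form hd hr v v')

theorem le_range_map_right {N : Module.End F W} (hN : N ≠ 0) :
    Module.finrank F U ≤ Module.finrank F (LinearMap.range (T.map LinearMap.id N)) := by
  obtain ⟨z, hz⟩ : ∃ z, N z ≠ 0 := by
    by_contra hc
    push Not at hc
    exact hN (LinearMap.ext hc)
  have hinj : Function.Injective ((T.map LinearMap.id N).comp (T.τ.flip z)) := fun a b h => by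
    rw [LinearMap.comp_apply, LinearMap.comp_apply, LinearMap.flip_apply, LinearMap.flip_apply, T.map_tau,
      T.map_tau] at h
    exact T.tau_inj_left hz h
  have := LinearMap.finrank_range_of_inj hinj
  have := Submodule.finrank_mono (LinearMap.range_comp_le_range (T.τ.flip z) (T.map LinearMap.id N))
  omega

theorem le_range_map_left (N : Module.End F U) :
    Module.finrank F W * Module.finrank F (LinearMap.range N) ≤
      Module.finrank F (LinearMap.range (T.map N LinearMap.id)) := by
  let ι : (Fin (Module.finrank F W) → LinearMap.range N) →ₗ[F] V :=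
    ∑ i, ((T.τ.flip (Module.finBasis F W i)).comp (LinearMap.range N).subtype).comp (LinearMap.proj i)
  have hι : ∀ x, ι x = ∑ i, T.τ (x i : U) (Module.finBasis F W i) := fun x => by
    simp [ι, LinearMap.coe_sum, Finset.sum_apply]
  have hinj : Function.Injective ι := fun x y h => funext fun j => Subtype.ext (by
    have h1 := congrArg (T.cw (SW.dualVec j)) h
    simp only [hι, map_sum, T.cw_tau, SW.h_dualVec, Module.Basis.coord_apply, Module.Basis.repr_self] at h1
    simpa [Finsupp.single_apply, ite_smul] using h1)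
  have hle : LinearMap.range ι ≤ LinearMap.range (T.map N LinearMap.id) := by
    rintro _ ⟨x, rfl⟩
    rw [hι]
    refine sum_mem fun i _ => ?_
    obtain ⟨a, ha⟩ := (x i).2
    exact ⟨T.τ a (Module.finBasis F W i), by rw [T.map_tau, ha, LinearMap.id_apply]⟩
  have h1 := Submodule.finrank_mono hle
  rw [LinearMap.finrank_range_of_inj hinj, Module.finrank_pi_fintype, Finset.sum_const, Finset.card_univ,
    Fintype.card_fin, smul_eq_mul] at h1
  exact h1

theorem finrank_le_res [Nontrivial U] [Nontrivial W] {m : V ≃ₗ[F] V} (hm : T.IsKron m) {A : Module.End F U}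
    {B : Module.End F W} (hAB : ∀ v z, m (T.τ v z) = T.τ (A v) (B z)) {N : ℕ} (hA : (A - 1) ^ N = 0) (hne : A ≠ 1) :
    Module.finrank F W ≤ Module.finrank F (LinearMap.range (res m)) := by
  obtain ⟨u, hu⟩ : ∃ u, (A - 1) u ≠ 0 := by
    by_contra hc
    push Not at hc
    exact sub_ne_zero.mpr hne (LinearMap.ext hc)
  have hindep : ∀ c : F, (A - 1) u ≠ c • u := fun c hc => by
    have hp' : ∀ n : ℕ, ((A - 1) ^ n) u = c ^ n • u := by
      intro n
      induction n with
      | zero => simp
      | succ n ih => rw [pow_succ, Module.End.mul_apply, hc, map_smul, ih, smul_smul, pow_succ']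
    have := hp' (N)
    rw [hA, LinearMap.zero_apply, eq_comm, smul_eq_zero] at this
    rcases this with h | h
    · exact hu (by rw [hc, eq_zero_of_pow_eq_zero h, zero_smul])
    · exact hu (by rw [hc, h, smul_zero])
  have hinj : Function.Injective ((res m).comp (T.τ u)) := by
    rw [← LinearMap.ker_eq_bot, LinearMap.ker_eq_bot']
    intro z hz
    obtain ⟨d, hd1, hd2⟩ : ∃ d, SU.h ((A - 1) u) d ≠ 0 ∧ SU.h u d = 0 := by
      by_contra hc
      push Not at hc
      have hu0 : u ≠ 0 := fun h => hu (by rw [h, map_zero])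
      obtain ⟨c, hc'⟩ := SU.mem_line hu0 (z := (A - 1) u) fun d hd => by
        by_contra h
        exact hc d h hd
      exact hindep c hc'
    have h2 : T.cv d (T.τ (A u) (B z) - T.τ u z) = 0 := by
      rw [show T.τ (A u) (B z) - T.τ u z = 0 by
        rw [← hAB]; exact hz, map_zero]
    rw [map_sub, T.cv_tau, T.cv_tau, hd2, zero_smul, sub_zero] at h2
    have hAd : SU.h (A u) d ≠ 0 := by
      rw [LinearMap.sub_apply, Module.End.one_apply, SU.sub_left, hd2, sub_zero] at hd1
      exact hd1
    have hBz := (smul_eq_zero.mp h2).resolve_left hAd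
    obtain ⟨A', B', hAB'⟩ := IsKron.equivs T hm
    have h3 := hAB u z
    rw [hBz, map_zero, ← m.map_zero] at h3
    exact T.tau_eq_zero (fun h => hu (by rw [h, map_zero])) (m.injective h3)
  have := LinearMap.finrank_range_of_inj hinj
  have h3 := Submodule.finrank_mono (LinearMap.range_comp_le_range (T.τ u) (res m))
  omega

/-- For a symmetric first space, the first factor of a conjugate of a transvection is trivial. -/
theorem first_eq_one (hσ : σ = RingHom.id F) (hε : ε₁ = 1) (h2 : (2 : F) ≠ 0)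
    (hdim : 4 ≤ Module.finrank F W ∨ 5 ≤ Module.finrank F U ∨ Module.finrank F U = 3) [Nontrivial U] [Nontrivial W]
    (hs : 3 ≤ Module.finrank F W ∨ ∃ l : F, l ≠ 0 ∧ σ l + ε₂ * l = 0) (hX : T.Mid G X) (hR : T.RadScalar X)
    {g m : V ≃ₗ[F] V} (hgX : g ∈ X) {e : W} (he : e ≠ 0) (hee : SW.h e e = 0) {A : Module.End F U}
    {B : Module.End F W} (hAB : ∀ v z, m (T.τ v z) = T.τ (A v) (B z)) {N : ℕ} (hA : (A - 1) ^ N = 0) (hne : A ≠ 1)
    (hsq : ∀ x, res m (res m x) = 0) (hrank : Module.finrank F (LinearMap.range (res m)) ≤ Module.finrank F U)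
    (hmem : ∀ v, ∃ y, res m y = g (T.τ v e)) (hm : T.IsKron m) (hmI : SV.IsIsom m) : False := by
  subst hσ hε
  set n : Module.End F U := A - 1 with hn0
  have hn : n ≠ 0 := sub_ne_zero.mpr hne
  have hAn : ∀ v, A v = v + n v := fun v => by simp [hn0]
  set n' : Module.End F W := B - 1 with hn'
  have hBn : ∀ z, B z = z + n' z := fun z => by simp [hn']
  have hres : ∀ v z, res m (T.τ v z) = T.τ (n v) (B z) + T.τ v (n' z) := fun v z => by
    rw [TensorF.res_apply, hAB, hn0, hn', LinearMap.sub_apply, LinearMap.sub_apply, Module.End.one_apply,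
      Module.End.one_apply, map_sub T.τ, LinearMap.sub_apply, map_sub (T.τ v)]
    abel
  obtain ⟨u, hu, hu2⟩ := exists_ker_sq N hA hn
  obtain ⟨u₀, hu₀⟩ := exists_ne (0 : U)
  obtain ⟨z₀, hz₀⟩ := exists_ne (0 : W)
  have hu0 : u ≠ 0 := fun h => hu (by rw [h, map_zero])
  -- the second factor is trivial
  obtain ⟨d, hd1, hd2⟩ : ∃ d, SU.h (n u) d ≠ 0 ∧ SU.h u d = 0 := by
    by_contra hc
    push Not at hc
    obtain ⟨c, hc'⟩ := SU.mem_line hu0 (z := n u) fun d hd => by
      by_contra h
      exact hc d h hd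
    rw [hc', map_smul, hc', smul_smul, smul_eq_zero, mul_self_eq_zero] at hu2
    rcases hu2 with h | h
    · exact hu (by rw [hc', h, zero_smul])
    · exact hu0 h
  have hB1 : ∀ z, n' z = 0 := fun z => by
    have h1 := hsq (T.τ u z)
    rw [hres, map_add, hres, hres, hu2, map_zero, LinearMap.zero_apply, zero_add] at h1
    have h3 := congrArg (T.cv d) h1
    rw [map_add, map_add, T.cv_tau, T.cv_tau, T.cv_tau, map_zero, hd2, zero_smul, add_zero, ← smul_add,
      smul_eq_zero] at h3
    have h4 : n' (B z) + B (n' z) = 0 := h3.resolve_left hd1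
    rw [hBn z, hBn (n' z), map_add] at h4
    have h5 : B (n' z) = 0 := by
      rw [hBn, ← smul_eq_zero_iff_right h2, two_smul]
      exact h4
    have h6 : m (T.τ u₀ (n' z)) = 0 := by rw [hAB, h5, map_zero]
    exact T.tau_eq_zero hu₀ (m.map_eq_zero_iff.mp h6)
  have hB : ∀ z, B z = z := fun z => by rw [hBn, hB1, add_zero]
  have hres' : ∀ v z, res m (T.τ v z) = T.τ (n v) z := fun v z => by rw [hres, hB, hB1, map_zero, add_zero]
  have hnn : ∀ v, n (n v) = 0 := fun v => by
    by_contra h
    exact T.tau_ne_zero h hz₀ (by rw [← hres', ← hres', hsq])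
  obtain ⟨y₀, hy₀⟩ := SW.exists_one hz₀
  have hskew : ∀ v w, SU.h (n v) w = -SU.h v (n w) := fun v w => by
    have hiso : ∀ a b, SU.h (A a) (A b) = SU.h a b := fun a b => by
      have := hmI (T.τ a y₀) (T.τ b z₀)
      rwa [hAB, hAB, T.form, T.form, hB, hB, hy₀, mul_one, mul_one] at this
    have h1 : ∀ a b, SU.h (n a) b + SU.h a (n b) + SU.h (n a) (n b) = 0 := fun a b => by
      have := hiso a b
      rw [hAn, hAn, SU.add_left, SU.add_right, SU.add_right] at this
      linear_combination this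
    have h3 : ∀ a b, SU.h a (n b) = 0 → SU.h (n a) b + SU.h (n a) (n b) = 0 := fun a b h => by
      linear_combination h1 a b - h
    have h4 : SU.h (n v) (n w) = 0 := by
      have := h1 v (n w)
      rwa [hnn, SU.zero_right, SU.zero_right, add_zero, add_zero] at this
    linear_combination h1 v w - h4
  set D := LinearMap.range n with hD
  have hmap : T.map n LinearMap.id = res m := T.ext fun v z => by rw [T.map_tau, hres', LinearMap.id_apply]
  have hbk : Module.finrank F W * Module.finrank F D ≤ Module.finrank F U :=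
    (le_range_map_left n).trans (hmap ▸ hrank)
  have hk0 : 0 < Module.finrank F D := by
    refine Nat.pos_of_ne_zero fun h => hn ?_
    rw [Submodule.finrank_eq_zero, LinearMap.range_eq_bot] at h
    exact h
  have hrn := n.finrank_range_add_finrank_ker
  rw [← hD] at hrn
  have hDK : ∀ a, ∀ w, n w = 0 → SU.h (n a) w = 0 := fun a w hw => by rw [hskew, hw, SU.zero_right, neg_zero]
  have hone : Module.finrank F D ≠ 1 := fun hk1 => by
    obtain ⟨⟨d₁, hd₁⟩, hd₁0, hgen⟩ := finrank_eq_one_iff'.mp hk1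
    have hd₁0' : d₁ ≠ 0 := fun h => hd₁0 (Subtype.ext h)
    obtain ⟨v₂, hv₂⟩ := SU.exists_one hd₁0'
    have hcoef : ∀ a, ∃ c : F, n a = c • d₁ := fun a => by
      obtain ⟨c, hc⟩ := hgen ⟨n a, ⟨a, rfl⟩⟩
      exact ⟨c, (congrArg Subtype.val hc).symm⟩
    have h0 : ∀ a, SU.h (n a) a = 0 := fun a => by
      have h1 := hskew a a
      rw [SU.symm (n a) a, one_mul, RingHom.id_apply] at h1
      exact (mul_eq_zero.mp (by linear_combination h1 : (2 : F) * SU.h (n a) a = 0)).resolve_left h2
    have hcase : ∀ a, n a = 0 ∨ SU.h d₁ a = 0 := fun a => by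
      obtain ⟨c, hc⟩ := hcoef a
      have := h0 a
      rw [hc, SU.smul_left, mul_eq_zero] at this
      exact this.imp (fun h => by rw [hc, h, zero_smul]) id
    have h12 : SU.h d₁ v₂ ≠ 0 := by rw [SU.symm, hv₂]; simp
    have hnv₂ : n v₂ = 0 := (hcase v₂).resolve_right h12
    have hdu : SU.h d₁ u = 0 := (hcase u).resolve_left hu
    rcases hcase (u + v₂) with h | h
    · rw [map_add, hnv₂, add_zero] at h
      exact hu h
    · rw [SU.add_right, hdu, zero_add] at h
      exact h12 h
  have hthree : Module.finrank F U ≠ 3 ∨ 4 ≤ Module.finrank F W := by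
    by_contra hc
    push Not at hc
    refine hone ?_
    have hiso' : ∀ a ∈ D, ∀ b ∈ D, SU.h a b = 0 := by
      rintro _ ⟨a, rfl⟩ _ ⟨b, rfl⟩
      exact hDK a (n b) (hnn b)
    have := SU.two_mul_le rfl _ hiso'
    omega
  have hfix : ∀ v w l, SU.h v v = 0 → n v = 0 → n w = 0 → SU.RootData v w l → ∀ a,
      SU.rmap v w l (n a) = n a := fun v w l _ hv hw _ a => by
    rw [RSpace.rmap_apply, hDK a v hv, hDK a w hw, zero_smul, mul_zero, zero_smul, add_zero, sub_zero]
  -- a root element of the first space fixing the image of `res m`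
  have key : ∀ v w l, v ∈ D → n w = 0 → SU.RootData v w l → ∀ x ∈ X,
      (∀ a z, x (T.τ a z) = T.τ (SU.rmap v w l a) z) → ∃ s : W →ₗ[F] W,
        ∀ y, res (g⁻¹ * x * g) y = T.map LinearMap.id (s - LinearMap.id) y := by
    intro v w l hv hw hd x hxX hx
    obtain ⟨a₀, rfl⟩ := hv
    have hvv : SU.h (n a₀) (n a₀) = 0 := hDK a₀ (n a₀) (hnn a₀)
    have hxfix : x.toLinearMap.comp (res m) = res m := T.ext fun a z => by
      show x (res m (T.τ a z)) = res m (T.τ a z)
      rw [hres', hx, hfix _ w l hvv (hnn a₀) hw hd]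
    set x' := g⁻¹ * x * g with hx'
    have hfixe : ∀ v, x' (T.τ v e) = T.τ v e := fun b => by
      obtain ⟨y, hy⟩ := hmem b
      show g.symm (x (g (T.τ b e))) = _
      rw [← hy, show x (res m y) = res m y from DFunLike.congr_fun hxfix y, hy, g.symm_apply_apply]
    have hk : T.IsKron x' := kron_of_stab hs hX hR he hee (mul_mem (mul_mem (inv_mem hgX) hxX) hgX)
      fun b => ⟨b, hfixe b⟩
    obtain ⟨s, hs'⟩ := T.kron_fix_left hk he hfixe
    refine ⟨s, fun y => DFunLike.congr_fun (T.ext fun a z => ?_) y⟩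
    rw [TensorF.res_apply, hs', T.map_tau, LinearMap.id_apply, LinearMap.sub_apply, map_sub, LinearMap.id_apply]
  by_cases han : ∃ w, n w = 0 ∧ SU.h w w ≠ 0
  · obtain ⟨w, hw, hww⟩ := han
    have hv0 : n u ≠ 0 := hu
    set l : F := -(SU.h w w / 2) with hl
    have hd : SU.RootData (n u) w l := by
      refine ⟨(SU.swap (hDK u w hw)), ?_⟩
      rw [hl, RingHom.id_apply, one_mul]
      field_simp
      ring
    have hvv : SU.h (n u) (n u) = 0 := hDK u (n u) hu2
    obtain ⟨x, hxX, hx⟩ := exists_rootL hX hvv hd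
    obtain ⟨s, hs'⟩ := key (n u) w l ⟨u, rfl⟩ hw hd x hxX hx
    have hres2 : ∀ a z, res x (res x (T.τ a z)) = T.τ ((-(SU.h w w) * SU.h a (n u)) • n u) z := fun a z => by
      have h1 : ∀ a z, res x (T.τ a z) = T.τ (SU.rmap (n u) w l a - a) z := fun a z => by
        rw [TensorF.res_apply, hx, LinearMap.map_sub₂]
      rw [h1, h1]
      congr 2
      simp only [RSpace.rmap_apply, SU.add_left, SU.sub_left, SU.smul_left, hvv, hd.1, SU.swap hd.1, smul_add,
        smul_smul]
      module
    set x' := g⁻¹ * x * g with hx'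
    have hconj : ∀ y, res x' y = g.symm (res x (g y)) := fun y => by
      show g.symm (x (g y)) - y = g.symm (x (g y) - g y)
      rw [map_sub, g.symm_apply_apply]
    set S := s - LinearMap.id with hS
    have hsq' : ∀ y, T.map LinearMap.id (S.comp S) y = g.symm (res x (res x (g y))) := fun y => by
      have h1 : T.map LinearMap.id (S.comp S) = (T.map LinearMap.id S).comp (T.map LinearMap.id S) :=
        T.ext fun a z => by simp [T.map_tau]
      rw [h1, LinearMap.comp_apply, ← hs', ← hs', hconj, hconj, g.apply_symm_apply]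
    have hSS : S.comp S ≠ 0 := fun h => by
      obtain ⟨a, ha⟩ := SU.exists_one hv0
      have h1 := hsq' (g.symm (T.τ a z₀))
      rw [h, g.apply_symm_apply, hres2, ha, mul_one] at h1
      have h2' : T.map LinearMap.id (0 : W →ₗ[F] W) (g.symm (T.τ a z₀)) = 0 :=
        DFunLike.congr_fun (T.ext (L' := 0) fun a z => by simp [T.map_tau]) _
      rw [h2', eq_comm, g.symm.map_eq_zero_iff] at h1
      exact T.tau_ne_zero (smul_ne_zero (neg_ne_zero.mpr hww) hv0) hz₀ h1
    have hle := (le_range_map_right (T := T) hSS).trans (Submodule.finrank_mono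
      (t := LinearMap.range (g.symm.toLinearMap.comp (T.τ (n u)))) (by
        rintro _ ⟨y, rfl⟩
        rw [hsq']
        have h1 : ∀ y, res x (res x y) ∈ LinearMap.range (T.τ (n u)) := fun y => by
          have h3 : ((res x).comp (res x)) = (T.τ (n u)).comp ((-(SU.h w w)) • (T.cv (n u))) :=
            T.ext fun a z => by
              simp only [LinearMap.comp_apply, hres2, LinearMap.smul_apply, T.cv_tau, map_smul, smul_smul]
          exact ⟨_, (DFunLike.congr_fun h3 y).symm⟩
        obtain ⟨z, hz⟩ := h1 (g y)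
        exact ⟨z, congrArg g.symm hz⟩))
    have hle' := hle.trans (LinearMap.finrank_range_le _)
    have hk1 : Module.finrank F D = 1 := by
      have hb : 0 < Module.finrank F W := Module.finrank_pos
      by_contra h
      have : Module.finrank F W * 2 ≤ Module.finrank F W * Module.finrank F D := Nat.mul_le_mul_left _ (by omega)
      omega
    exact hone hk1
  push Not at han
  have hker : ∀ a ∈ LinearMap.ker n, ∀ b ∈ LinearMap.ker n, SU.h a b = 0 := fun a ha b hb => by
    have h1 := han (a + b) (add_mem ha hb)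
    rw [SU.add_left, SU.add_right, SU.add_right, han a ha, han b hb, SU.symm a b, RingHom.id_apply, one_mul] at h1
    exact (mul_eq_zero.mp (by linear_combination h1 : (2 : F) * SU.h a b = 0)).resolve_left h2
  have h2k := SU.two_mul_le rfl _ hker
  have hb2 : Module.finrank F W ≤ 2 := by
    by_contra h
    have : 3 * Module.finrank F D ≤ Module.finrank F W * Module.finrank F D := Nat.mul_le_mul_right _ (by omega)
    omega
  have hv0 : n u ≠ 0 := hu
  obtain ⟨w, hwD, hwv⟩ : ∃ w ∈ D, w ∉ Submodule.span F {n u} := by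
    by_contra hc
    push Not at hc
    have h1 := Submodule.finrank_mono (fun w hw => hc w hw : D ≤ Submodule.span F {n u})
    rw [finrank_span_singleton hv0] at h1
    omega
  have hwn : n w = 0 := by
    obtain ⟨a, rfl⟩ := hwD
    exact hnn a
  have hd : SU.RootData (n u) w 0 := ⟨SU.swap (hDK u w hwn), by simp [han w hwn]⟩
  have hvv : SU.h (n u) (n u) = 0 := hDK u (n u) hu2
  obtain ⟨x, hxX, hx⟩ := exists_rootL hX hvv hd
  obtain ⟨s, hs'⟩ := key (n u) w 0 ⟨u, rfl⟩ hwn hd x hxX hx
  have hrx : res x = (T.τ w).comp (T.cv (n u)) - (T.τ (n u)).comp (T.cv w) := T.ext fun a z => by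
    show x (T.τ a z) - T.τ a z = T.τ w (T.cv (n u) (T.τ a z)) - T.τ (n u) (T.cv w (T.τ a z))
    rw [hx, T.cv_tau, T.cv_tau, RSpace.rmap_apply, zero_smul, add_zero, one_mul]
    simp only [map_add, map_sub, map_smul, LinearMap.add_apply, LinearMap.sub_apply, LinearMap.smul_apply]
    abel
  have hconj : ∀ y, res (g⁻¹ * x * g) y = g.symm (res x (g y)) := fun y => by
    show g.symm (x (g y)) - y = g.symm (x (g y) - g y)
    rw [map_sub, g.symm_apply_apply]
  have hne0 : s - LinearMap.id ≠ 0 := fun h => by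
    obtain ⟨a, ha⟩ := SU.exists_one hv0
    have h1 := hs' (g.symm (T.τ a z₀))
    rw [hconj, g.apply_symm_apply, h,
      DFunLike.congr_fun (T.ext (L := T.map LinearMap.id 0) (L' := 0) fun a z => by simp [T.map_tau]),
      LinearMap.zero_apply, g.symm.map_eq_zero_iff, hrx, LinearMap.sub_apply, LinearMap.comp_apply,
      LinearMap.comp_apply, T.cv_tau, T.cv_tau, ha, one_smul, map_smul] at h1
    rw [sub_eq_zero, ← LinearMap.smul_apply, ← map_smul] at h1
    exact hwv (Submodule.mem_span_singleton.mpr ⟨_, (T.tau_inj_left hz₀ h1).symm⟩)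
  have hle := (le_range_map_right (T := T) hne0).trans (Submodule.finrank_mono
    (t := LinearMap.range (g.symm.toLinearMap.comp ((T.τ w).coprod (T.τ (n u))))) (by
      rintro _ ⟨y, rfl⟩
      refine ⟨(T.cv (n u) (g y), -T.cv w (g y)), ?_⟩
      rw [← hs', hconj, hrx]
      simp [sub_eq_add_neg]))
  have hle' := hle.trans (LinearMap.finrank_range_le _)
  rw [Module.finrank_prod] at hle'
  omega

theorem isRootT_of_kron (D : Data T) (hX : T.Mid G X) (hR : T.RadScalar X) (p : ℕ) [hp : Fact p.Prime] [CharP F p] {r g : V ≃ₗ[F] V}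
    (hgX : g ∈ X) (hr : T.IsRootT X r) (hm : T.IsKron (g * r * g⁻¹)) : T.IsRootT X (g * r * g⁻¹) := by
  haveI := D.nU
  obtain ⟨hrX, e, l, he, hee, hl0, hl, hrt⟩ := hr
  haveI : Nontrivial W := ⟨e, 0, he⟩
  set m := g * r * g⁻¹ with hm0
  have hmX : m ∈ X := mul_mem (mul_mem hgX hrX) (inv_mem hgX)
  have hmI := hX.isomX hmX
  have hresm : ∀ x, res m x = g (res r (g.symm x)) := fun x => by
    show g (r (g.symm x)) - x = g (r (g.symm x) - g.symm x)
    rw [map_sub, g.apply_symm_apply]
  have hsq : ∀ x, res m (res m x) = 0 := fun x => by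
    rw [hresm, hresm, g.symm_apply_apply, hrt.res_apply (g.symm x), map_smul, hrt.res_apply, T.cw_tau, hee]
    simp
  have hrank : Module.finrank F (LinearMap.range (res m)) ≤ Module.finrank F U := by
    refine (Submodule.finrank_mono (t := LinearMap.range (g.toLinearMap.comp (T.τ.flip e))) ?_).trans
      (LinearMap.finrank_range_le _)
    rintro _ ⟨x, rfl⟩
    refine ⟨l • T.cw e (g.symm x), ?_⟩
    rw [hresm, hrt.res_apply]
    simp
  have hmp : m ^ p ^ 1 = 1 := by
    rw [pow_one, hm0, conj_pow, show r ^ p = 1 from T.ext_equiv fun v z => by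
      rw [(hrt.pow hee p) v z, CharP.cast_eq_zero, zero_mul, zero_mul, zero_smul, add_zero]; rfl,
      mul_one, mul_inv_cancel]
  obtain ⟨A, B, hAB, hA, hB⟩ := exists_normal_form p 1 hm hmp
  -- the first factor is trivial
  have hA1 : A = 1 := by
    by_contra hne
    rcases D.first with hlt | ⟨hσ, hε, h2, hdim⟩
    · have := finrank_le_res hm hAB hA hne
      omega
    · refine first_eq_one hσ hε h2 hdim (Or.inr D.skew) hX hR hgX he hee hAB hA hne hsq hrank ?_ hm hmI
      intro v
      obtain ⟨f, hf⟩ := SW.exists_one he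
      refine ⟨g (T.τ (l⁻¹ • v) f), ?_⟩
      rw [hresm, g.symm_apply_apply, hrt.res_apply, T.cw_tau, hf, one_smul, map_smul T.τ, LinearMap.smul_apply,
        smul_smul, mul_inv_cancel₀ hl0, one_smul]
  have hAB' : ∀ v z, m (T.τ v z) = T.τ v (B z) := fun v z => by rw [hAB, hA1]; rfl
  have hres : ∀ v z, res m (T.τ v z) = T.τ v ((B - 1) z) := fun v z => by
    rw [TensorF.res_apply, hAB', LinearMap.sub_apply, Module.End.one_apply, map_sub]
  have hm1 : m ≠ 1 := fun h => by
    obtain ⟨v, hv⟩ := exists_ne (0 : U)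
    obtain ⟨f, hf⟩ := SW.exists_one he
    have hr1 : r = 1 := by rw [← mul_left_cancel_iff (a := g), ← mul_right_cancel_iff (a := g⁻¹), ← hm0, h]; simp
    have := hrt v f
    rw [hr1, hf, mul_one] at this
    have := (add_eq_left (a := f)).mp (T.tau_inj_right hv this).symm
    exact hl0 ((smul_eq_zero.mp this).resolve_right he)
  obtain ⟨z₀, hz₀⟩ : ∃ z, (B - 1) z ≠ 0 := by
    by_contra hc
    push Not at hc
    exact hm1 (T.ext_equiv fun v z => by
      rw [← sub_eq_zero, show m (T.τ v z) - (1 : V ≃ₗ[F] V) (T.τ v z) = res m (T.τ v z) from rfl, hres, hc, map_zero])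
  set w := (B - 1) z₀ with hw
  -- the second factor has residual space one line
  have hline : ∀ z, ∃ c : F, (B - 1) z = c • w := by
    intro z
    by_contra hc
    push Not at hc
    obtain ⟨d, hd1, hd2⟩ : ∃ d, SW.h ((B - 1) z) d ≠ 0 ∧ SW.h w d = 0 := by
      by_contra hc'
      push Not at hc'
      obtain ⟨c, hc''⟩ := SW.mem_line hz₀ (z := (B - 1) z) fun d hd => by
        by_contra h
        exact hc' d h hd
      exact hc c hc''
    let S : (U × U) →ₗ[F] V := LinearMap.coprod ((T.τ.flip ((B - 1) z))) ((T.τ.flip w))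
    have hS : Function.Injective S := by
      rw [← LinearMap.ker_eq_bot, LinearMap.ker_eq_bot']
      rintro ⟨a, b⟩ hab
      have h1 : T.τ a ((B - 1) z) + T.τ b w = 0 := hab
      have h2 := congrArg (T.cw d) h1
      rw [map_add, T.cw_tau, T.cw_tau, hd2, zero_smul, add_zero, map_zero, smul_eq_zero] at h2
      have ha := h2.resolve_left hd1
      rw [ha, map_zero, LinearMap.zero_apply, zero_add] at h1
      have hb : b = 0 := by
        by_contra hb
        exact T.tau_ne_zero hb hz₀ h1
      rw [ha, hb]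
      rfl
    have hle : LinearMap.range S ≤ LinearMap.range (res m) := by
      rintro _ ⟨⟨a, b⟩, rfl⟩
      refine ⟨T.τ a z + T.τ b z₀, ?_⟩
      rw [map_add, hres, hres]
      rfl
    have h1 := Submodule.finrank_mono hle
    rw [LinearMap.finrank_range_of_inj hS, Module.finrank_prod] at h1
    have : 0 < Module.finrank F U := Module.finrank_pos
    omega
  choose φ hφ using hline
  have hww : (B - 1) w = 0 := by
    obtain ⟨v, hv⟩ := exists_ne (0 : U)
    refine T.tau_eq_zero hv ?_
    rw [hw, ← hres, ← hres, hsq]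
  have hBw : B w = w := by
    rw [LinearMap.sub_apply, Module.End.one_apply, sub_eq_zero] at hww
    exact hww
  have hBi : ∀ z z', SW.h (B z) (B z') = SW.h z z' := fun z z' => by
    obtain ⟨v, hv⟩ := exists_ne (0 : U)
    obtain ⟨u, hu⟩ := SU.exists_one hv
    have := hmI (T.τ u z) (T.τ v z')
    rwa [hAB', hAB', T.form, T.form, hu, one_mul, one_mul] at this
  have hBz : ∀ z, B z = z + φ z • w := fun z => by
    rw [← hφ, LinearMap.sub_apply, Module.End.one_apply, add_sub_cancel]
  have hiso : SW.h w w = 0 := by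
    have h1 := hBi z₀ w
    rw [hBz z₀, hBw, SW.add_left, SW.smul_left, add_eq_left, mul_eq_zero] at h1
    refine h1.resolve_left fun h => hz₀ ?_
    rw [hw, hφ, h, zero_smul]
  obtain ⟨f, hff, hf⟩ := SW.exists_partner hz₀ hiso
  have hwf : SW.h w f = ε₂ := by rw [SW.symm, hf, map_one, mul_one]
  set l' := -(ε₂ * σ (φ f)) with hl'
  have hphi : ∀ z, φ z = l' * SW.h z w := fun z => by
    have h1 := hBi z f
    rw [hBz, hBz, SW.add_left, SW.add_right, SW.add_right, SW.smul_left, SW.smul_left, SW.smul_right, SW.smul_right,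
      hiso, hwf] at h1
    rw [hl']
    linear_combination ε₂ * h1 - φ z * SW.eps
  have hl'' : σ l' + ε₂ * l' = 0 := by
    have h1 := hphi f
    rw [hf, mul_one] at h1
    rw [h1] at hl'
    have h2 : σ l' = -(ε₂ * l') := by
      have := congrArg (fun t => -(ε₂ * t)) hl'
      simp only [mul_neg, neg_neg, ← mul_assoc, SW.eps, one_mul] at this
      exact this.symm
    rw [h2, neg_add_cancel]
  refine ⟨hmX, w, l', hz₀, hiso, fun h => ?_, hl'', fun v z => ?_⟩
  · exact hz₀ (by rw [hw, hφ, hphi, h, zero_mul, zero_smul])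
  · rw [hAB', hBz, hphi]

theorem rooted (D : Data T) (hX : T.Mid G X) (hA : T.RadScalar X) (p : ℕ) [Fact p.Prime] [CharP F p]
    [Finite V] (M : Subgroup (V ≃ₗ[F] V)) (hM : ∀ g, g ∈ M ↔ g ∈ X ∧ T.IsKron g) :
    Rooted p X M (T.IsRootT X) := by
  haveI := D.nU
  refine ⟨fun g hg => ((hM g).mp hg).1, fun r hr => (hM r).mpr ⟨hr.1, ?_⟩, fun r hr => ?_,
    fun g hg r hr hm => isRootT_of_kron D hX hA p hg hr ((hM _).mp hm).2, fun g hg r hr hr' => (hM g).mpr ⟨hg, ?_⟩⟩
  · obtain ⟨-, e, l, -, -, -, -, h⟩ := hr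
    exact h.isKron
  · obtain ⟨-, e, l, -, hee, -, -, h⟩ := hr
    exact T.ext_equiv fun v z => by
      rw [(h.pow hee p) v z, CharP.cast_eq_zero]; simp
  · obtain ⟨-, e, l, he, hee, hl0, -, h⟩ := hr
    obtain ⟨-, e', l', he', hee', -, -, h'⟩ := hr'
    obtain ⟨f, -, hf⟩ := SW.exists_partner he hee
    refine kron_of_image D.skew hX hA he hee he' hee' hg fun v => ?_
    refine ⟨(l⁻¹ * l') • T.cw e' (g (T.τ v f)), ?_⟩
    have h1 := h'.res_apply (g (T.τ v f))
    have h2 : res (g * r * g⁻¹) (g (T.τ v f)) = g (res r (T.τ v f)) := by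
      show g (r (g.symm (g _))) - g _ = _
      rw [g.symm_apply_apply, TensorF.res_apply, map_sub]
    rw [h2, h.res_apply, T.cw_tau, hf, one_smul, map_smul] at h1
    have h3 := congrArg (fun y => l⁻¹ • y) h1
    simp only [smul_smul, inv_mul_cancel₀ hl0, one_smul] at h3
    rw [h3, map_smul, LinearMap.smul_apply]

end TSpace

end Cfsg.Lib.Classical.TensorF
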