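import Cfsg.Agent.Classical.TensorF.Kron
import Cfsg.Agent.Classical.TensorF.Orth

/-! A symmetric second factor of dimension at least five over a plane: the radical elements at its isotropic
vectors control everything. -/

set_option autoImplicit false
set_option linter.unusedSectionVars false
set_option linter.unusedSimpArgs false
set_option linter.style.haveILetI false

namespace Cfsg.Lib.Classical.TensorF

universe u v w x

variable {F : Type u} [Field F] [Finite F] {ε ε₁ : F} {V : Type v} [AddCommGroup V] [Module F V]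
  [FiniteDimensional F V] {U : Type w} [AddCommGroup U] [Module F U] [FiniteDimensional F U] [Nontrivial U]
  {W : Type x} [AddCommGroup W] [Module F W] [FiniteDimensional F W] [Nontrivial W]
  {SU : RSpace (RingHom.id F) ε₁ U} {SW : RSpace (RingHom.id F) 1 W} {SV : RSpace (RingHom.id F) ε V}

namespace TSpace

variable (T : TSpace SU SW SV)

/-- The tensor product with the factors exchanged. -/
def flip {ε₂ : F} {U' : Type w} [AddCommGroup U'] [Module F U'] {W' : Type x} [AddCommGroup W'] [Module F W']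
    {SU' : RSpace (RingHom.id F) ε₁ U'} {SW' : RSpace (RingHom.id F) ε₂ W'} (T : TSpace SU' SW' SV) :
    TSpace SW' SU' SV where
  τ := T.τ.flip
  form v z v' z' := by rw [LinearMap.flip_apply, LinearMap.flip_apply, T.form, mul_comm]
  span := by
    rw [eq_top_iff, ← T.span]
    exact Submodule.span_mono fun y ⟨p, hp⟩ => ⟨(p.2, p.1), hp⟩

/-- Elements of `X` fixing the image of a right map pointwise and its orthogonal space modulo it are Kronecker
products. -/
def FixKron (X : Subgroup (V ≃ₗ[F] V)) : Prop :=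
  ∀ (N : Module.End F W), ∀ k ∈ X, (∀ x ∈ LinearMap.range (T.map LinearMap.id N), k x = x) →
    (∀ y, (∀ x ∈ LinearMap.range (T.map LinearMap.id N), SV.h y x = 0) →
      res k y ∈ LinearMap.range (T.map LinearMap.id N)) → T.IsKron k

variable {T} {G X : Subgroup (V ≃ₗ[F] V)}

theorem radScalar_of_fixKron (hF : T.FixKron X) : T.RadScalar X := by
  intro e he hee k hk hr
  obtain ⟨f, hf⟩ := SW.exists_one he
  set N : Module.End F W := (SW.lin e).smulRight e
  have hN : ∀ v, T.τ v e ∈ LinearMap.range (T.map LinearMap.id N) := fun v =>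
    ⟨T.τ v f, by rw [T.map_tau]; simp [N, RSpace.lin_apply, hf]⟩
  have hmap : T.map LinearMap.id N = (T.τ.flip e).comp (T.cw e) := T.ext fun v z => by
    simp [T.map_tau, N, T.cw_tau, RSpace.lin_apply]
  refine hF N k hk ?_ fun y hy => ?_
  · rintro _ ⟨y, rfl⟩
    rw [hmap]
    exact hr.fix _
  · obtain ⟨c, hc⟩ := hr.perp y (SU.nd _ fun v => by rw [T.h_cw]; exact hy _ (hN v))
    rw [TensorF.res_apply, hc, add_sub_cancel_left]
    exact hN c

theorem kron_of_image_orth (hX : T.Mid G X) (hG : ∀ g, SV.IsIsom g → g ∈ G) (h2 : (2 : F) ≠ 0)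
    (h3 : 3 ≤ Module.finrank F W) (hA : T.RadScalar X) {e e' : W} (he : e ≠ 0) (hee : SW.h e e = 0) (he' : e' ≠ 0)
    (hee' : SW.h e' e' = 0) {g : V ≃ₗ[F] V} (hgX : g ∈ X) (hg : ∀ v : U, ∃ v', g (T.τ v e) = T.τ v' e') :
    T.IsKron g := by
  refine RSpace.iso_transitive (S := SW) h2
    (P := fun e' => ∀ g ∈ X, (∀ v : U, ∃ v', g (T.τ v e) = T.τ v' e') → T.IsKron g)
    (fun w x hw _ hx g hg himg => ?_) he he' hee hee'
    (fun g hg himg => kron_of_stab (Or.inl h3) hX hA he hee hg himg) g hgX hg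
  obtain ⟨s, hs, hsk⟩ := T.exists_kron (LinearEquiv.refl F U) (SW.reflEquiv hw)
  have hsX : s ∈ X := hX.kron s (hG s (T.isom_of_tau fun v z v' z' => by
    rw [hs, hs, T.form]
    exact congrArg (_ * ·) (SW.refl_form hw z z'))) hsk
  have hk : T.IsKron (s * g) := by
    refine hx _ (mul_mem hsX hg) fun v => ?_
    obtain ⟨v', hv'⟩ := himg v
    refine ⟨v', ?_⟩
    show s (g _) = _
    rw [hv', hs, RSpace.reflEquiv_apply, RSpace.refl_refl hw]
    rfl
  have := IsKron.mul T (IsKron.inv T hsk) hk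
  rwa [inv_mul_cancel_left] at this

theorem res_eq_map {g : V ≃ₗ[F] V} {B : Module.End F W} (h : ∀ v z, g (T.τ v z) = T.τ v (B z)) :
    res g = T.map LinearMap.id (B - LinearMap.id) := T.ext fun v z => by
  rw [TensorF.res_apply, h, T.map_tau, LinearMap.id_apply, LinearMap.sub_apply, map_sub, LinearMap.id_apply]

/-- The conjugate of an element with an anisotropic Siegel datum. -/
theorem mem_of_conj_aniso (hX : T.Mid G X) (hG : ∀ g, SV.IsIsom g → g ∈ G) (h2 : (2 : F) ≠ 0)
    (h5 : 5 ≤ Module.finrank F W) (hU : Module.finrank F U = 2) (hA : T.RadScalar X)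
    {x r : V ≃ₗ[F] V} (hx : x ∈ X) {e w : W} {l : F} (he : e ≠ 0) (hee : SW.h e e = 0) (hd : SW.RootData e w l)
    (hrv : ∀ v z, r (T.τ v z) = T.τ v (SW.rmap e w l z)) (hww : SW.h w w ≠ 0)
    (hxr : x⁻¹ * r * x ∈ T.kronIn X) : x ∈ T.kronIn X := by
  let p := ringChar F
  haveI : Fact p.Prime := ⟨CharP.char_is_prime F p⟩
  set r' := x⁻¹ * r * x with hr'
  have hconj : ∀ y, res r' y = x.symm (res r (x y)) := fun y => by
    show x.symm (r (x y)) - y = x.symm (r (x y) - x y)
    rw [map_sub, x.symm_apply_apply]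
  have hr'p : r' ^ p ^ 2 = 1 := by
    have := conj_pow (i := p ^ 2) (a := x⁻¹) (b := r)
    rw [inv_inv] at this
    rw [hr', this, (radK_unip (he := hee) (⟨w, l, hd, hrv⟩ : r ∈ T.radK e hee)).pow_eq_one p, mul_one,
      inv_mul_cancel]
  obtain ⟨A, B, hAB, hA', -⟩ := exists_normal_form p 2 hxr.2 hr'p
  have hA1 : A = 1 := by
    by_contra hne
    have h1 := finrank_le_res hxr.2 hAB hA' hne
    have h3 : Module.finrank F (LinearMap.range (res r')) ≤ 4 := by
      refine (Submodule.finrank_mono (t := LinearMap.range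
        (x.symm.toLinearMap.comp ((T.τ.flip w).coprod (T.τ.flip e)))) ?_).trans
        ((LinearMap.finrank_range_le _).trans (by rw [Module.finrank_prod, hU]))
      rintro _ ⟨y, rfl⟩
      refine ⟨(T.cw e (x y), l • T.cw e (x y) - T.cw w (x y)), ?_⟩
      rw [hconj, TensorF.res_apply, rootW_act hrv, LinearMap.comp_apply, LinearMap.coprod_apply, LinearEquiv.coe_coe,
        one_smul]
      congr 1
      simp only [map_add, map_sub, map_smul, LinearMap.flip_apply, LinearMap.sub_apply, LinearMap.smul_apply]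
      abel
    omega
  set N : Module.End F W := B - LinearMap.id with hN
  set N₀ : Module.End F W := SW.rmap e w l - LinearMap.id with hN₀
  have hres' : res r' = T.map LinearMap.id N := res_eq_map fun v z => by rw [hAB, hA1]; rfl
  have hres : res r = T.map LinearMap.id N₀ := res_eq_map hrv
  have hN₀2 : ∀ z, N₀ (N₀ z) = (-(SW.h w w) * SW.h z e) • e := fun z => by
    simp only [hN₀, LinearMap.sub_apply, LinearMap.id_apply, RSpace.rmap_apply, SW.add_left, SW.sub_left,
      SW.smul_left, hee, hd.1, SW.swap hd.1, smul_add, smul_smul]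
    module
  have hsq : ∀ v z, x (T.τ v (N (N z))) = T.map LinearMap.id N₀ (T.map LinearMap.id N₀ (x (T.τ v z))) := fun v z => by
    have hNN : T.τ v (N (N z)) = T.map LinearMap.id N (T.map LinearMap.id N (T.τ v z)) := by
      rw [T.map_tau, T.map_tau]; rfl
    rw [hNN, ← hres', ← hres, hconj, hconj]
    simp
  have hline : ∀ y, T.map LinearMap.id N₀ (T.map LinearMap.id N₀ y) = T.τ ((-(SW.h w w)) • T.cw e y) e := fun y =>
    DFunLike.congr_fun (T.ext (L := (T.map LinearMap.id N₀).comp (T.map LinearMap.id N₀))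
      (L' := (T.τ.flip e).comp ((-(SW.h w w)) • T.cw e)) fun v z => by
        simp [T.map_tau, hN₀2, T.cw_tau, smul_smul]) y
  obtain ⟨z₁, hz₁⟩ : ∃ z, N (N z) ≠ 0 := by
    by_contra hc
    push Not at hc
    obtain ⟨f, hf⟩ := SW.exists_one he
    obtain ⟨v, hv⟩ := exists_ne (0 : U)
    have h0 : T.map LinearMap.id N₀ (T.map LinearMap.id N₀ (T.τ v f)) = 0 := by
      rw [← x.apply_symm_apply (T.τ v f)]
      refine DFunLike.congr_fun (T.ext (L := (T.map LinearMap.id N₀).comp ((T.map LinearMap.id N₀).comp x.toLinearMap))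
        (L' := 0) fun a z => ?_) _
      show T.map LinearMap.id N₀ (T.map LinearMap.id N₀ (x (T.τ a z))) = 0
      rw [← hsq, hc, map_zero, map_zero]
    rw [hline, T.cw_tau, hf, one_smul] at h0
    exact T.tau_ne_zero (smul_ne_zero (neg_ne_zero.mpr hww) hv) he h0
  have himg : ∀ v, ∃ v', x (T.τ v (N (N z₁))) = T.τ v' e := fun v => ⟨_, by rw [hsq, hline]⟩
  have hiso : SW.h (N (N z₁)) (N (N z₁)) = 0 := by
    obtain ⟨v, hv⟩ := exists_ne (0 : U)
    obtain ⟨u, hu⟩ := SU.exists_one hv
    obtain ⟨a, ha⟩ := himg u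
    obtain ⟨b, hb⟩ := himg v
    have := hX.isomX hx (T.τ u (N (N z₁))) (T.τ v (N (N z₁)))
    rwa [ha, hb, T.form, T.form, hee, mul_zero, hu, one_mul, eq_comm] at this
  exact ⟨hx, kron_of_image_orth hX hG h2 (by omega) hA hz₁ hiso he hee hx himg⟩

theorem mem_of_conj (hX : T.Mid G X) (hG : ∀ g, SV.IsIsom g → g ∈ G) (h2 : (2 : F) ≠ 0)
    (h5 : 5 ≤ Module.finrank F W) (hU : Module.finrank F U = 2) (hF : T.FixKron X) {x r : V ≃ₗ[F] V} (hx : x ∈ X)
    {e : W} (he : e ≠ 0) {hee : SW.h e e = 0} (hr : r ∈ T.radK e hee) (hr1 : r ≠ 1)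
    (hxr : x⁻¹ * r * x ∈ T.kronIn X) : x ∈ T.kronIn X := by
  have hA := radScalar_of_fixKron hF
  obtain ⟨w, l, hd, hrv⟩ := hr
  by_cases hww : SW.h w w ≠ 0
  · exact mem_of_conj_aniso hX hG h2 h5 hU hA hx he hee hd hrv hww hxr
  push Not at hww
  let p := ringChar F
  haveI : Fact p.Prime := ⟨CharP.char_is_prime F p⟩
  have hrX : r ∈ X := hX.radK_le hee ⟨w, l, hd, hrv⟩
  set r' := x⁻¹ * r * x with hr'
  have hconj : ∀ y, res r' y = x.symm (res r (x y)) := fun y => by
    show x.symm (r (x y)) - y = x.symm (r (x y) - x y)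
    rw [map_sub, x.symm_apply_apply]
  have hl : l = 0 := by
    have := hd.2
    rw [hww, RingHom.id_apply] at this
    exact (mul_eq_zero.mp (by linear_combination this : (2 : F) * l = 0)).resolve_left h2
  set N₀ : Module.End F W := SW.rmap e w l - LinearMap.id with hN₀
  have hres : res r = T.map LinearMap.id N₀ := res_eq_map hrv
  have hr0 : ∀ y, res r (res r y) = 0 := fun y => by
    refine DFunLike.congr_fun (T.ext (L := (res r).comp (res r)) (L' := 0) fun v z => ?_) y
    rw [LinearMap.comp_apply, LinearMap.zero_apply, hres, T.map_tau, T.map_tau]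
    simp only [LinearMap.id_apply, hN₀, LinearMap.sub_apply, RSpace.rmap_apply, SW.add_left, SW.sub_left,
      SW.smul_left, hee, hd.1, SW.swap hd.1, hww, hl, LinearMap.id_apply, zero_smul, smul_add, smul_smul, SW.zero_left]
    rw [← map_zero (T.τ v)]
    congr 1
    module
  have hr'0 : ∀ y, res r' (res r' y) = 0 := fun y => by
    rw [hconj, hconj, x.apply_symm_apply, hr0, map_zero]
  have hr'p : r' ^ p ^ 2 = 1 := by
    have := conj_pow (i := p ^ 2) (a := x⁻¹) (b := r)
    rw [inv_inv] at this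
    rw [hr', this, (radK_unip (he := hee) (⟨w, l, hd, hrv⟩ : r ∈ T.radK e hee)).pow_eq_one p, mul_one,
      inv_mul_cancel]
  have h4 : Module.finrank F (LinearMap.range (res r')) ≤ 4 := by
    refine (Submodule.finrank_mono (t := LinearMap.range
      (x.symm.toLinearMap.comp ((T.τ.flip w).coprod (T.τ.flip e)))) ?_).trans
      ((LinearMap.finrank_range_le _).trans (by rw [Module.finrank_prod, hU]))
    rintro _ ⟨y, rfl⟩
    refine ⟨(T.cw e (x y), l • T.cw e (x y) - T.cw w (x y)), ?_⟩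
    rw [hconj, TensorF.res_apply, rootW_act hrv, LinearMap.comp_apply, LinearMap.coprod_apply, LinearEquiv.coe_coe,
      one_smul]
    congr 1
    simp only [map_add, map_sub, map_smul, LinearMap.flip_apply, LinearMap.sub_apply, LinearMap.smul_apply]
    abel
  obtain ⟨A, B, hAB, hA', -⟩ := exists_normal_form p 2 hxr.2 hr'p
  have hA1 : A = 1 := by
    by_contra hne
    have h1 := finrank_le_res hxr.2 hAB hA' hne
    omega
  set N : Module.End F W := B - LinearMap.id with hN
  have hres' : res r' = T.map LinearMap.id N := res_eq_map fun v z => by rw [hAB, hA1]; rfl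
  have hr'I := hX.isomX hxr.1
  have horth : ∀ a b, SV.h (res r' a) (res r' b) = 0 := fun a b => by
    have hskew : ∀ a b, SV.h (res r' a) (res r' b) + SV.h (res r' a) b + SV.h a (res r' b) = 0 := fun a b => by
      have := hr'I a b
      simp only [TensorF.res_apply, SV.sub_left, SV.sub_right]
      linear_combination this
    have h1 := hskew a (res r' b)
    rwa [hr'0, SV.zero_right, SV.zero_right, add_zero, zero_add] at h1
  set D := LinearMap.range N with hD
  have hDD : ∀ a ∈ D, ∀ b ∈ D, SW.h a b = 0 := by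
    rintro _ ⟨a, rfl⟩ _ ⟨b, rfl⟩
    obtain ⟨v, hv⟩ := exists_ne (0 : U)
    obtain ⟨u, hu⟩ := SU.exists_one hv
    have := horth (T.τ u a) (T.τ v b)
    rwa [hres', T.map_tau, T.map_tau, T.form, LinearMap.id_apply, LinearMap.id_apply, hu, one_mul] at this
  have hk : 2 * Module.finrank F D ≤ 4 := by
    have h1 := le_range_map_left (T := flip T) N
    rw [show (flip T).map N LinearMap.id = T.map LinearMap.id N from
      T.ext fun v z => by rw [T.map_tau]; exact (flip T).map_tau N LinearMap.id z v, hU, ← hres', ← hD] at h1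
    omega
  obtain ⟨z₁, hz₁⟩ : ∃ z, N z ≠ 0 := by
    by_contra hc
    push Not at hc
    refine hr1 ?_
    have h1 : r' = 1 := T.ext_equiv fun v z => by
      rw [← sub_eq_zero]
      show res r' (T.τ v z) = 0
      rw [hres', T.map_tau, hc, map_zero]
    calc r = x * r' * x⁻¹ := by rw [hr']; group
      _ = 1 := by rw [h1, mul_one, mul_inv_cancel]
  set e₁ := N z₁ with he₁
  have hee₁ : SW.h e₁ e₁ = 0 := hDD _ ⟨z₁, rfl⟩ _ ⟨z₁, rfl⟩
  obtain ⟨w₁, hw₁D, hw₁⟩ : ∃ w₁, (∀ a ∈ D, SW.h w₁ a = 0) ∧ SW.h w₁ w₁ ≠ 0 := by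
    by_contra hc
    push Not at hc
    let L : W →ₗ[F] Module.Dual F D := LinearMap.mk₂ F (fun (y : W) (s : D) => SW.h y (s : W))
      (fun a b c => SW.add_left _ _ _) (fun c a b => SW.smul_left _ _ _) (fun a b c => SW.add_right _ _ _)
      (fun c a b => SW.smul_right' _ _ _)
    have hker : ∀ a ∈ LinearMap.ker L, ∀ b ∈ LinearMap.ker L, SW.h a b = 0 := fun a ha b hb => by
      have hm : ∀ y ∈ LinearMap.ker L, SW.h y y = 0 := fun y hy =>
        hc y fun s hs => DFunLike.congr_fun (LinearMap.mem_ker.mp hy) ⟨s, hs⟩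
      by_contra hab
      obtain ⟨y, hy, hyy⟩ := RSpace.exists_aniso (S := SW) h2 ha hb hab
      exact hyy (hm y hy)
    have h1 := L.finrank_range_add_finrank_ker
    have h3 : Module.finrank F (LinearMap.range L) ≤ Module.finrank F D :=
      (Submodule.finrank_le _).trans Subspace.dual_finrank_eq.le
    have h5' := SW.two_mul_le rfl _ hker
    omega
  obtain ⟨l₁, hd₁⟩ := SW.exists_rootData (e := e₁) (w := w₁) (hw₁D e₁ ⟨z₁, rfl⟩)
  obtain ⟨r₀, hr₀X, -, hr₀v⟩ := hX.exists_rootX hee₁ hd₁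
  set R := LinearMap.range (T.map LinearMap.id N₀) with hR
  set R' := LinearMap.range (T.map LinearMap.id N) with hR'
  have hxR : ∀ y ∈ R', x y ∈ R := by
    rintro _ ⟨y, rfl⟩
    exact ⟨x y, by rw [← hres, ← hres', hconj, x.apply_symm_apply]⟩
  have hxR' : ∀ y ∈ R, x.symm y ∈ R' := by
    rintro _ ⟨y, rfl⟩
    exact ⟨x.symm y, by rw [← hres', ← hres, hconj, x.apply_symm_apply]⟩
  have hfix : ∀ y ∈ R', r₀ y = y := by
    rintro _ ⟨y, rfl⟩
    refine DFunLike.congr_fun (T.ext (L := r₀.toLinearMap.comp (T.map LinearMap.id N))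
      (L' := T.map LinearMap.id N) fun v z => ?_) y
    show r₀ (T.map LinearMap.id N (T.τ v z)) = T.map LinearMap.id N (T.τ v z)
    rw [T.map_tau, hr₀v, RSpace.rmap_apply, hDD _ ⟨z, rfl⟩ _ ⟨z₁, rfl⟩, SW.swap (hw₁D _ ⟨z, rfl⟩)]
    simp
  have hmem : ∀ v, T.τ v e₁ ∈ R' := fun v => ⟨T.τ v z₁, by rw [T.map_tau]; rfl⟩
  have hperp : ∀ y, (∀ a ∈ R', SV.h y a = 0) → res r₀ y ∈ R' := fun y hy => by
    have h0 : T.cw e₁ y = 0 := SU.nd _ fun v => by rw [T.h_cw]; exact hy _ (hmem v)
    rw [TensorF.res_apply, rootW_act hr₀v, h0, map_zero, LinearMap.zero_apply, add_zero, one_smul, sub_sub_cancel_left,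
      ← LinearMap.neg_apply, ← map_neg]
    exact hmem _
  have hk : x * r₀ * x⁻¹ ∈ T.kronIn X := by
    refine ⟨mul_mem (mul_mem hx hr₀X) (inv_mem hx), hF N₀ _ (mul_mem (mul_mem hx hr₀X) (inv_mem hx))
      (fun y hy => ?_) fun y hy => ?_⟩
    · show x (r₀ (x.symm y)) = y
      rw [hfix _ (hxR' y hy), x.apply_symm_apply]
    · have h1 : res (x * r₀ * x⁻¹) y = x (res r₀ (x.symm y)) := by
        show x (r₀ (x.symm y)) - y = x (r₀ (x.symm y) - x.symm y)
        rw [map_sub, x.apply_symm_apply]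
      rw [h1]
      refine hxR _ (hperp _ fun a ha => ?_)
      rw [← hX.isomX hx, x.apply_symm_apply]
      exact hy _ (hxR a ha)
  have := mem_of_conj_aniso hX hG h2 h5 hU hA (inv_mem hx) hz₁ hee₁ hd₁ hr₀v hw₁ (by rwa [inv_inv])
  simpa using inv_mem this

theorem le_card_radK {e f : W} (hee : SW.h e e = 0) (hf : SW.h f e = 1) :
    Nat.card ↥(LinearMap.ker (SW.lin e) ⊓ LinearMap.ker (SW.lin f)) ≤ Nat.card ↥(T.radK e hee) := by
  haveI : Finite V := Module.finite_of_finite F
  haveI : Finite (V ≃ₗ[F] V) := Finite.of_injective (fun g => (g : V → V)) DFunLike.coe_injective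
  have hex : ∀ w : ↥(LinearMap.ker (SW.lin e) ⊓ LinearMap.ker (SW.lin f)), ∃ g : T.radK e hee, ∃ l : F,
      ∀ v z, g.1 (T.τ v z) = T.τ v (SW.rmap e w l z) := fun w => by
    obtain ⟨l, hd⟩ := SW.exists_rootData (e := e) (w := (w : W)) w.2.1
    obtain ⟨g, hg, -, -, -⟩ := T.exists_rootW hee hd
    exact ⟨⟨g, _, l, hd, hg⟩, l, hg⟩
  choose g l hg using hex
  refine Nat.card_le_card_of_injective g fun w w' h => ?_
  obtain ⟨v, hv⟩ := exists_ne (0 : U)
  have h1 := hg w v f
  rw [h, hg w' v f] at h1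
  have hwf : SW.h (w : W) f = 0 := w.2.2
  have hwf' : SW.h (w' : W) f = 0 := w'.2.2
  have h3 := T.tau_inj_right hv h1
  rw [SW.rmap_apply, SW.rmap_apply, hf, one_smul, one_smul, SW.swap hwf, SW.swap hwf', mul_zero, zero_smul, sub_zero,
    sub_zero, add_left_cancel_iff] at h3
  have h4 := congrArg (fun z => SW.h z f) h3
  simp only [SW.add_left, SW.smul_left, hwf, hwf', zero_add, SW.comm f e, hf, mul_one] at h4
  rw [h4] at h3
  exact Subtype.ext (add_right_cancel h3).symm

theorem kron_of_fixKron (hX : T.Mid G X) (hG : ∀ g, SV.IsIsom g → g ∈ G) (h2 : (2 : F) ≠ 0)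
    (h5 : 5 ≤ Module.finrank F W) (hU : Module.finrank F U = 2) (hF : T.FixKron X) {g : V ≃ₗ[F] V} (hg : g ∈ X) :
    T.IsKron g := by
  haveI : Finite V := Module.finite_of_finite F
  have hA := radScalar_of_fixKron hF
  refine kron_of_free hX (RSpace.exists_iso (by omega) SW) (fun e hee he m hm => ?_)
    (fun x hx e hee he r hr hr1 h => mem_of_conj hX hG h2 h5 hU hF hx he hr hr1 h)
    (fun e e' he hee he' hee' g hg h => kron_of_image_orth hX hG h2 (by omega) hA he hee he' hee' hg h) hg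
  set p := ringChar F
  have hp : p.Prime := CharP.char_is_prime F p
  obtain ⟨f, -, hf⟩ := SW.exists_partner he hee
  have h1 := le_card_radK (T := T) hee hf
  rw [hm, Module.natCard_eq_pow_finrank (K := F)] at h1
  have h3 : 3 ≤ Module.finrank F ↥(LinearMap.ker (SW.lin e) ⊓ LinearMap.ker (SW.lin f)) := by
    have := ((SW.lin e).prod (SW.lin f)).finrank_range_add_finrank_ker
    have h4 := (LinearMap.range ((SW.lin e).prod (SW.lin f))).finrank_le
    rw [Module.finrank_prod, Module.finrank_self] at h4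
    rw [LinearMap.ker_prod] at this
    omega
  have hpF : p ≤ Nat.card F := by
    haveI : Fintype F := Fintype.ofFinite F
    obtain ⟨n, -, hn⟩ := FiniteField.card F p
    rw [Nat.card_eq_fintype_card, hn]
    exact Nat.le_self_pow n.ne_zero p
  have hp3 : 3 ≤ p := by
    rcases hp.two_le.lt_or_eq with h | h
    · exact h
    · refine absurd ?_ h2
      have := CharP.cast_eq_zero F p
      rw [← h] at this
      exact_mod_cast this
  have h6 : p ^ 3 ≤ p ^ m :=
    ((Nat.pow_le_pow_left hpF 3).trans (Nat.pow_le_pow_right Nat.card_pos h3)).trans h1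
  have h7 : 3 ≤ m := (Nat.pow_le_pow_iff_right hp.one_lt).mp h6
  left
  calc 5 ≤ 3 * 2 := by norm_num
    _ ≤ m * (p - 1) := Nat.mul_le_mul h7 (by omega)

end TSpace

end Cfsg.Lib.Classical.TensorF
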