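import Mathlib

/-! Spaces with a reflexive sesquilinear form, and tensor products of two of them. -/

set_option autoImplicit false
set_option linter.unusedSectionVars false
set_option linter.unusedSimpArgs false

namespace Cfsg.Lib.Classical.TensorF

universe u v w x

/-- A non-degenerate reflexive form: linear on the left, `σ`-semilinear on the right, `h y x = ε σ(h x y)`. -/
structure RSpace {F : Type u} [Field F] (σ : F →+* F) (ε : F) (V : Type v) [AddCommGroup V] [Module F V] where
  h : V → V → F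
  add_left : ∀ x y z, h (x + y) z = h x z + h y z
  smul_left : ∀ (c : F) x z, h (c • x) z = c * h x z
  symm : ∀ x y, h y x = ε * σ (h x y)
  nd : ∀ x, (∀ y, h x y = 0) → x = 0
  split : ∀ x, ∃ c, h x x = c + ε * σ c
  invol : ∀ c, σ (σ c) = c
  eps : ε * ε = 1
  seps : σ ε = ε

variable {F : Type u} [Field F] {σ : F →+* F} {ε : F} {V : Type v} [AddCommGroup V] [Module F V]

namespace RSpace

variable (S : RSpace σ ε V)

/-- The form with the right argument fixed. -/
def lin (y : V) : V →ₗ[F] F where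
  toFun x := S.h x y
  map_add' a b := S.add_left a b y
  map_smul' c a := S.smul_left c a y

theorem lin_apply (y x : V) : S.lin y x = S.h x y := rfl

include S

theorem eps_ne : ε ≠ 0 := fun h => by
  have := S.eps
  rw [h, mul_zero] at this
  exact zero_ne_one this

theorem sigma_inj {a b : F} (h : σ a = σ b) : a = b := by rw [← S.invol a, h, S.invol]

theorem add_right (x y z : V) : S.h x (y + z) = S.h x y + S.h x z := by
  rw [S.symm (y + z), S.add_left, map_add, mul_add, ← S.symm, ← S.symm]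

theorem smul_right (c : F) (x z : V) : S.h x (c • z) = σ c * S.h x z := by
  rw [S.symm (c • z), S.smul_left, map_mul, S.symm z x]; ring

theorem zero_left (x : V) : S.h 0 x = 0 := map_zero (S.lin x)

theorem zero_right (x : V) : S.h x 0 = 0 := by rw [S.symm, S.zero_left, map_zero, mul_zero]

theorem neg_left (x y : V) : S.h (-x) y = -S.h x y := map_neg (S.lin y) x

theorem sub_left (x y z : V) : S.h (x - y) z = S.h x z - S.h y z := map_sub (S.lin z) x y

theorem neg_right (x y : V) : S.h x (-y) = -S.h x y := by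
  rw [← neg_one_smul F y, S.smul_right, map_neg, map_one, neg_one_mul]

theorem sub_right (x y z : V) : S.h x (y - z) = S.h x y - S.h x z := by
  rw [sub_eq_add_neg, S.add_right, S.neg_right, sub_eq_add_neg]

theorem sum_left {κ : Type*} (s : Finset κ) (f : κ → V) (y : V) : S.h (∑ i ∈ s, f i) y = ∑ i ∈ s, S.h (f i) y :=
  map_sum (S.lin y) f s

theorem swap {x y : V} (e : S.h x y = 0) : S.h y x = 0 := by rw [S.symm, e, map_zero, mul_zero]

theorem ext_left {x x' : V} (e : ∀ y, S.h x y = S.h x' y) : x = x' :=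
  sub_eq_zero.mp (S.nd _ fun y => by rw [S.sub_left, e, sub_self])

theorem exists_one {v : V} (hv : v ≠ 0) : ∃ u, S.h u v = 1 := by
  obtain ⟨u, hu⟩ : ∃ u, S.h u v ≠ 0 := by
    by_contra hc
    push Not at hc
    exact hv (S.nd v fun u => S.swap (hc u))
  exact ⟨(S.h u v)⁻¹ • u, by rw [S.smul_left, inv_mul_cancel₀ hu]⟩

theorem exists_rep [FiniteDimensional F V] (φ : V →ₗ[F] F) : ∃ w, ∀ v, S.h v w = φ v := by
  have hinj : Function.Injective fun w => S.lin w := fun w w' e => sub_eq_zero.mp (S.nd _ fun y => S.swap (by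
    rw [S.sub_right, ← S.lin_apply w y, ← S.lin_apply w' y]
    exact sub_eq_zero.mpr (DFunLike.congr_fun e y)))
  let W : Submodule F (V →ₗ[F] F) :=
    { carrier := Set.range fun w => S.lin w
      add_mem' := fun {a b} ha hb => by
        obtain ⟨x, rfl⟩ := ha
        obtain ⟨y, rfl⟩ := hb
        exact ⟨x + y, LinearMap.ext fun v => S.add_right v x y⟩
      zero_mem' := ⟨0, LinearMap.ext fun v => S.zero_right v⟩
      smul_mem' := fun c a ha => by
        obtain ⟨x, rfl⟩ := ha
        exact ⟨σ c • x, LinearMap.ext fun v => by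
          show S.h v (σ c • x) = c * S.h v x
          rw [S.smul_right, S.invol]⟩ }
  suffices htop : W = ⊤ by
    obtain ⟨w, hw⟩ := (htop ▸ Submodule.mem_top : φ ∈ W)
    exact ⟨w, fun v => DFunLike.congr_fun hw v⟩
  by_contra hne
  obtain ⟨Φ, hΦ, hker⟩ := Submodule.exists_le_ker_of_lt_top W (lt_top_iff_ne_top.mpr hne)
  obtain ⟨v, rfl⟩ := (Module.evalEquiv F V).surjective Φ
  refine hΦ ?_
  have : v = 0 := S.nd v fun w => by
    have h1 := LinearMap.mem_ker.mp (hker (⟨w, rfl⟩ : S.lin w ∈ W))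
    rwa [Module.evalEquiv_apply, Module.Dual.eval_apply] at h1
  rw [this, map_zero]

theorem mem_line [FiniteDimensional F V] {e z : V} (he : e ≠ 0) (hz : ∀ w, S.h e w = 0 → S.h z w = 0) :
    ∃ c : F, z = c • e := by
  obtain ⟨f, hf⟩ := S.exists_one he
  have hef : S.h e f = ε := by rw [S.symm, hf, map_one, mul_one]
  refine ⟨ε * S.h z f, sub_eq_zero.mp (S.nd _ fun w => ?_)⟩
  have h0 : S.h e (w - σ (ε * S.h e w) • f) = 0 := by
    rw [S.sub_right, S.smul_right, S.invol, hef]
    linear_combination (-S.h e w) * S.eps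
  have := hz _ h0
  rw [S.sub_right, S.smul_right, S.invol] at this
  rw [S.sub_left, S.smul_left]
  linear_combination this

theorem exists_partner {e : V} (he : e ≠ 0) (hee : S.h e e = 0) : ∃ f, S.h f f = 0 ∧ S.h f e = 1 := by
  obtain ⟨g, hg⟩ := S.exists_one he
  obtain ⟨c, hc⟩ := S.split g
  refine ⟨g - (ε * c) • e, ?_, by rw [S.sub_left, S.smul_left, hg, hee, mul_zero, sub_zero]⟩
  rw [S.sub_left, S.smul_left, S.sub_right, S.sub_right, S.smul_right, S.smul_right, hee, hg, S.symm g e, hg, map_one,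
    hc, map_mul, S.seps]
  linear_combination (-c) * S.eps

theorem exists_pair_perp [FiniteDimensional F V] (h3 : 3 ≤ Module.finrank F V) {e : V} (he : e ≠ 0) :
    ∃ w w', S.h w e = 0 ∧ S.h w' e = 0 ∧ S.h w w' = 1 ∧ ∀ c : F, w ≠ c • e := by
  obtain ⟨w, hw, hwe⟩ : ∃ w, S.h w e = 0 ∧ w ∉ Submodule.span F {e} := by
    by_contra hc
    push Not at hc
    have hle : LinearMap.ker (S.lin e) ≤ Submodule.span F {e} := fun w hw => hc w hw
    have h1 := Submodule.finrank_mono hle
    rw [finrank_span_singleton he] at h1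
    have h2 := (S.lin e).finrank_range_add_finrank_ker
    have h4 := (LinearMap.range (S.lin e)).finrank_le
    rw [Module.finrank_self] at h4
    omega
  have hwc : ∀ c : F, w ≠ c • e := fun c hc => hwe (Submodule.mem_span_singleton.mpr ⟨c, hc.symm⟩)
  obtain ⟨w', hw', hne⟩ : ∃ w', S.h e w' = 0 ∧ S.h w w' ≠ 0 := by
    by_contra hc
    push Not at hc
    obtain ⟨c, hc⟩ := S.mem_line he hc
    exact hwc c hc
  refine ⟨w, σ ((S.h w w')⁻¹) • w', hw, ?_, ?_, hwc⟩
  · rw [S.smul_left, S.swap hw', mul_zero]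
  · rw [S.smul_right, S.invol, inv_mul_cancel₀ hne]

end RSpace

variable {ε₁ ε₂ : F} {U : Type w} [AddCommGroup U] [Module F U] {W : Type x} [AddCommGroup W] [Module F W]

/-- `V` is the tensor product of `U` and `W` through `τ`, compatibly with the forms. -/
structure TSpace (SU : RSpace σ ε₁ U) (SW : RSpace σ ε₂ W) (SV : RSpace σ ε V) where
  τ : U →ₗ[F] W →ₗ[F] V
  form : ∀ v z v' z', SV.h (τ v z) (τ v' z') = SU.h v v' * SW.h z z'
  span : Submodule.span F (Set.range fun p : U × W => τ p.1 p.2) = ⊤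

namespace TSpace

variable {SU : RSpace σ ε₁ U} {SW : RSpace σ ε₂ W} {SV : RSpace σ ε V} (T : TSpace SU SW SV)

theorem ext {M : Type*} [AddCommGroup M] [Module F M] {L L' : V →ₗ[F] M}
    (h : ∀ v z, L (T.τ v z) = L' (T.τ v z)) : L = L' :=
  LinearMap.ext_on T.span fun _ ⟨p, hp⟩ => hp ▸ h p.1 p.2

theorem ext_equiv {g g' : V ≃ₗ[F] V} (h : ∀ v z, g (T.τ v z) = g' (T.τ v z)) : g = g' :=
  LinearEquiv.toLinearMap_injective (T.ext h)

theorem ext_left {x x' : V} (h : ∀ v z, SV.h x (T.τ v z) = SV.h x' (T.τ v z)) : x = x' := by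
  refine SV.ext_left fun y => ?_
  rw [SV.symm y x, SV.symm y x']
  have : SV.lin x = SV.lin x' := T.ext fun v z => by
    show SV.h (T.τ v z) x = SV.h (T.τ v z) x'
    rw [SV.symm x, SV.symm x', h]
  rw [← SV.lin_apply, ← SV.lin_apply, this]

theorem tau_eq_zero {v : U} {z : W} (hv : v ≠ 0) (h : T.τ v z = 0) : z = 0 := by
  obtain ⟨u, hu⟩ := SU.exists_one hv
  refine SW.nd z fun y => ?_
  have := T.form v z u y
  rw [h, SV.zero_left, SU.symm u v, hu, map_one, mul_one] at this
  exact (mul_eq_zero.mp this.symm).resolve_left SU.eps_ne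

theorem tau_ne_zero {v : U} {z : W} (hv : v ≠ 0) (hz : z ≠ 0) : T.τ v z ≠ 0 := fun h => hz (T.tau_eq_zero hv h)

theorem tau_inj_left {v v' : U} {z : W} (hz : z ≠ 0) (h : T.τ v z = T.τ v' z) : v = v' := by
  by_contra hne
  exact hz (T.tau_eq_zero (sub_ne_zero.mpr hne) (by rw [map_sub, LinearMap.sub_apply, h, sub_self]))

theorem tau_inj_right {v : U} {z z' : W} (hv : v ≠ 0) (h : T.τ v z = T.τ v z') : z = z' :=
  sub_eq_zero.mp (T.tau_eq_zero hv (by rw [map_sub, h, sub_self]))

include T in
theorem eps_eq [Nontrivial U] [Nontrivial W] : ε = ε₁ * ε₂ := by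
  obtain ⟨v, hv⟩ := exists_ne (0 : U)
  obtain ⟨z, hz⟩ := exists_ne (0 : W)
  obtain ⟨u, hu⟩ := SU.exists_one hv
  obtain ⟨y, hy⟩ := SW.exists_one hz
  have h1 := SV.symm (T.τ u y) (T.τ v z)
  rw [T.form, T.form, SU.symm u v, SW.symm y z, hu, hy, map_mul, map_one, mul_one, mul_one, mul_one, mul_one] at h1
  exact h1.symm

variable [FiniteDimensional F U] [FiniteDimensional F W]

theorem exists_cw (e : W) (x : V) : ∃ c : U, ∀ v, SU.h c v = SV.h x (T.τ v e) := by
  obtain ⟨c, hc⟩ := SU.exists_rep ((SV.lin x).comp (T.τ.flip e) |>.comp LinearMap.id)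
  refine ⟨(σ (σ ε * ε₁)) • c, fun v => ?_⟩
  rw [SU.smul_left, SU.symm v c, hc, SV.symm (T.τ v e) x, SV.seps]
  simp only [LinearMap.comp_apply, LinearMap.id_apply, LinearMap.flip_apply, RSpace.lin_apply, map_mul, SV.seps,
    SU.seps]
  linear_combination ε * σ (SV.h (T.τ v e) x) * SU.eps

/-- Contraction against a vector of the second space. -/
noncomputable def cw (e : W) : V →ₗ[F] U where
  toFun x := Classical.choose (T.exists_cw e x)
  map_add' x y := SU.ext_left fun v => by
    rw [SU.add_left, Classical.choose_spec (T.exists_cw e (x + y)), Classical.choose_spec (T.exists_cw e x),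
      Classical.choose_spec (T.exists_cw e y), SV.add_left]
  map_smul' c x := SU.ext_left fun v => by
    rw [RingHom.id_apply, SU.smul_left, Classical.choose_spec (T.exists_cw e (c • x)),
      Classical.choose_spec (T.exists_cw e x), SV.smul_left]

theorem h_cw (e : W) (x : V) (v : U) : SU.h (T.cw e x) v = SV.h x (T.τ v e) :=
  Classical.choose_spec (T.exists_cw e x) v

theorem exists_cv (d : U) (x : V) : ∃ c : W, ∀ z, SW.h c z = SV.h x (T.τ d z) := by
  obtain ⟨c, hc⟩ := SW.exists_rep ((SV.lin x).comp (T.τ d))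
  refine ⟨(σ (σ ε * ε₂)) • c, fun v => ?_⟩
  rw [SW.smul_left, SW.symm v c, hc, SV.symm (T.τ d v) x, SV.seps]
  simp only [LinearMap.comp_apply, RSpace.lin_apply, map_mul, SV.seps, SW.seps]
  linear_combination ε * σ (SV.h (T.τ d v) x) * SW.eps

/-- Contraction against a vector of the first space. -/
noncomputable def cv (d : U) : V →ₗ[F] W where
  toFun x := Classical.choose (T.exists_cv d x)
  map_add' x y := SW.ext_left fun v => by
    rw [SW.add_left, Classical.choose_spec (T.exists_cv d (x + y)), Classical.choose_spec (T.exists_cv d x),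
      Classical.choose_spec (T.exists_cv d y), SV.add_left]
  map_smul' c x := SW.ext_left fun v => by
    rw [RingHom.id_apply, SW.smul_left, Classical.choose_spec (T.exists_cv d (c • x)),
      Classical.choose_spec (T.exists_cv d x), SV.smul_left]

theorem h_cv (d : U) (x : V) (z : W) : SW.h (T.cv d x) z = SV.h x (T.τ d z) :=
  Classical.choose_spec (T.exists_cv d x) z

theorem cw_tau (e : W) (v : U) (z : W) : T.cw e (T.τ v z) = SW.h z e • v :=
  SU.ext_left fun u => by rw [T.h_cw, T.form, SU.smul_left, mul_comm]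

theorem cv_tau (d : U) (v : U) (z : W) : T.cv d (T.τ v z) = SU.h v d • z :=
  SW.ext_left fun u => by rw [T.h_cv, T.form, SW.smul_left]

theorem cw_add (e e' : W) (x : V) : T.cw (e + e') x = T.cw e x + T.cw e' x :=
  SU.ext_left fun u => by rw [SU.add_left, T.h_cw, T.h_cw, T.h_cw, map_add, SV.add_right]

theorem cw_smul (c : F) (e : W) (x : V) : T.cw (c • e) x = σ c • T.cw e x :=
  SU.ext_left fun u => by rw [SU.smul_left, T.h_cw, T.h_cw, map_smul, SV.smul_right]

theorem cv_add (d d' : U) (x : V) : T.cv (d + d') x = T.cv d x + T.cv d' x :=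
  SW.ext_left fun u => by rw [SW.add_left, T.h_cv, T.h_cv, T.h_cv, map_add, LinearMap.add_apply, SV.add_right]

theorem cv_smul (c : F) (d : U) (x : V) : T.cv (c • d) x = σ c • T.cv d x :=
  SW.ext_left fun u => by rw [SW.smul_left, T.h_cv, T.h_cv, map_smul, LinearMap.smul_apply, SV.smul_right]

theorem cv_cw (d : U) (e : W) (x : V) : SW.h (T.cv d x) e = SU.h (T.cw e x) d := by rw [T.h_cv, T.h_cw]

/-- Linear maps agreeing on `U ⊗ e^⊥` agree on the vectors orthogonal to `U ⊗ e`. -/
theorem ext_perp {M : Type*} [AddCommGroup M] [Module F M] {L L' : V →ₗ[F] M} {e : W} (he : e ≠ 0)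
    (h : ∀ v z, SW.h z e = 0 → L (T.τ v z) = L' (T.τ v z)) {x : V} (hx : T.cw e x = 0) : L x = L' x := by
  obtain ⟨f, hf⟩ := SW.exists_one he
  let π : V →ₗ[F] V := LinearMap.id - (T.τ.flip f).comp (T.cw e)
  have hπ : L.comp π = L'.comp π := T.ext fun v z => by
    have : π (T.τ v z) = T.τ v (z - SW.h z e • f) := by
      simp [π, T.cw_tau, map_sub, map_smul]
    rw [LinearMap.comp_apply, LinearMap.comp_apply, this]
    exact h v _ (by rw [SW.sub_left, SW.smul_left, hf, mul_one, sub_self])
  have := DFunLike.congr_fun hπ x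
  simpa [π, hx] using this

/-- A vector whose contractions with `e^⊥` vanish lies in `U ⊗ e`. -/
theorem mem_line {e : W} (he : e ≠ 0) {x : V} (hx : ∀ w, SW.h e w = 0 → T.cw w x = 0) :
    ∃ c : U, x = T.τ c e := by
  obtain ⟨f, hf⟩ := SW.exists_one he
  have hef : SW.h e f = ε₂ := by rw [SW.symm, hf, map_one, mul_one]
  refine ⟨ε₂ • T.cw f x, T.ext_left fun v z => ?_⟩
  have h0 : SW.h e (z - σ (ε₂ * SW.h e z) • f) = 0 := by
    rw [SW.sub_right, SW.smul_right, SW.invol, hef]
    linear_combination (-SW.h e z) * SW.eps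
  have h1 := T.h_cw (z - σ (ε₂ * SW.h e z) • f) x v
  rw [hx _ h0, SU.zero_left, map_sub, map_smul, SV.sub_right, SV.smul_right, SW.invol, ← T.h_cw f] at h1
  rw [T.form, SU.smul_left]
  linear_combination -h1

end TSpace

end Cfsg.Lib.Classical.TensorF
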