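import Cfsg.Agent.Classical.TensorF.Root

/-! If the radical elements of `X` are Kronecker products, the stabiliser of `U ⊗ e` in `X` consists of such. -/

set_option autoImplicit false
set_option linter.unusedSectionVars false
set_option linter.unusedSimpArgs false
set_option linter.style.haveILetI false

namespace Cfsg.Lib.Classical.TensorF

universe u v w x

variable {F : Type u} [Field F] {σ : F →+* F} {ε ε₁ ε₂ : F} {V : Type v} [AddCommGroup V] [Module F V]
  {U : Type w} [AddCommGroup U] [Module F U] {W : Type x} [AddCommGroup W] [Module F W]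
  {SU : RSpace σ ε₁ U} {SW : RSpace σ ε₂ W} {SV : RSpace σ ε V}

theorem RSpace.transitive (S : RSpace σ ε₂ W) (hs : ∃ l : F, l ≠ 0 ∧ σ l + ε₂ * l = 0) {P : W → Prop}
    (hP : ∀ (d : W) (l : F) x, S.h d d = 0 → σ l + ε₂ * l = 0 → S.h x x = 0 → P x → P (x + (l * S.h x d) • d))
    (hsc : ∀ (c : F) x, c ≠ 0 → P x → P (c • x)) {x y : W} (hx : x ≠ 0) (hy : y ≠ 0) (hxx : S.h x x = 0)
    (hyy : S.h y y = 0) (h₀ : P x) : P y := by
  obtain ⟨l, hl0, hl⟩ := hs
  have one : ∀ x y, S.h x x = 0 → S.h y y = 0 → S.h x y ≠ 0 → P x → P y := by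
    intro x y hxx hyy hxy hPx
    set μ := σ (l / S.h x y) with hμ
    have hμ0 : μ ≠ 0 := (map_ne_zero σ).mpr (div_ne_zero hl0 hxy)
    have h1 : S.h x (μ • y) = l := by rw [S.smul_right, hμ, S.invol, div_mul_cancel₀ _ hxy]
    have h2 : S.h (μ • y - x) (μ • y - x) = 0 := by
      rw [S.sub_left, S.sub_right, S.sub_right, S.symm x (μ • y), h1, S.smul_left, S.smul_right, hyy, hxx]
      linear_combination (-ε₂) * hl + l * S.eps
    have hsl : σ l⁻¹ + ε₂ * l⁻¹ = 0 := by
      have hσ : σ l ≠ 0 := (map_ne_zero σ).mpr hl0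
      rw [map_inv₀]
      field_simp
      linear_combination ε₂ * hl - l * S.eps
    have := hP (μ • y - x) l⁻¹ x h2 hsl hxx hPx
    rw [S.sub_right, h1, hxx, sub_zero, inv_mul_cancel₀ hl0, one_smul, add_sub_cancel] at this
    have := hsc μ⁻¹ _ (inv_ne_zero hμ0) this
    rwa [smul_smul, inv_mul_cancel₀ hμ0, one_smul] at this
  by_cases hxy : S.h x y = 0
  · obtain ⟨z, hzz, hz1, hz2⟩ : ∃ z, S.h z z = 0 ∧ S.h z x ≠ 0 ∧ S.h z y ≠ 0 := by
      obtain ⟨a, haa, ha⟩ := S.exists_partner hx hxx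
      obtain ⟨b, hbb, hb⟩ := S.exists_partner hy hyy
      by_cases h1 : S.h a y = 0
      · by_cases h2 : S.h b x = 0
        · obtain ⟨c, hc0, hc⟩ : ∃ c : F, c ≠ 0 ∧ σ c * S.h a b + c * (ε₂ * σ (S.h a b)) = 0 := by
            by_cases hab : S.h a b = 0
            · exact ⟨1, one_ne_zero, by rw [hab]; simp⟩
            · refine ⟨σ (l / S.h a b), (map_ne_zero σ).mpr (div_ne_zero hl0 hab), ?_⟩
              rw [S.invol, div_mul_cancel₀ _ hab, map_div₀]
              field_simp [(map_ne_zero σ).mpr hab]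
              linear_combination ε₂ * hl - l * S.eps
          refine ⟨a + c • b, ?_, ?_, ?_⟩
          · rw [S.add_left, S.add_right, S.add_right, S.smul_left, S.smul_left, S.smul_right, S.smul_right, haa, hbb,
              S.symm a b]
            linear_combination hc
          · rw [S.add_left, S.smul_left, ha, h2]
            simp
          · rw [S.add_left, S.smul_left, h1, hb]
            simpa using hc0
        · exact ⟨b, hbb, h2, by rw [hb]; exact one_ne_zero⟩
      · exact ⟨a, haa, by rw [ha]; exact one_ne_zero, h1⟩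
    exact one z y hzz hyy hz2 (one x z hxx hzz (fun h => hz1 (S.swap h)) h₀)
  · exact one x y hxx hyy hxy h₀

namespace TSpace

variable (T : TSpace SU SW SV)

/-- `k` is in the unipotent radical of the stabiliser of `U ⊗ e`. -/
structure IsRad [FiniteDimensional F U] [FiniteDimensional F W] (e : W) (k : V ≃ₗ[F] V) : Prop where
  fix : ∀ v, k (T.τ v e) = T.τ v e
  perp : ∀ x, T.cw e x = 0 → ∃ c, k x = x + T.τ c e

/-- Every radical element of `X` is a Kronecker product. -/
def RadScalar [FiniteDimensional F U] [FiniteDimensional F W] (X : Subgroup (V ≃ₗ[F] V)) : Prop :=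
  ∀ e : W, e ≠ 0 → SW.h e e = 0 → ∀ k ∈ X, T.IsRad e k → T.IsKron k

variable [FiniteDimensional F U] [FiniteDimensional F W]

theorem cw_map_of_fix {e e' : W} {g : V ≃ₗ[F] V} (hg : SV.IsIsom g) (a : U ≃ₗ[F] U)
    (ha : ∀ v w, SU.h (a v) (a w) = SU.h v w) (hge : ∀ v, g (T.τ v e) = T.τ (a v) e') (x : V) :
    T.cw e' (g x) = a (T.cw e x) :=
  SU.ext_left fun w => by
    conv_rhs => rw [← a.apply_symm_apply w, ha, T.h_cw, ← hg, hge, a.apply_symm_apply]
    rw [T.h_cw]

theorem isRad_unip {e : W} {k : V ≃ₗ[F] V} (hk : SV.IsIsom k) (hr : T.IsRad e k) :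
    Unip k := by
  intro x
  have h1 : ∀ x, T.cw e (res k x) = 0 := fun x => by
    rw [res_apply, map_sub, T.cw_map_of_fix hk (LinearEquiv.refl F U) (fun v w => rfl) hr.fix, LinearEquiv.refl_apply,
      sub_self]
  obtain ⟨c, hc⟩ := hr.perp _ (h1 x)
  rw [res_apply k (res k x), hc, add_sub_cancel_left, res_apply, hr.fix, sub_self]

theorem kron_fix_left {k : V ≃ₗ[F] V} (hk : T.IsKron k) {e : W} (he : e ≠ 0)
    (hfix : ∀ v, k (T.τ v e) = T.τ v e) :
    ∃ s : W →ₗ[F] W, ∀ v z, k (T.τ v z) = T.τ v (s z) := by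
  obtain ⟨A, B, hAB⟩ := hk
  obtain ⟨f, hf⟩ := SW.exists_one he
  have hef : SW.h e f = ε₂ := by rw [SW.symm, hf, map_one, mul_one]
  have hA : ∀ v, SW.h (B e) f • A v = ε₂ • v := fun v => by
    have := congrArg (T.cw f) (hfix v)
    rwa [hAB, T.cw_tau, T.cw_tau, hef] at this
  by_cases h0 : SW.h (B e) f = 0
  · have hU : ∀ v : U, v = 0 := fun v => by
      have := hA v
      rw [h0, zero_smul] at this
      exact (smul_eq_zero.mp this.symm).resolve_left SW.eps_ne
    exact ⟨LinearMap.id, fun v z => by simp [hU v]⟩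
  · refine ⟨(ε₂ / SW.h (B e) f) • B, fun v z => ?_⟩
    have : A v = (ε₂ / SW.h (B e) f) • v := by
      rw [div_eq_inv_mul, mul_smul, ← hA, smul_smul, inv_mul_cancel₀ h0, one_smul]
    rw [hAB, this, map_smul, LinearMap.smul_apply, LinearMap.smul_apply, map_smul]

variable {T} {G X : Subgroup (V ≃ₗ[F] V)}

theorem rootW_act {e w : W} {l : F} {R : V ≃ₗ[F] V} (hR : ∀ v z, R (T.τ v z) = T.τ v (SW.rmap e w l z)) (x : V) :
    R x = x + T.τ (T.cw e x) (w + l • e) - ε₂ • T.τ (T.cw w x) e := by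
  refine DFunLike.congr_fun (T.ext (L := R.toLinearMap)
    (L' := LinearMap.id + (T.τ.flip (w + l • e)).comp (T.cw e) - ε₂ • (T.τ.flip e).comp (T.cw w))
    fun v z => ?_) x
  show R (T.τ v z) = T.τ v z + T.τ (T.cw e (T.τ v z)) (w + l • e) - ε₂ • T.τ (T.cw w (T.τ v z)) e
  rw [hR, SW.rmap_apply, T.cw_tau, T.cw_tau]
  simp only [map_add, map_sub, map_smul, LinearMap.smul_apply, smul_smul]
  module

theorem kron_of_stab [Nontrivial U] (h3 : 3 ≤ Module.finrank F W ∨ ∃ l : F, l ≠ 0 ∧ σ l + ε₂ * l = 0)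
    (hX : T.Mid G X) (hA : T.RadScalar X) {e : W}
    (he : e ≠ 0) (hee : SW.h e e = 0) {g : V ≃ₗ[F] V} (hgX : g ∈ X)
    (hg : ∀ v : U, ∃ v', g (T.τ v e) = T.τ v' e) : T.IsKron g := by
  haveI : Nontrivial W := ⟨e, 0, he⟩
  have hgI := hX.isomX hgX
  choose A₀ hA₀ using hg
  let A : U →ₗ[F] U :=
    { toFun := A₀
      map_add' := fun a b => T.tau_inj_left he (by
        rw [← hA₀, map_add, LinearMap.add_apply, map_add, hA₀, hA₀, map_add, LinearMap.add_apply])
      map_smul' := fun c a => T.tau_inj_left he (by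
        rw [RingHom.id_apply, ← hA₀, map_smul, LinearMap.smul_apply, map_smul, hA₀, map_smul, LinearMap.smul_apply]) }
  have hAv : ∀ v, g (T.τ v e) = T.τ (A v) e := hA₀
  have hAinj : Function.Injective A := by
    rw [← LinearMap.ker_eq_bot, LinearMap.ker_eq_bot']
    intro a ha
    by_contra ha0
    refine T.tau_ne_zero ha0 he (g.map_eq_zero_iff.mp ?_)
    rw [hAv, ha, map_zero, LinearMap.zero_apply]
  let Ae : U ≃ₗ[F] U := LinearEquiv.ofInjectiveEndo A hAinj
  have hAe : ∀ v, A (Ae.symm v) = v := fun v => Ae.apply_symm_apply v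
  have hperp : ∀ x, T.cw e x = 0 → T.cw e (g x) = 0 := fun x hx =>
    SU.nd _ fun v => by rw [T.h_cw, ← hAe v, ← hAv, hgI, ← T.h_cw, hx, SU.zero_left]
  -- the contractions of the images
  have hc : ∀ w, SW.h e w = 0 → ∀ z, SW.h z e = 0 → ∃ c : F, ∀ u, T.cw w (g (T.τ u z)) = c • A u := by
    intro w hw z hz
    obtain ⟨l, hd⟩ := SW.exists_rootData (SW.swap hw)
    obtain ⟨R, hR, -, hRv⟩ := hX.exists_rootX hee hd
    set k := g⁻¹ * R * g with hk0
    have hRfix : ∀ v, R (T.τ v e) = T.τ v e := fun v => by rw [hRv, SW.rmap_self hee hd]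
    have hact : ∀ x, T.cw e x = 0 → g (k x) = g x - ε₂ • T.τ (T.cw w (g x)) e := fun x hx => by
      show g (g.symm (R (g x))) = _
      rw [g.apply_symm_apply, rootW_act hRv, hperp x hx, map_zero, LinearMap.zero_apply, add_zero]
    have hk : T.IsRad e k := by
      refine ⟨fun v => ?_, fun x hx => ⟨-(ε₂ • Ae.symm (T.cw w (g x))), g.injective ?_⟩⟩
      · show g.symm (R (g (T.τ v e))) = _
        rw [hAv, hRfix, ← hAv, g.symm_apply_apply]
      · rw [hact x hx, map_add, hAv, map_neg, map_smul, hAe, map_neg, LinearMap.neg_apply, map_smul,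
          LinearMap.smul_apply, sub_eq_add_neg]
    obtain ⟨s, hs⟩ := T.kron_fix_left (hA e he hee _ (mul_mem (mul_mem (inv_mem hgX) hR) hgX) hk) he hk.fix
    obtain ⟨u₁, hu₁⟩ := exists_ne (0 : U)
    obtain ⟨d, hd₁⟩ := SU.exists_one hu₁
    have hu₁d : SU.h u₁ d = ε₁ := by rw [SU.symm, hd₁, map_one, mul_one]
    obtain ⟨c₁, hc₁⟩ := hk.perp (T.τ u₁ z) (by rw [T.cw_tau, hz, zero_smul])
    obtain ⟨γ, hγ⟩ : ∃ γ : F, s z = z + γ • e := by
      refine ⟨ε₁ * SU.h c₁ d, ?_⟩
      have := congrArg (T.cv d) hc₁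
      rw [hs, map_add, T.cv_tau, T.cv_tau, T.cv_tau, hu₁d] at this
      have := congrArg (fun x => ε₁ • x) this
      simpa only [smul_add, smul_smul, SU.eps, one_smul] using this
    refine ⟨-(ε₂ * γ), fun u => T.tau_inj_left he ?_⟩
    have h1 := hact (T.τ u z) (by rw [T.cw_tau, hz, zero_smul])
    rw [hs, hγ, map_add, map_smul, map_add, map_smul, hAv, sub_eq_add_neg, add_right_inj] at h1
    have h2 := congrArg (fun x => ε₂ • x) h1
    simp only [smul_neg, smul_smul, SW.eps, one_smul] at h2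
    rw [map_smul, LinearMap.smul_apply, neg_smul, h2, neg_neg]
  -- the induced map on the second factor
  obtain ⟨u₀, hu₀⟩ := exists_ne (0 : U)
  obtain ⟨v₀, hv₀⟩ : ∃ v₀, SU.h (A u₀) v₀ = 1 := by
    obtain ⟨v, hv⟩ := SU.exists_one (fun h => hu₀ (hAinj (h.trans (map_zero A).symm)))
    exact ⟨ε₁ • v, by rw [SU.smul_right, SU.symm v, hv, map_one, mul_one, SU.seps, SU.eps]⟩
  let D : W →ₗ[F] W := ((T.cv v₀).comp g.toLinearMap).comp (T.τ u₀)
  have hD : ∀ z, D z = T.cv v₀ (g (T.τ u₀ z)) := fun z => rfl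
  have hDe : D e = e := by rw [hD, hAv, T.cv_tau, hv₀, one_smul]
  have hmod : ∀ z, SW.h z e = 0 → ∀ u, ∃ c, g (T.τ u z) = T.τ (A u) (D z) + T.τ c e := by
    intro z hz u
    obtain ⟨c, hc'⟩ := T.mem_line he (x := g (T.τ u z) - T.τ (A u) (D z)) fun w hw => by
      obtain ⟨c, hcu⟩ := hc w hw z hz
      rw [map_sub, T.cw_tau, hcu, hD, T.cv_cw, hcu, SU.smul_left, hv₀, mul_one, sub_self]
    exact ⟨c, by rw [← hc', add_sub_cancel]⟩
  have hDperp : ∀ z, SW.h z e = 0 → SW.h (D z) e = 0 := fun z hz => by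
    rw [hD, T.cv_cw, hperp _ (by rw [T.cw_tau, hz, zero_smul]), SU.zero_left]
  have hiso : ∀ z, SW.h z e = 0 → ∀ z', SW.h z' e = 0 → ∀ u u',
      SU.h (A u) (A u') * SW.h (D z) (D z') = SU.h u u' * SW.h z z' := by
    intro z hz z' hz' u u'
    obtain ⟨c, hc⟩ := hmod z hz u
    obtain ⟨c', hc'⟩ := hmod z' hz' u'
    rw [← T.form u z u' z', ← hgI (T.τ u z), hc, hc', SV.add_left, SV.add_right, SV.add_right, T.form, T.form,
      T.form, T.form, hee, hDperp z hz, SW.swap (hDperp z' hz')]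
    ring
  obtain ⟨ν, hsim₁⟩ : ∃ ν : F, ∀ u u', ν * SU.h (A u) (A u') = SU.h u u' := by
    rcases h3 with h3 | ⟨l, hl0, hl⟩
    · obtain ⟨w₁, w₂, h₁, h₂, h₁₂, -⟩ := SW.exists_pair_perp h3 he
      refine ⟨SW.h (D w₁) (D w₂), fun u u' => ?_⟩
      have := hiso w₁ h₁ w₂ h₂ u u'
      rw [h₁₂, mul_one] at this
      rw [mul_comm, this]
    · obtain ⟨t, htX, -, ht⟩ := hX.exists_tW hee hl
      set k := g⁻¹ * t * g with hk0
      have hgk : ∀ x, g (k x) = t (g x) := fun x => g.apply_symm_apply _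
      have htx : ∀ x, t x = x + l • T.τ (T.cw e x) e := fun x => by
        rw [← ht.res_apply, res_apply, add_sub_cancel]
      have hk : T.IsRad e k := by
        refine ⟨fun v => g.injective ?_, fun x hx => ⟨0, g.injective ?_⟩⟩
        · rw [hgk, htx, hAv, T.cw_tau, hee, zero_smul, map_zero, LinearMap.zero_apply, smul_zero, add_zero]
        · rw [hgk, htx, hperp x hx]
          simp
      obtain ⟨s, hs⟩ := T.kron_fix_left (hA e he hee _ (mul_mem (mul_mem (inv_mem hgX) htX) hgX) hk) he hk.fix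
      obtain ⟨f, hf⟩ := SW.exists_one he
      have hef : SW.h e f = ε₂ := by rw [SW.symm, hf, map_one, mul_one]
      have hl2 : l * ε₂ ≠ 0 := mul_ne_zero hl0 SW.eps_ne
      refine ⟨(l * ε₂)⁻¹ * (SW.h (s f) f - SW.h f f), fun u u' => ?_⟩
      set κ := (l * ε₂)⁻¹ * (SW.h (s f) f - SW.h f f) with hκ
      set c := T.cw e (g (T.τ u f)) with hc0
      have h1 : k (T.τ u f) = T.τ u f + l • T.τ (Ae.symm c) e := g.injective (by
        rw [hgk, htx, map_add, map_smul, hAv, hAe])
      have h2 := congrArg (T.cw f) h1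
      rw [hs, map_add, map_smul, T.cw_tau, T.cw_tau, T.cw_tau, hef, smul_smul] at h2
      have hcA : c = κ • A u := by
        rw [← hAe c, ← map_smul]
        congr 1
        rw [hκ, mul_smul, eq_inv_smul_iff₀ hl2, sub_smul, h2, add_sub_cancel_left]
      have h3 := T.h_cw e (g (T.τ u f)) (A u')
      rwa [← hc0, hcA, SU.smul_left, ← hAv, hgI, T.form, hf, mul_one] at h3
  obtain ⟨u₂, hu₂⟩ := SU.exists_one hu₀
  have hν0 : ν ≠ 0 := fun h => by
    have := hsim₁ u₂ u₀
    rw [h, zero_mul, hu₂] at this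
    exact zero_ne_one this
  have hνσ : σ ν = ν := by
    have h1 := congrArg σ (hsim₁ u₀ u₂)
    have h2 := hsim₁ u₂ u₀
    rw [map_mul] at h1
    rw [SU.symm (A u₀), SU.symm u₀ u₂] at h2
    have hne : SU.h (A u₀) (A u₂) ≠ 0 := fun h => by
      have h3 := hsim₁ u₀ u₂
      rw [h, mul_zero, SU.symm u₂ u₀, hu₂, map_one, mul_one] at h3
      exact SU.eps_ne h3.symm
    refine mul_right_cancel₀ (mul_ne_zero SU.eps_ne ((map_ne_zero σ).mpr hne)) ?_
    linear_combination ε₁ * h1 - h2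
  have hsim₂ : ∀ z, SW.h z e = 0 → ∀ z', SW.h z' e = 0 → SW.h (D z) (D z') = ν * SW.h z z' := fun z hz z' hz' => by
    have := hiso z hz z' hz' u₂ u₀
    rw [hu₂, one_mul] at this
    have h' := hsim₁ u₂ u₀
    rw [hu₂] at h'
    linear_combination ν * this - SW.h (D z) (D z') * h'
  have hDe' : ∀ z, SW.h (D z) e = ν * SW.h z e := by
    intro z
    have hcw : T.cw e (g (T.τ u₀ z)) = (ν * SW.h z e) • A u₀ := SU.ext_left fun v => by
      rw [SU.smul_left, T.h_cw, ← hAe v, ← hAv, hgI, T.form, ← hsim₁ u₀]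
      ring
    rw [hD, T.cv_cw, hcw, SU.smul_left, hv₀, mul_one]
  have hDinj : Function.Injective D := by
    rw [← LinearMap.ker_eq_bot, LinearMap.ker_eq_bot']
    intro z hz
    have h0 : SW.h z e = 0 := by
      have := hDe' z
      rw [hz, SW.zero_left, zero_eq_mul] at this
      exact this.resolve_left hν0
    obtain ⟨c, hc⟩ := SW.mem_line he (z := z) fun w hw => by
      have := hsim₂ z h0 w (SW.swap hw)
      rw [hz, SW.zero_left, zero_eq_mul] at this
      exact this.resolve_left hν0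
    rw [hc, map_smul, hDe, smul_eq_zero] at hz
    rw [hc, hz.resolve_right he, zero_smul]
  obtain ⟨f, hff, hf⟩ := SW.exists_partner he hee
  have hef : SW.h e f = ε₂ := by rw [SW.symm, hf, map_one, mul_one]
  let De : W ≃ₗ[F] W := LinearEquiv.ofInjectiveEndo D hDinj
  obtain ⟨F', hF'⟩ := SW.exists_rep (ν • (SW.lin f).comp De.symm.toLinearMap)
  have hFD : ∀ y, SW.h (D y) F' = ν * SW.h y f := fun y => by
    rw [hF', LinearMap.smul_apply, LinearMap.comp_apply, LinearEquiv.coe_coe, smul_eq_mul,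
      show De.symm (D y) = y from De.symm_apply_apply y, SW.lin_apply]
  have hFe : SW.h F' e = ν := by
    rw [SW.symm e F', ← hDe, hFD, hef, map_mul, hνσ, SW.seps]
    linear_combination ν * SW.eps
  obtain ⟨c₀, hc₀⟩ := SW.split F'
  set Ff := F' - (ε₂ * c₀ / ν) • e with hFf
  have hFfe : SW.h Ff e = ν := by rw [hFf, SW.sub_left, SW.smul_left, hee, hFe, mul_zero, sub_zero]
  have hFfF : SW.h Ff Ff = 0 := by
    rw [hFf, SW.sub_left, SW.sub_right, SW.sub_right, SW.smul_left, SW.smul_left, SW.smul_right, SW.smul_right, hee,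
      SW.symm F' e, hFe, hc₀, hνσ, map_div₀, map_mul, SW.seps, hνσ]
    field_simp
    linear_combination (-(c₀ * ν ^ 2)) * SW.eps
  let Bh : W →ₗ[F] W := D.comp (LinearMap.id - (SW.lin e).smulRight f) + (SW.lin e).smulRight Ff
  have hBh : ∀ z, Bh z = D (z - SW.h z e • f) + SW.h z e • Ff := fun z => rfl
  have hsim : ∀ z z', SW.h (Bh z) (Bh z') = ν * SW.h z z' := by
    intro z z'
    have h0 : ∀ y, SW.h (y - SW.h y e • f) e = 0 := fun y => by rw [SW.sub_left, SW.smul_left, hf, mul_one, sub_self]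
    have h1 : ∀ y, SW.h (D (y - SW.h y e • f)) Ff = ν * SW.h (y - SW.h y e • f) f := fun y => by
      rw [hFf, SW.sub_right, SW.smul_right, hDperp _ (h0 y), mul_zero, sub_zero, hFD]
    rw [hBh, hBh, SW.add_left, SW.add_right, SW.add_right, hsim₂ _ (h0 z) _ (h0 z'), SW.smul_left, SW.smul_left,
      SW.smul_right, SW.smul_right, h1, SW.symm (D (z' - SW.h z' e • f)) Ff, h1, hFfF]
    simp only [SW.sub_left, SW.sub_right, SW.smul_left, SW.smul_right, hff, SW.symm z' f, map_mul, map_sub, hνσ,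
      SW.seps, SW.invol, map_zero]
    ring
  have hBhe : Bh e = e := by rw [hBh, hee, zero_smul, zero_smul, sub_zero, add_zero, hDe]
  have hBhinj : Function.Injective Bh := by
    rw [← LinearMap.ker_eq_bot, LinearMap.ker_eq_bot']
    intro z hz
    refine SW.nd z fun z' => ?_
    have := hsim z z'
    rw [hz, SW.zero_left, zero_eq_mul] at this
    exact this.resolve_left hν0
  obtain ⟨h, hhv, hhk⟩ := T.exists_kron Ae (LinearEquiv.ofInjectiveEndo Bh hBhinj)
  have hact : ∀ v z, h (T.τ v z) = T.τ (A v) (Bh z) := hhv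
  have hhI : SV.IsIsom h := T.isom_of_tau fun v z v' z' => by
    rw [hact, hact, T.form, hsim, ← hsim₁ v v']
    ring
  have hhe : ∀ v, h (T.τ v e) = T.τ (A v) e := fun v => by rw [hact, hBhe]
  set k := h⁻¹ * g with hk0
  have hk : T.IsRad e k := by
    refine ⟨fun v => ?_, fun x hx => ?_⟩
    · show h.symm (g (T.τ v e)) = _
      rw [hAv, ← hhe, h.symm_apply_apply]
    obtain ⟨c, hc⟩ := T.mem_line he (x := g x - h x) fun w hw => by
      have := T.ext_perp he (L := (T.cw w).comp g.toLinearMap) (L' := (T.cw w).comp h.toLinearMap) (fun v z hz => by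
        obtain ⟨c, hc⟩ := hmod z hz v
        show T.cw w (g _) = T.cw w (h _)
        rw [hc, hact, hBh, hz, zero_smul, zero_smul, sub_zero, add_zero, map_add, T.cw_tau _ c, hw, zero_smul,
          add_zero]) hx
      rw [map_sub, sub_eq_zero]
      exact this
    refine ⟨Ae.symm c, h.injective ?_⟩
    show h (h.symm (g x)) = _
    rw [h.apply_symm_apply, map_add, hhe, hAe, ← hc, add_sub_cancel]
  have hkI : SV.IsIsom k := hhI.inv.mul hgI
  have hkG := hX.unip k hkI (T.isRad_unip hkI hk)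
  have hhG : h ∈ G := by
    have := mul_mem (hX.le hgX) (inv_mem hkG)
    rwa [hk0, mul_inv_rev, inv_inv, ← mul_assoc, mul_inv_cancel, one_mul] at this
  have := IsKron.mul T hhk (hA e he hee _ (mul_mem (inv_mem (hX.kron h hhG hhk)) hgX) hk)
  rwa [mul_inv_cancel_left] at this

theorem kron_of_image [Nontrivial U] (hs : ∃ l : F, l ≠ 0 ∧ σ l + ε₂ * l = 0)
    (hX : T.Mid G X) (hA : T.RadScalar X) {e e' : W} (he : e ≠ 0) (hee : SW.h e e = 0) (he' : e' ≠ 0)
    (hee' : SW.h e' e' = 0) {g : V ≃ₗ[F] V} (hgX : g ∈ X) (hg : ∀ v : U, ∃ v', g (T.τ v e) = T.τ v' e') :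
    T.IsKron g := by
  have key : ∀ g ∈ X, (∀ v : U, ∃ v', g (T.τ v e) = T.τ v' e') → T.IsKron g := by
    refine SW.transitive hs (P := fun e' => ∀ g ∈ X, (∀ v : U, ∃ v', g (T.τ v e) = T.τ v' e') → T.IsKron g)
      (fun d l x hd hl _ hx g hg himg => ?_) (fun c x _ hx g hg himg => hx g hg fun v => ?_) he he' hee hee'
      (fun g hg himg => kron_of_stab (Or.inr hs) hX hA he hee hg himg)
    · obtain ⟨s, hsX, hsk, hs⟩ := hX.exists_tW hd hl
      have hk : T.IsKron (s⁻¹ * g) := by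
        refine hx _ (mul_mem (inv_mem hsX) hg) fun v => ?_
        obtain ⟨v', hv'⟩ := himg v
        refine ⟨v', s.injective ?_⟩
        show s (s.symm (g _)) = _
        rw [s.apply_symm_apply, hv', hs]
      have := IsKron.mul T hsk hk
      rwa [mul_inv_cancel_left] at this
    · obtain ⟨v', hv'⟩ := himg v
      exact ⟨c • v', by rw [hv', map_smul, map_smul, LinearMap.smul_apply]⟩
  exact key g hgX hg

end TSpace

end Cfsg.Lib.Classical.TensorF
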