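import Cfsg.Agent.Classical.TensorF.OrthSym

/-! A symmetric and an alternating factor: radical elements outside the Kronecker products give all transvections. -/

set_option autoImplicit false
set_option linter.unusedSectionVars false
set_option linter.unusedSimpArgs false
set_option linter.style.haveILetI false

namespace Cfsg.Lib.Classical.TensorF

universe u v w x

variable {F : Type u} [Field F] [Finite F] {V : Type v} [AddCommGroup V] [Module F V]
  {U : Type w} [AddCommGroup U] [Module F U] {W : Type x} [AddCommGroup W] [Module F W]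
  {SU : RSpace (RingHom.id F) 1 U} {SW : RSpace (RingHom.id F) (-1) W} {SV : RSpace (RingHom.id F) (-1) V}

theorem RSpace.alt_self {ε : F} (hε : ε = -1) (h2 : (2 : F) ≠ 0) (S : RSpace (RingHom.id F) ε V) (x : V) :
    S.h x x = 0 := by
  subst hε
  have h := S.symm x x
  rw [RingHom.id_apply] at h
  exact (mul_eq_zero.mp (by linear_combination h : (2 : F) * S.h x x = 0)).resolve_left h2

theorem RSpace.alt_swap (S : RSpace (RingHom.id F) (-1) W) (x y : W) : S.h y x = -S.h x y := by
  rw [S.symm, RingHom.id_apply, neg_one_mul]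

theorem RSpace.sp_transitive [FiniteDimensional F W] (S : RSpace (RingHom.id F) (-1) W) (h2 : (2 : F) ≠ 0)
    {P : W → Prop} (hP : ∀ (d : W) (l : F) x, P x → P (x + (l * S.h x d) • d)) {x y : W} (hx : x ≠ 0) (hy : y ≠ 0)
    (h₀ : P x) : P y := by
  have one : ∀ x y, S.h x y ≠ 0 → P x → P y := fun x y hxy hPx => by
    have := hP (y - x) (S.h x y)⁻¹ x hPx
    rwa [S.sub_right, S.alt_self rfl h2 x, sub_zero, inv_mul_cancel₀ hxy, one_smul, add_sub_cancel] at this
  by_cases hxy : S.h x y = 0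
  · obtain ⟨u, hu⟩ := S.exists_one hx
    obtain ⟨v, hv⟩ := S.exists_one hy
    obtain ⟨z, hzx, hzy⟩ : ∃ z, S.h z x ≠ 0 ∧ S.h z y ≠ 0 := by
      by_cases h1 : S.h u y = 0
      · by_cases h3 : S.h v x = 0
        · exact ⟨u + v, by rw [S.add_left, hu, h3, add_zero]; exact one_ne_zero,
            by rw [S.add_left, h1, hv, zero_add]; exact one_ne_zero⟩
        · exact ⟨v, h3, by rw [hv]; exact one_ne_zero⟩
      · exact ⟨u, by rw [hu]; exact one_ne_zero, h1⟩
    exact one z y hzy (one x z (by rw [S.alt_swap z x]; exact neg_ne_zero.mpr hzx) h₀)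
  · exact one x y hxy h₀

namespace TSpace

variable {T : TSpace SU SW SV} [FiniteDimensional F U] [FiniteDimensional F W] {G X : Subgroup (V ≃ₗ[F] V)}

theorem exists_isoU (hX : T.Mid G X) (hG : ∀ g, SV.IsIsom g → g ∈ G) (a : U ≃ₗ[F] U)
    (ha : ∀ v w, SU.h (a v) (a w) = SU.h v w) : ∃ g ∈ X, ∀ v z, g (T.τ v z) = T.τ (a v) z := by
  obtain ⟨g, hg, hk⟩ := T.exists_kron a (LinearEquiv.refl F W)
  refine ⟨g, hX.kron g (hG g (T.isom_of_tau fun v z v' z' => ?_)) hk, hg⟩
  rw [hg, hg, T.form, ha]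
  rfl

theorem cent_conjU (hX : T.Mid G X) (hG : ∀ g, SV.IsIsom g → g ∈ G) (a : U ≃ₗ[F] U)
    (ha : ∀ v w, SU.h (a v) (a w) = SU.h v w) {e : W} {C : Module.End F U} (h : T.Cent X e C) :
    T.Cent X e (a.toLinearMap.comp (C.comp a.symm.toLinearMap)) := by
  obtain ⟨g, hg, hgv⟩ := exists_isoU hX hG a ha
  obtain ⟨k, hk, hkx⟩ := h
  refine ⟨g * k * g⁻¹, mul_mem (mul_mem hg hk) (inv_mem hg), fun x => ?_⟩
  show g (k (g.symm x)) = _
  have hcw := T.cw_map_of_fix (hX.isomX hg) a ha (fun v => hgv v e) (g.symm x)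
  rw [g.apply_symm_apply] at hcw
  rw [hkx, map_add, g.apply_symm_apply, hgv, hcw]
  simp

/-- The blocks that occur as centres at every point. -/
def centSpace (T : TSpace SU SW SV) (hX : T.Mid G X) (h2 : (2 : F) ≠ 0) : Submodule F (Module.End F U) where
  carrier := {C | ∀ e : W, e ≠ 0 → T.Cent X e C}
  add_mem' := fun {C C'} h h' e he => by
    obtain ⟨k, hk, hkx⟩ := h e he
    obtain ⟨k', hk', hkx'⟩ := h' e he
    refine ⟨k * k', mul_mem hk hk', fun x => ?_⟩
    show k (k' x) = _
    rw [hkx', hkx, map_add, T.cw_tau, SW.alt_self rfl h2 e, zero_smul, add_zero, LinearMap.add_apply, map_add,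
      LinearMap.add_apply]
    abel
  zero_mem' := fun e _ => ⟨1, one_mem X, fun x => by simp⟩
  smul_mem' := fun c C h e he => by
    have hsq : ∀ d : F, d ≠ 0 → T.Cent X e ((d * d) • C) := fun d hd => by
      have := cent_scale d⁻¹ (inv_ne_zero hd) (h (d • e) (smul_ne_zero hd he))
      rwa [smul_smul, inv_mul_cancel₀ hd, one_smul, RingHom.id_apply, mul_inv_rev, inv_inv] at this
    have hsq' : ∀ d : F, T.Cent X e ((d * d) • C) := fun d => by
      by_cases hd : d = 0
      · exact ⟨1, one_mem X, fun x => by simp [hd]⟩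
      · exact hsq d hd
    obtain ⟨k, hk, hkx⟩ := hsq' ((c + 1) / 2)
    obtain ⟨k', hk', hkx'⟩ := hsq' ((c - 1) / 2)
    refine ⟨k * k'⁻¹, mul_mem hk (inv_mem hk'), fun x => ?_⟩
    set y := (k'⁻¹ : V ≃ₗ[F] V) x with hy
    have hxy : x = k' y := (k'.apply_symm_apply x).symm
    have hcw : T.cw e x = T.cw e y := by
      rw [hxy, hkx', map_add, T.cw_tau, SW.alt_self rfl h2 e, zero_smul, add_zero]
    show k y = _
    rw [hkx, hcw]
    conv_rhs => rw [hxy, hkx']
    rw [show c • C = ((c + 1) / 2 * ((c + 1) / 2)) • C - ((c - 1) / 2 * ((c - 1) / 2)) • C by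
      rw [← sub_smul]; congr 1; field_simp; ring]
    simp only [LinearMap.sub_apply, map_sub, LinearMap.smul_apply, map_smul]
    abel

theorem cent_selfAdj (hX : T.Mid G X) (h2 : (2 : F) ≠ 0) {e : W} (he : e ≠ 0) {C : Module.End F U}
    (h : T.Cent X e C) : SU.SelfAdj C := fun v u => by
  obtain ⟨f, hf⟩ := SW.exists_one he
  obtain ⟨k, hk, hkx⟩ := h
  have := hX.isomX hk (T.τ v f) (T.τ u f)
  rw [hkx, hkx, T.cw_tau, T.cw_tau, hf, one_smul, one_smul, SV.add_left, SV.add_right, SV.add_right, T.form,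
    T.form, T.form, T.form, SW.alt_self rfl h2 e, hf, SW.alt_swap f e, hf] at this
  linear_combination -this

theorem mem_centSpace (hX : T.Mid G X) (h2 : (2 : F) ≠ 0) {e : W} (he : e ≠ 0) {C : Module.End F U}
    (h : T.Cent X e C) : C ∈ T.centSpace hX h2 := fun e' he' =>
  SW.sp_transitive h2 (P := fun x => T.Cent X x C) (fun d l x hx => by
    obtain ⟨t, htX, -, ht⟩ := hX.exists_tW (e := d) (l := l) (SW.alt_self rfl h2 d)
      (by rw [RingHom.id_apply]; ring)
    exact cent_conj hX htX (fun v => ht v x) hx) he he' h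

theorem layers_scalar (hX : T.Mid G X) (hG : ∀ g, SV.IsIsom g → g ∈ G) (h2 : (2 : F) ≠ 0) [Nontrivial U]
    (h3 : 3 ≤ Module.finrank F U) {e : W} (he : e ≠ 0) {Y : U →ₗ[F] V} (hY : T.Rel X e Y)
    (hcon : ∀ C, T.Cent X e C → ∃ c : F, C = c • LinearMap.id) {w : W} (hew : SW.h e w = 0) :
    ∃ κ : F, (T.cw w).comp Y = κ • LinearMap.id := by
  have hee := SW.alt_self rfl h2 e
  have hwe : SW.h w e = 0 := SW.swap hew
  set A : Module.End F U := (T.cw w).comp Y with hA
  by_cases hmem : w ∈ Submodule.span F {e}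
  · obtain ⟨c, rfl⟩ := Submodule.mem_span_singleton.mp hmem
    exact ⟨0, LinearMap.ext fun v => by
      rw [hA, LinearMap.comp_apply, T.cw_smul, hY.1, smul_zero, zero_smul, LinearMap.zero_apply]⟩
  obtain ⟨d', hd'e, hd'w⟩ : ∃ d', SW.h d' e = 0 ∧ SW.h d' w = 1 := by
    obtain ⟨d, hde, hdw⟩ : ∃ d, SW.h d e = 0 ∧ SW.h d w ≠ 0 := by
      by_contra hc
      push Not at hc
      obtain ⟨c, hc'⟩ := SW.mem_line he (z := w) fun y hy => SW.swap (hc y (SW.swap hy))
      exact hmem (Submodule.mem_span_singleton.mpr ⟨c, hc'.symm⟩)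
    exact ⟨(SW.h d w)⁻¹ • d, by rw [SW.smul_left, hde, mul_zero], by rw [SW.smul_left, inv_mul_cancel₀ hdw]⟩
  obtain ⟨C₀, hC₀, e₀⟩ := comm_cent hX he hee hY (rel_id hX hee hwe)
  obtain ⟨s, rfl⟩ := hcon C₀ hC₀
  have hsum : ∀ v u, SU.h (A v) u + SU.h (A u) v = -(s * SU.h v u) := fun v u => by
    have h := e₀ v u
    simp only [layer_apply, LinearMap.id_apply, LinearMap.smul_apply, SU.smul_left] at h
    rw [← T.h_cw w (Y v) u, SV.alt_swap (Y u) (T.τ v w), ← T.h_cw w (Y u) v] at h
    simp only [hA, LinearMap.comp_apply]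
    linear_combination -h
  set K : Module.End F U := A + (s / 2) • LinearMap.id with hK
  have hskew : ∀ v u, SU.h (K v) u = -SU.h (K u) v := fun v u => by
    simp only [hK, LinearMap.add_apply, LinearMap.smul_apply, LinearMap.id_apply, SU.add_left, SU.smul_left,
      SU.comm v u]
    linear_combination (norm := (field_simp; ring)) hsum v u
  suffices hK0 : K = 0 by
    exact ⟨-(s / 2), by rw [neg_smul]; exact eq_neg_of_add_eq_zero_left hK0⟩
  by_contra hK0
  -- the layers along `w`
  have hAl : ∀ l : F, T.Rel X e (T.layer (l • w) A) := fun l => by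
    obtain ⟨t, htX, -, ht⟩ := hX.exists_tW (e := w) (l := l) (SW.alt_self rfl h2 w)
      (by rw [RingHom.id_apply]; ring)
    have h1 := rel_sub hee (rel_conj hX htX (LinearEquiv.refl F U) (fun v w => rfl) (e' := e)
      (fun v => by rw [ht, hew, mul_zero, zero_smul, add_zero]; rfl) hY) hY
    convert h1 using 1
    refine LinearMap.ext fun v => ?_
    show T.τ (A v) (l • w) = res t (Y v)
    rw [ht.res_apply, map_smul]
    rfl
  have hKl : ∀ l : F, T.Rel X e (T.layer (l • w) K) := fun l => by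
    have := rel_add (hAl l) (rel_id hX hee (w := (s / 2 * l) • w) (by rw [SW.smul_left, hwe, mul_zero]))
    convert this using 1
    refine LinearMap.ext fun v => ?_
    simp only [hK, layer_apply, LinearMap.add_apply, LinearMap.smul_apply, LinearMap.id_apply, map_add, map_smul,
      LinearMap.smul_apply, smul_smul]
    module
  obtain ⟨u, hu, hKu⟩ : ∃ u, SU.h u u ≠ 0 ∧ K u ≠ 0 := by
    by_contra hc
    push Not at hc
    obtain ⟨e₁, he₁, hee₁⟩ := RSpace.exists_iso h3 SU
    obtain ⟨f₁, hf₁⟩ := SU.exists_one he₁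
    obtain ⟨a, -, ha⟩ := RSpace.exists_aniso (S := SU) h2 (P := ⊤) (x := f₁) Submodule.mem_top (y := e₁)
      Submodule.mem_top (by rw [hf₁]; exact one_ne_zero)
    refine hK0 (LinearMap.ext fun x => ?_)
    by_cases hx : SU.h x x = 0
    · by_cases hxa : SU.h (x + a) (x + a) = 0
      · have hxa' : SU.h (x - a) (x - a) ≠ 0 := fun h => by
          simp only [SU.add_left, SU.add_right, SU.sub_left, SU.sub_right, hx, SU.comm x a] at hxa h
          exact mul_ne_zero h2 ha (by linear_combination hxa + h)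
        have := hc _ hxa'
        rwa [map_sub, hc a ha, sub_zero] at this
      · have := hc _ hxa
        rwa [map_add, hc a ha, add_zero] at this
    · exact hc x hx
  set v := K u with hv
  have hvu : SU.h v u = 0 :=
    (mul_eq_zero.mp (by linear_combination hskew u u : (2 : F) * SU.h (K u) u = 0)).resolve_left h2
  set c : F := 2 / SU.h u u with hc0
  set Δ : Module.End F U := K - (SU.refl u).comp (K.comp (SU.refl u)) with hΔ
  have hΔx : ∀ x, Δ x = (c * SU.h x u) • v - (c * SU.h x v) • u := fun x => by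
    have hxv : SU.h (K x) u = -SU.h x v := by rw [hskew, SU.comm v x]
    simp only [hΔ, LinearMap.sub_apply, LinearMap.comp_apply, RSpace.refl_apply, map_sub, map_smul, ← hv, hxv, hvu,
      SU.sub_left, SU.smul_left]
    module
  obtain ⟨t', ht'X, -, ht'⟩ := hX.exists_tW (e := d') (l := (1 : F)) (SW.alt_self rfl h2 d')
    (by rw [RingHom.id_apply]; ring)
  obtain ⟨r, hrX, hrv⟩ := exists_isoU hX hG (SU.reflEquiv hu) (SU.refl_form hu)
  have hΔl : ∀ y, T.Rel X e (T.layer y K) → T.Rel X e (T.layer y Δ) := fun y hy => by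
    have h1 := rel_sub hee hy (rel_conj hX hrX (SU.reflEquiv hu) (SU.refl_form hu) (e' := e) (fun v => hrv v e) hy)
    convert h1 using 1
    refine LinearMap.ext fun x => ?_
    show T.τ (Δ x) y = T.τ (K x) y - r (T.τ (K (SU.refl u x)) y)
    rw [hrv, hΔ]
    exact LinearMap.map_sub₂ _ _ _ _
  have hw1 : T.Rel X e (T.layer w K) := by simpa using hKl 1
  have hd1 : T.Rel X e (T.layer ((1 * SW.h w d') • d') K) := by
    have := rel_layer_conj hX hee hw1 ht'X (B := LinearMap.id + (1 : F) • (SW.lin d').smulRight d')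
      (fun a z => by rw [ht']; simp [RSpace.lin_apply]) (by
        simp [RSpace.lin_apply, show SW.h e d' = 0 from SW.swap hd'e])
    simpa [RSpace.lin_apply] using this
  obtain ⟨C₁, hC₁, e₁⟩ := comm_cent hX he hee (hΔl _ hd1) (hΔl _ hw1)
  obtain ⟨μ, rfl⟩ := hcon C₁ hC₁
  have hμ : ∀ x y, μ * SU.h x y = 2 * SU.h (Δ x) (Δ y) := fun x y => by
    have h := e₁ x y
    rw [LinearMap.smul_apply, LinearMap.id_apply, SU.smul_left, layer_apply, layer_apply, layer_apply, layer_apply,
      T.form, T.form, one_mul, SW.smul_left, SW.smul_right, SW.alt_swap d' w, hd'w, RingHom.id_apply] at h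
    linear_combination -h
  have hc : c ≠ 0 := div_ne_zero h2 hu
  obtain ⟨x, hx, hx0⟩ := Submodule.exists_mem_ne_zero_of_ne_bot
    (p := LinearMap.ker ((SU.lin u).prod (SU.lin v))) fun h => by
      have h1 := ((SU.lin u).prod (SU.lin v)).finrank_range_add_finrank_ker
      have h4 := (LinearMap.range ((SU.lin u).prod (SU.lin v))).finrank_le
      rw [Module.finrank_prod, Module.finrank_self] at h4
      rw [h, finrank_bot] at h1
      omega
  have hΔx0 : Δ x = 0 := by
    rw [hΔx, show SU.h x u = 0 from congrArg Prod.fst hx, show SU.h x v = 0 from congrArg Prod.snd hx]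
    simp
  obtain ⟨y, hy⟩ := SU.exists_one hx0
  have hμ0 : μ = 0 := by
    have := hμ x y
    rwa [hΔx0, SU.zero_left, mul_zero, SU.comm y x, hy, mul_one] at this
  obtain ⟨a, ha⟩ := SU.exists_one hKu
  have huv : SU.h u v = 0 := SU.swap hvu
  set x₂ := a - (SU.h a u / SU.h u u) • u with hx₂
  have hx₂u : SU.h x₂ u = 0 := by rw [hx₂, SU.sub_left, SU.smul_left, div_mul_cancel₀ _ hu, sub_self]
  have hx₂v : SU.h x₂ v = 1 := by rw [hx₂, SU.sub_left, SU.smul_left, huv, mul_zero, sub_zero, ha]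
  have := hμ x₂ x₂
  rw [hμ0, zero_mul, hΔx, hx₂u, hx₂v, mul_zero, zero_smul, zero_sub, mul_one, SU.neg_left, SU.neg_right, neg_neg,
    SU.smul_left, SU.smul_right, RingHom.id_apply] at this
  exact mul_ne_zero h2 (mul_ne_zero hc (mul_ne_zero hc hu)) (by linear_combination -this)

theorem apply_mem (hX : T.Mid G X) (hG : ∀ g, SV.IsIsom g → g ∈ G) (h2 : (2 : F) ≠ 0)
    (h3 : 3 ≤ Module.finrank F U) (hex : ¬ (Nat.card F = 3 ∧ Module.finrank F U = 3)) (hA : ¬ T.RadScalar X) :
    (∀ z, SU.h z z = 0 → SU.rk z z ∈ T.centSpace hX h2) ∧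
      ∀ a : U, a ≠ 0 → ∀ b, ∃ C ∈ T.centSpace hX h2, C a = b := by
  haveI : Nontrivial U := Module.nontrivial_of_finrank_pos (R := F) (by omega)
  obtain ⟨e, he, -, C, hC, hns⟩ :=
    exists_cent_of_layers hX hA fun e he _ Y hY hcon w hw => layers_scalar hX hG h2 h3 he hY hcon hw
  have hrk : ∀ z, SU.h z z = 0 → SU.rk z z ∈ T.centSpace hX h2 :=
    RSpace.exists_rk_mem h2 h3 hex (fun C' hC' => cent_selfAdj hX h2 he (hC' e he))
      (fun C' hC' w hw => fun e' he' => cent_conjU hX hG (SU.reflEquiv hw) (SU.refl_form hw) (hC' e' he'))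
      (mem_centSpace hX h2 he hC) hns
  exact ⟨hrk, fun a ha b => RSpace.exists_apply_eq h2 h3 hex hrk ha b⟩

theorem transv_mem_symp (hX : T.Mid G X) (hG : ∀ g, SV.IsIsom g → g ∈ G) (h2 : (2 : F) ≠ 0)
    (h3 : 3 ≤ Module.finrank F U) (hex : ¬ (Nat.card F = 3 ∧ Module.finrank F U = 3)) [Nontrivial W]
    (hA : ¬ T.RadScalar X) (y : V) (l : F) : ∃ g ∈ X, ∀ x, g x = x + (l * SV.h x y) • y := by
  obtain ⟨hrk, happ⟩ := apply_mem hX hG h2 h3 hex hA
  have hWalt := fun e : W => SW.alt_self rfl h2 e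
  let Y : V → Prop := fun y => ∀ l : F, ∃ g ∈ X, ∀ x, g x = x + (l * SV.h x y) • y
  suffices hY : ∀ y, Y y from hY y l
  have hmap : ∀ k ∈ X, ∀ y, Y y → Y (k y) := fun k hk y hy l => by
    obtain ⟨g, hg, hgx⟩ := hy l
    refine ⟨k * g * k⁻¹, mul_mem (mul_mem hk hg) (inv_mem hk), fun x => ?_⟩
    show k (g (k.symm x)) = _
    rw [hgx, map_add, map_smul, k.apply_symm_apply, ← hX.isomX hk, k.apply_symm_apply]
  have move : ∀ y (e : W) (b : U), T.cw e y ≠ 0 → ∃ k ∈ X, k y = y + T.τ b e := fun y e b h => by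
    obtain ⟨C, hC, hCb⟩ := happ _ h b
    obtain ⟨k, hk, hkx⟩ := hC e fun he => h (by
      rw [he, show (0 : W) = (0 : F) • (0 : W) by simp, T.cw_smul, map_zero, zero_smul])
    exact ⟨k, hk, by rw [hkx, hCb]⟩
  have back : ∀ y (e : W) (b : U), T.cw e y ≠ 0 → Y (y + T.τ b e) → Y y := fun y e b h hY' => by
    obtain ⟨k, hk, hky⟩ := move y e b h
    have := hmap k⁻¹ (inv_mem hk) _ hY'
    rwa [← hky, show (k⁻¹ : V ≃ₗ[F] V) (k y) = y from k.symm_apply_apply y] at this
  obtain ⟨z, hz0, hzz⟩ := RSpace.exists_iso h3 SU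
  have hpure : ∀ (a : U) (e : W), Y (T.τ a e) := by
    intro a e
    by_cases h0 : a = 0 ∨ e = 0
    · intro l
      refine ⟨1, one_mem X, fun x => ?_⟩
      rcases h0 with h | h <;> simp [h]
    push Not at h0
    obtain ⟨f, hf⟩ := SW.exists_one h0.2
    have hf0 : f ≠ 0 := fun h => zero_ne_one (α := F) (by rw [← hf, h, SW.zero_left])
    have hseed : Y (T.τ z f) := fun l => by
      obtain ⟨k, hk, hkx⟩ := (T.centSpace hX h2).smul_mem l (hrk z hzz) f hf0
      refine ⟨k, hk, fun x => ?_⟩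
      rw [hkx, LinearMap.smul_apply, RSpace.rk_apply, smul_smul, T.h_cw, map_smul, LinearMap.smul_apply]
    have h1 : T.cw e (T.τ z f) ≠ 0 := by rwa [T.cw_tau, hf, one_smul]
    obtain ⟨k, hk, hk'⟩ := move (T.τ z f) e a h1
    have h2' := hk' ▸ hmap k hk _ hseed
    have hcw : T.cw f (T.τ z f + T.τ a e) ≠ 0 := by
      rw [map_add, T.cw_tau, T.cw_tau, hWalt f, zero_smul, zero_add, SW.alt_swap f e, hf, neg_one_smul]
      exact neg_ne_zero.mpr h0.1
    obtain ⟨k', hk', hk''⟩ := move _ f (-z) hcw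
    have := hk'' ▸ hmap k' hk' _ h2'
    rwa [map_neg, LinearMap.neg_apply, add_assoc, add_comm (T.τ a e), ← add_assoc, add_neg_cancel, zero_add] at this
  have main : ∀ (n : ℕ) (a : Fin n → U) (b : Fin n → W), Y (∑ i, T.τ (a i) (b i)) := by
    intro n
    induction n using Nat.strong_induction_on with
    | _ n ih =>
      intro a b
      match n, ih, a, b with
      | 0, _, a, b => simpa using hpure 0 0
      | 1, _, a, b => simpa using hpure (a 0) (b 0)
      | m + 2, ih, a, b =>
        set y := ∑ i, T.τ (a i) (b i) with hy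
        have drop : ∀ (a : Fin (m + 2) → U) (b : Fin (m + 2) → W) i, T.cw (b i) (∑ j, T.τ (a j) (b j)) ≠ 0 →
            Y (∑ j, T.τ (a j) (b j)) := fun a b i hi => by
          refine back _ (b i) (-(a i)) hi ?_
          have := ih (m + 1) (by omega) (a ∘ i.succAbove) (b ∘ i.succAbove)
          convert this using 1
          rw [Fin.sum_univ_succAbove _ i, map_neg, LinearMap.neg_apply]
          simp only [Function.comp_apply]
          abel
        by_cases hy0 : y = 0
        · rw [hy0]; simpa using hpure 0 0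
        by_cases hex : ∃ i, T.cw (b i) y ≠ 0
        · obtain ⟨i, hi⟩ := hex
          exact drop a b i hi
        push Not at hex
        by_cases ha1 : a 1 = 0
        · have := ih (m + 1) (by omega) (a ∘ (1 : Fin (m + 2)).succAbove) (b ∘ (1 : Fin (m + 2)).succAbove)
          rw [hy, Fin.sum_univ_succAbove _ 1, ha1, map_zero, LinearMap.zero_apply, zero_add]
          exact this
        by_cases hb0 : b 0 = 0
        · have := ih (m + 1) (by omega) (a ∘ (0 : Fin (m + 2)).succAbove) (b ∘ (0 : Fin (m + 2)).succAbove)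
          rw [hy, Fin.sum_univ_succAbove _ 0, hb0, map_zero, zero_add]
          exact this
        obtain ⟨f, hf1, hf2⟩ : ∃ f, T.cw f y ≠ 0 ∧ SW.h f (b 0) ≠ 0 := by
          obtain ⟨f₁, hf₁⟩ : ∃ f, T.cw f y ≠ 0 := by
            by_contra hc
            push Not at hc
            exact hy0 (T.ext_left fun v z => by rw [← T.h_cw, hc, SU.zero_left, SV.zero_left])
          obtain ⟨g, hg⟩ := SW.exists_one hb0
          by_cases h : SW.h f₁ (b 0) = 0
          · by_cases h' : T.cw g y = 0
            · exact ⟨f₁ + g, by rwa [T.cw_add, h', add_zero], by rw [SW.add_left, h, hg, zero_add]; exact one_ne_zero⟩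
            · exact ⟨g, h', by rw [hg]; exact one_ne_zero⟩
          · exact ⟨f₁, hf₁, h⟩
        set b' := Function.update b 1 (b 1 + f) with hb'
        have hsum : y + T.τ (a 1) f = ∑ j, T.τ (a j) (b' j) := by
          rw [hy, hb', Fin.sum_univ_succAbove _ 1, Fin.sum_univ_succAbove (fun j => T.τ (a j) (Function.update b 1 _ j)) 1,
            Function.update_self, map_add]
          simp only [Function.update_of_ne (Fin.succAbove_ne _ _)]
          abel
        refine back y f (a 1) hf1 (hsum ▸ drop a b' 0 ?_)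
        rw [← hsum, hb', Function.update_of_ne (by simp), map_add, hex 0, zero_add, T.cw_tau]
        exact smul_ne_zero hf2 ha1
  intro y
  have h := main _ (fun i => T.cw (SW.dualVec i) y) (fun i => Module.finBasis F W i)
  rwa [← T.eq_sum y] at h

end TSpace

end Cfsg.Lib.Classical.TensorF
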