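import Cfsg.Agent.Classical.TensorF.SiegelKron
import Cfsg.Agent.Classical.TensorF.SympBig

/-! A symmetric and an alternating factor: scalar radical elements leave only the Kronecker products. -/

set_option autoImplicit false
set_option linter.unusedSectionVars false
set_option linter.unusedSimpArgs false
set_option linter.style.haveILetI false

namespace Cfsg.Lib.Classical.TensorF

open Cfsg.Lib.Classical.TensorQ (Rooted)

universe u v w x

variable {F : Type u} [Field F] [Finite F] {V : Type v} [AddCommGroup V] [Module F V] [FiniteDimensional F V]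
  {U : Type w} [AddCommGroup U] [Module F U] [FiniteDimensional F U]
  {W : Type x} [AddCommGroup W] [Module F W] [FiniteDimensional F W]
  {SU : RSpace (RingHom.id F) 1 U} {SW : RSpace (RingHom.id F) (-1) W} {SV : RSpace (RingHom.id F) (-1) V}

namespace TSpace

variable {T : TSpace SU SW SV} [Nontrivial U] [Nontrivial W] {G X : Subgroup (V ≃ₗ[F] V)}

theorem flip_isKron {g : V ≃ₗ[F] V} : (flip T).IsKron g ↔ T.IsKron g :=
  ⟨fun ⟨A, B, h⟩ => ⟨B, A, fun v z => h z v⟩, fun ⟨A, B, h⟩ => ⟨B, A, fun v z => h z v⟩⟩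

theorem flip_mid (hX : T.Mid G X) : (flip T).Mid G X :=
  ⟨hX.le, hX.isom, hX.unip, fun g hg hk => hX.kron g hg (flip_isKron.mp hk)⟩

theorem flip_fixKron (D : Data T) (hX : T.Mid G X) (hA : T.RadScalar X) : (flip T).FixKron X := by
  intro N k hk hfix hperp
  haveI : Finite V := Module.finite_of_finite F
  haveI : Finite (V ≃ₗ[F] V) := Finite.of_injective (fun g => (g : V → V)) DFunLike.coe_injective
  let p := ringChar F
  haveI : Fact p.Prime := ⟨CharP.char_is_prime F p⟩
  set R := LinearMap.range ((flip T).map LinearMap.id N) with hR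
  let Q : Subgroup (V ≃ₗ[F] V) :=
    { carrier := {g | g ∈ X ∧ (∀ x ∈ R, g x = x) ∧ ∀ y, (∀ x ∈ R, SV.h y x = 0) → res g y ∈ R}
      one_mem' := ⟨one_mem X, fun x _ => rfl, fun y _ => by simp [res_apply]⟩
      mul_mem' := fun {g g'} hg hg' => ⟨mul_mem hg.1 hg'.1,
        fun x hx => by
          show g (g' x) = x
          rw [hg'.2.1 x hx, hg.2.1 x hx],
        fun y hy => by
          have h0 : ∀ x ∈ R, SV.h (g' y) x = 0 := fun x hx => by
            rw [← hg'.2.1 x hx, hX.isomX hg'.1]; exact hy x hx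
          have := R.add_mem (hg.2.2 _ h0) (hg'.2.2 y hy)
          convert this using 1
          show g (g' y) - y = g (g' y) - g' y + (g' y - y)
          abel⟩
      inv_mem' := fun {g} hg => ⟨inv_mem hg.1,
        fun x hx => by
          conv_lhs => rw [← hg.2.1 x hx]
          exact g.symm_apply_apply x,
        fun y hy => by
          have h0 : ∀ x ∈ R, SV.h (g.symm y) x = 0 := fun x hx => by
            rw [← hX.isomX hg.1, g.apply_symm_apply, hg.2.1 x hx]; exact hy x hx
          have := R.neg_mem (hg.2.2 _ h0)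
          convert this using 1
          show g.symm y - y = -(g (g.symm y) - g.symm y)
          rw [g.apply_symm_apply]
          abel⟩ }
  have hQp : IsPGroup p Q := fun g => ⟨2, Subtype.ext (by
    show (g : V ≃ₗ[F] V) ^ p ^ 2 = 1
    refine Unip.pow_eq_one (fun x => ?_) p
    obtain ⟨hgX, hg1, hg2⟩ := g.2
    have h0 : ∀ y ∈ R, SV.h (res (g : V ≃ₗ[F] V) x) y = 0 := fun y hy => by
      rw [TensorF.res_apply, SV.sub_left]
      nth_rewrite 1 [← hg1 y hy]
      rw [hX.isomX hgX, sub_self]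
    have := hg2 _ h0
    rw [TensorF.res_apply _ (res _ _), hg1 _ this, sub_self])⟩
  obtain ⟨e, he, hee⟩ := D.iso
  obtain ⟨l, hl0, hl⟩ := D.skew
  obtain ⟨t, htX, htk, ht⟩ := hX.exists_tW hee hl
  have htp : t ^ p = 1 := T.ext_equiv fun v z => by
    rw [(ht.pow hee p) v z, CharP.cast_eq_zero]; simp
  have hstab : ∀ n : ℕ, ∀ x ∈ R, (t ^ n) x ∈ R := by
    intro n
    induction n with
    | zero => intro x hx; simpa using hx
    | succ n ih =>
      intro x hx
      rw [pow_succ]
      refine ih _ ?_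
      obtain ⟨y, rfl⟩ := hx
      refine ⟨t y, ?_⟩
      refine DFunLike.congr_fun ((flip T).ext (L := ((flip T).map LinearMap.id N).comp t.toLinearMap)
        (L' := t.toLinearMap.comp ((flip T).map LinearMap.id N)) fun v z => ?_) y
      show (flip T).map LinearMap.id N (t (T.τ z v)) = t ((flip T).map LinearMap.id N ((flip T).τ v z))
      rw [(flip T).map_tau, ht]
      show (flip T).map LinearMap.id N ((flip T).τ _ z) = t (T.τ (N z) v)
      rw [(flip T).map_tau, ht]
      rfl
  have hnorm : ∀ n : ℕ, ∀ g ∈ Q, t ^ n * g * (t ^ n)⁻¹ ∈ Q := by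
    intro n g hg
    have hnI := hX.isomX (pow_mem htX n)
    have hinv : ∀ x ∈ R, ((t ^ n)⁻¹ : V ≃ₗ[F] V) x ∈ R := by
      intro x hx
      have : ((t ^ n)⁻¹ : V ≃ₗ[F] V) = t ^ ((p - 1) * n) := by
        have h1 : 1 ≤ p := (Fact.out : p.Prime).one_le
        rw [inv_eq_iff_mul_eq_one, ← pow_add, show n + (p - 1) * n = p * n by
          rw [add_comm, ← Nat.succ_mul, Nat.succ_eq_add_one, Nat.sub_add_cancel h1], pow_mul, htp, one_pow]
      rw [this]
      exact hstab _ x hx
    refine ⟨mul_mem (mul_mem (pow_mem htX n) hg.1) (inv_mem (pow_mem htX n)), fun x hx => ?_, fun y hy => ?_⟩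
    · show (t ^ n) (g ((t ^ n).symm x)) = x
      rw [hg.2.1 _ (show (t ^ n).symm x ∈ R from hinv x hx), LinearEquiv.apply_symm_apply]
    · have h0 : ∀ x ∈ R, SV.h ((t ^ n).symm y) x = 0 := fun x hx => by
        rw [← hnI, LinearEquiv.apply_symm_apply]
        exact hy _ (hstab n x hx)
      have := hstab n _ (hg.2.2 _ h0)
      convert this using 1
      show (t ^ n) (g ((t ^ n).symm y)) - y = (t ^ n) (g ((t ^ n).symm y) - (t ^ n).symm y)
      rw [map_sub, LinearEquiv.apply_symm_apply]
  have htn : t ∈ Subgroup.normalizer (Q : Set (V ≃ₗ[F] V)) := by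
    refine Subgroup.mem_normalizer_iff.mpr fun g => ⟨fun hg => by simpa using hnorm 1 g hg, fun hg => ?_⟩
    have := hnorm (p - 1) _ hg
    have hpt : t ^ (p - 1) = t⁻¹ := by
      rw [eq_inv_iff_mul_eq_one, ← pow_succ, Nat.sub_add_cancel (Fact.out : p.Prime).one_le, htp]
    rw [hpt, inv_inv] at this
    convert this using 1
    group
  have htp' : IsPGroup p (Subgroup.zpowers t) := fun z => by
    obtain ⟨j, hj⟩ := Subgroup.mem_zpowers_iff.mp z.2
    refine ⟨1, Subtype.ext ?_⟩
    rw [SubmonoidClass.coe_pow, pow_one, ← hj, ← zpow_natCast, ← zpow_mul, mul_comm, zpow_mul, zpow_natCast, htp,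
      one_zpow, OneMemClass.coe_one]
  have hP := IsPGroup.to_sup_of_normal_right' htp' hQp (Subgroup.zpowers_le.mpr htn)
  have hroot : T.IsRootT X t := ⟨htX, e, l, he, hee, hl0, hl, ht⟩
  have hle := (rooted D hX hA p (T.kronIn X) fun _ => Iff.rfl).le_of_isPGroup hP
    (sup_le (Subgroup.zpowers_le.mpr htX) fun g hg => hg.1)
    ((le_sup_left : Subgroup.zpowers t ≤ _) (Subgroup.mem_zpowers t)) hroot
  exact flip_isKron.mpr (hle ((le_sup_right : Q ≤ _) ⟨hk, hfix, hperp⟩)).2

theorem le_card_radK_alt (h2 : (2 : F) ≠ 0) {e : W} (he : e ≠ 0) (hee : SW.h e e = 0) :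
    Nat.card F ≤ Nat.card ↥(T.radK e hee) := by
  haveI : Finite V := Module.finite_of_finite F
  haveI : Finite (V ≃ₗ[F] V) := Finite.of_injective (fun g => (g : V → V)) DFunLike.coe_injective
  have hex : ∀ l : F, ∃ g : T.radK e hee, ∀ v z, g.1 (T.τ v z) = T.τ v (SW.rmap e 0 l z) := fun l => by
    have hd : SW.RootData e 0 l := ⟨SW.zero_left e, by rw [SW.zero_left, RingHom.id_apply]; ring⟩
    obtain ⟨g, hg, -, -, -⟩ := T.exists_rootW hee hd
    exact ⟨⟨g, _, l, hd, hg⟩, hg⟩
  choose g hg using hex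
  refine Nat.card_le_card_of_injective g fun l l' h => ?_
  obtain ⟨v, hv⟩ := exists_ne (0 : U)
  obtain ⟨f, hf⟩ := SW.exists_one he
  have h1 := hg l v f
  rw [h, hg l' v f] at h1
  have h3 := T.tau_inj_right hv h1
  simp only [RSpace.rmap_apply, hf, SW.zero_right, smul_zero, mul_zero, zero_smul, zero_add, one_smul, sub_zero,
    add_right_inj] at h3
  exact (smul_left_injective F he h3).symm

theorem kron_symp (hX : T.Mid G X) (hG : ∀ g, SV.IsIsom g → g ∈ G) (h2 : (2 : F) ≠ 0)
    (hdim : (4 ≤ Module.finrank F W) ∨ (Module.finrank F W = 2 ∧ 5 ≤ Module.finrank F U) ∨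
      (Module.finrank F W = 2 ∧ Module.finrank F U = 3 ∧ 5 ≤ Nat.card F))
    (hA : T.RadScalar X) {g : V ≃ₗ[F] V} (hg : g ∈ X) : T.IsKron g := by
  obtain ⟨e, he⟩ := exists_ne (0 : W)
  have D : Data T := ⟨inferInstance, Or.inr ⟨rfl, rfl, h2, hdim.imp id fun h => h.imp And.right fun h => h.2.1⟩,
    ⟨1, one_ne_zero, by simp⟩, ⟨e, he, SW.alt_self rfl h2 e⟩⟩
  rcases hdim with h4 | ⟨hb, ha⟩ | ⟨hb, -, hq⟩
  rotate_right
  · haveI : Finite V := Module.finite_of_finite F
    haveI : Fact (ringChar F).Prime := ⟨CharP.char_is_prime F _⟩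
    refine kron_of_free hX D.iso (fun e hee he m hm => Or.inr ⟨hb, ?_⟩)
      (fun x hx e hee he r hr hr1 h => mem_of_conj_mem D hX hA (ringChar F) hx he (hee := hee) hr hr1 h)
      (fun e e' he hee he' hee' g hg h => kron_of_image D.skew hX hA he hee he' hee' hg h) hg
    set p := ringChar F
    have hp : p.Prime := Fact.out
    have hp2 : p ≠ 2 := fun h => h2 (by
      have := CharP.cast_eq_zero F p
      rw [h] at this
      exact_mod_cast this)
    have hc := hq.trans (le_card_radK_alt (T := T) h2 he hee)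
    rw [hm] at hc
    rcases m with _ | _ | m
    · simp at hc
    · rw [pow_one] at hc
      omega
    · have := hp.two_le
      have h4 : 2 * 2 ≤ (m + 1 + 1) * (p - 1) := Nat.mul_le_mul (by omega) (by omega)
      omega
  · refine kron_of_radScalar D (fun m hm => ?_) hX hA hg
    set p := ringChar F
    have hp : p.Prime := CharP.char_is_prime F p
    have hpF : p ≤ Nat.card F := by
      haveI : Fintype F := Fintype.ofFinite F
      obtain ⟨n, -, hn⟩ := FiniteField.card F p
      rw [Nat.card_eq_fintype_card, hn]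
      exact Nat.le_self_pow n.ne_zero p
    have hp3 : 3 ≤ p := by
      rcases hp.two_le.lt_or_eq with h | h
      · exact h
      · refine absurd ?_ h2
        have := CharP.cast_eq_zero F p
        rw [← h] at this
        exact_mod_cast this
    have h3 : p ^ 2 ≤ Nat.card F ^ (Module.finrank F W - 2) :=
      (Nat.pow_le_pow_left hpF 2).trans (Nat.pow_le_pow_right Nat.card_pos (by omega))
    have h7 : 2 < m := (Nat.pow_lt_pow_iff_right hp.one_lt).mp (h3.trans_lt hm)
    calc 5 ≤ 3 * 2 := by norm_num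
      _ ≤ m * (p - 1) := Nat.mul_le_mul h7 (by omega)
  · exact flip_isKron.mp (kron_of_fixKron (flip_mid hX) hG h2 ha hb (flip_fixKron D hX hA) hg)

theorem transv_or_kron (hX : T.Mid G X) (hG : ∀ g, SV.IsIsom g → g ∈ G) (h2 : (2 : F) ≠ 0)
    (h3 : 3 ≤ Module.finrank F U) (hex : ¬ (Nat.card F = 3 ∧ Module.finrank F U = 3))
    (hdim : (4 ≤ Module.finrank F W) ∨ (Module.finrank F W = 2 ∧ 5 ≤ Module.finrank F U) ∨
      (Module.finrank F W = 2 ∧ Module.finrank F U = 3 ∧ 5 ≤ Nat.card F)) :
    (∀ g ∈ X, T.IsKron g) ∨ ∀ (y : V) (l : F), ∃ g ∈ X, ∀ x, g x = x + (l * SV.h x y) • y := by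
  by_cases hA : T.RadScalar X
  · exact Or.inl fun g hg => kron_symp hX hG h2 hdim hA hg
  · exact Or.inr fun y l => transv_mem_symp hX hG h2 h3 hex hA y l

end TSpace

end Cfsg.Lib.Classical.TensorF
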