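import Cfsg.Agent.Classical.TensorF.SympKron
import Cfsg.Agent.Classical.MaxBridge
import Cfsg.Agent.Classical.TensorMax.Pure

/-! The tensor products of similitudes of an alternating and a symmetric form form a maximal subgroup of the
symplectic group. -/

set_option autoImplicit false
set_option linter.unusedSectionVars false
set_option linter.unusedSimpArgs false
set_option linter.style.haveILetI false

namespace Cfsg.Lib.Classical.TensorF

universe u v w x

section

variable {F : Type u} [Field F] {V : Type v} [AddCommGroup V] [Module F V]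

/-- An alternating bilinear form as a reflexive space. -/
def ofAlt (B : LinearMap.BilinForm F V) (hA : B.IsAlt) (hB : B.Nondegenerate) :
    RSpace (RingHom.id F) (-1) V where
  h x y := B x y
  add_left x y z := by rw [map_add, LinearMap.add_apply]
  smul_left c x z := by rw [map_smul, LinearMap.smul_apply, smul_eq_mul]
  symm x y := by rw [RingHom.id_apply, neg_one_mul]; exact (LinearMap.IsAlt.neg hA x y).symm
  nd x hx := hB.1 x hx
  split x := ⟨0, by simp [hA x]⟩
  invol c := rfl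
  eps := by norm_num
  seps := rfl

theorem ofAlt_h (B : LinearMap.BilinForm F V) (hA : B.IsAlt) (hB : B.Nondegenerate) (x y : V) :
    (ofAlt B hA hB).h x y = B x y := rfl

variable [Finite F] [FiniteDimensional F V]
  {U : Type w} [AddCommGroup U] [Module F U] [FiniteDimensional F U] [Nontrivial U]
  {W : Type x} [AddCommGroup W] [Module F W] [FiniteDimensional F W] [Nontrivial W]
  {SU : RSpace (RingHom.id F) 1 U} {SW : RSpace (RingHom.id F) (-1) W}
  {B : LinearMap.BilinForm F V} {hA : B.IsAlt} {hB : B.Nondegenerate} (T : TSpace SU SW (ofAlt B hA hB))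

/-- The tensor products in the isometry group. -/
def kronB : Subgroup (BilinIsom B) where
  carrier := {g | T.IsKron g.1}
  one_mem' := T.isKron_one
  mul_mem' {_ _} hg hh := TSpace.IsKron.mul T hg hh
  inv_mem' {_} hg := TSpace.IsKron.inv T hg

theorem isCoatom_kronB (h2 : (2 : F) ≠ 0) (h3 : 3 ≤ Module.finrank F U)
    (hex : ¬ (Nat.card F = 3 ∧ Module.finrank F U = 3))
    (hdim : (4 ≤ Module.finrank F W) ∨ (Module.finrank F W = 2 ∧ 5 ≤ Module.finrank F U) ∨
      (Module.finrank F W = 2 ∧ Module.finrank F U = 3 ∧ 5 ≤ Nat.card F)) :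
    IsCoatom (kronB T) := by
  refine isCoatom_of_forall (fun htop => ?_) fun K hMK g hgK hgM => ?_
  · obtain ⟨u, hu⟩ := exists_ne (0 : U)
    obtain ⟨a, ha, ha0⟩ := Submodule.exists_mem_ne_zero_of_ne_bot (p := LinearMap.ker (SU.lin u)) fun h => by
      have h1 := (SU.lin u).finrank_range_add_finrank_ker
      have h4 := (LinearMap.range (SU.lin u)).finrank_le
      rw [Module.finrank_self] at h4
      rw [h, finrank_bot] at h1
      omega
    have hau : SU.h a u = 0 := ha
    obtain ⟨e, he⟩ := exists_ne (0 : W)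
    have hmem : sympT hA (T.τ u e) 1 ∈ kronB T := htop ▸ Subgroup.mem_top _
    obtain ⟨A, Bm, hAB⟩ := hmem
    have hg : ∀ b z, T.τ (A b) (Bm z) = T.τ b z + (SU.h b u * SW.h z e) • T.τ u e := fun b z => by
      rw [← hAB, sympT_apply, one_mul]
      congr 2
      exact T.form b z u e
    obtain ⟨d, hd⟩ := SU.exists_one ha0
    have had : SU.h a d = 1 := by rw [RSpace.comm SU d a, hd]
    have hBm : ∀ z, SU.h (A a) d • Bm z = z := fun z => by
      have := congrArg (T.cv d) (hg a z)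
      rwa [hau, zero_mul, zero_smul, add_zero, T.cv_tau, T.cv_tau, had, one_smul] at this
    obtain ⟨b, hb⟩ := SU.exists_one hu
    obtain ⟨z, hz⟩ := SW.exists_one he
    set κ := SU.h (A a) d
    have h1 := congrArg (fun y => T.cw z (κ • y)) (hg b z)
    simp only [← map_smul, hBm] at h1
    simp only [map_smul, map_add, T.cw_tau, hb, hz, one_mul, one_smul, SW.alt_self rfl h2 z, zero_smul, zero_add,
      SW.alt_swap z e, neg_smul, smul_neg, smul_add, smul_zero] at h1
    have hκ : κ ≠ 0 := fun h => he (by rw [← hBm e, h, zero_smul])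
    exact hu ((smul_eq_zero.mp (neg_eq_zero.mp h1.symm)).resolve_left hκ)
  haveI : Finite V := Module.finite_of_finite F
  have hmid : T.Mid (BilinIsom B) (K.map (BilinIsom B).subtype) := by
    refine ⟨?_, fun g hg => hg, fun g hi _ => hi, ?_⟩
    · rintro _ ⟨k, -, rfl⟩
      exact k.2
    · intro k hk hkk
      exact ⟨⟨k, hk⟩, hMK hkk, rfl⟩
  rcases TSpace.transv_or_kron hmid (fun g hg => hg) h2 h3 hex hdim with h | h
  · exact absurd (h g.1 ⟨g, hgK, rfl⟩) hgM
  rw [eq_top_iff, ← transGroup_eq_top hA hB, transGroup, transGroupOn, Subgroup.closure_le]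
  rintro _ ⟨y, -, c, rfl⟩
  obtain ⟨_, ⟨k, hk, rfl⟩, hkx⟩ := h y c
  have : sympT hA y c = k := BilinIsom.ext' fun x => (sympT_apply hA y c x).trans (hkx x).symm
  rw [this]
  exact hk

end

open Matrix Finset
open scoped Kronecker
open Cfsg.Lib.Classical.TensorMax (pure pure_apply pure_add_left pure_add_right pure_smul_left pure_smul_right
  kronGL kronGL_val kron_mulVec_pure)

theorem bilin_expand {F : Type u} [Field F] {k : ℕ} {f : (Fin k → F) → (Fin k → F) → F}
    (hf : Cfsg.Geo.IsBilinearForm f) (x y : Fin k → F) :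
    f x y = Cfsg.Geo.formOfGram id (Cfsg.Geo.gramMatrix f) x y := by
  let B : LinearMap.BilinForm F (Fin k → F) :=
    LinearMap.mk₂ F f hf.add_left (fun c a b => hf.smul_left c a b) hf.add_right (fun c a b => hf.smul_right c a b)
  show B x y = _
  conv_lhs => rw [pi_eq_sum_univ' x, pi_eq_sum_univ' y]
  simp only [map_sum, map_smul, LinearMap.sum_apply, LinearMap.smul_apply, smul_eq_mul, Cfsg.Geo.formOfGram, id_eq]
  rw [Finset.sum_comm]
  refine Finset.sum_congr rfl fun i _ => ?_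
  rw [Finset.mul_sum]
  exact Finset.sum_congr rfl fun j _ => by
    simp only [B, LinearMap.mk₂_apply, Cfsg.Geo.gramMatrix]
    ring

theorem isMaximalIn_symplectic' {F : Type u} [Field F] [Fintype F] (m : ℕ) (hodd : Odd (Fintype.card F))
    (n₁ n₂ : ℕ) (hn₂ : 3 ≤ n₂) (hex : ¬ (Fintype.card F = 3 ∧ n₂ = 3))
    (hdim : 4 ≤ n₁ ∨ (n₁ = 2 ∧ 5 ≤ n₂) ∨ (n₁ = 2 ∧ n₂ = 3 ∧ 5 ≤ Fintype.card F)) (e : (Fin m ⊕ Fin m) ≃ Fin n₁ × Fin n₂)
    (P : GL (Fin m ⊕ Fin m) F) (f₁ : (Fin n₁ → F) → (Fin n₁ → F) → F) (f₂ : (Fin n₂ → F) → (Fin n₂ → F) → F)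
    (hf₁ : Cfsg.Geo.IsSymplecticForm f₁) (hf₂ : Cfsg.Geo.IsSymmetricForm f₂)
    (hT : Cfsg.Geo.IsTensorFormStructure id (Cfsg.sympForm m F) f₁ f₂ e P) :
    Cfsg.Geo.IsMaximalIn (Cfsg.spGL m F) (Cfsg.Geo.tensorProductSubgroup n₁ n₂ e P ⊓ Cfsg.spGL m F) := by
  classical
  have h2 : (2 : F) ≠ 0 := Ring.two_ne_zero (by
    rw [Ne, FiniteField.even_card_iff_char_two]
    exact fun h => Nat.not_even_iff_odd.mpr hodd (Nat.even_iff.mpr h))
  obtain ⟨c, hc0, hT⟩ := hT
  haveI : Nonempty (Fin n₁) := Fin.pos_iff_nonempty.mp (by omega)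
  haveI : Nonempty (Fin n₂) := Fin.pos_iff_nonempty.mp (by omega)
  let L : (Fin n₁ × Fin n₂ → F) →ₗ[F] (Fin m ⊕ Fin m → F) :=
    (P : Matrix (Fin m ⊕ Fin m) (Fin m ⊕ Fin m) F).mulVecLin.comp (LinearMap.funLeft F F e)
  have hL : ∀ x, L x = (P : Matrix (Fin m ⊕ Fin m) (Fin m ⊕ Fin m) F) *ᵥ (x ∘ e) := fun x => rfl
  have hsurj : ∀ y : Fin m ⊕ Fin m → F, ∃ x, L x = y := fun y =>
    ⟨(((P⁻¹ : GL (Fin m ⊕ Fin m) F) : Matrix (Fin m ⊕ Fin m) (Fin m ⊕ Fin m) F) *ᵥ y) ∘ e.symm, by
      rw [hL, Function.comp_assoc, Equiv.symm_comp_self, Function.comp_id, mulVec_mulVec, ← Units.val_mul,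
        mul_inv_cancel, Units.val_one, one_mulVec]⟩
  set B := sympBilin m F
  have hA := sympBilin_isAlt m F
  have hB := sympBilin_nondegenerate m F
  have hτ : ∀ z v z' v', B (L (pure z v)) (L (pure z' v')) = c * f₂ v v' * f₁ z z' := fun z v z' v' => by
    rw [sympBilin_eq_sympForm, hL, hL, hT, mul_assoc, bilin_expand hf₁.bilinear, bilin_expand hf₂.bilinear,
      mul_comm (Cfsg.Geo.formOfGram id (Cfsg.Geo.gramMatrix f₂) v v')]
    congr 1
    simp only [Cfsg.Geo.formOfGram, Fintype.sum_prod_type, kroneckerMap_apply, pure_apply, Finset.sum_mul,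
      Finset.mul_sum, id_eq]
    rw [Finset.sum_comm]
    refine Finset.sum_congr rfl fun b _ => ?_
    conv_rhs => rw [Finset.sum_comm]
    refine Finset.sum_congr rfl fun a _ => ?_
    rw [Finset.sum_comm]
    exact Finset.sum_congr rfl fun b' _ => Finset.sum_congr rfl fun a' _ => by ring
  let SU : RSpace (RingHom.id F) 1 (Fin n₂ → F) :=
    { h := fun v v' => c * f₂ v v'
      add_left := fun a b v => by rw [hf₂.bilinear.add_left, mul_add]
      smul_left := fun r a v => by rw [hf₂.bilinear.smul_left, mul_left_comm]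
      symm := fun a b => by rw [one_mul, RingHom.id_apply, hf₂.symm]
      nd := fun v hv => by
        by_contra h
        obtain ⟨-, x, hx⟩ := hf₂.nondegenerate v h
        exact mul_ne_zero hc0 hx (hv x)
      split := fun x => ⟨c * f₂ x x / 2, by rw [one_mul, RingHom.id_apply]; field_simp; ring⟩
      invol := fun _ => rfl
      eps := one_mul 1
      seps := rfl }
  let SW : RSpace (RingHom.id F) (-1) (Fin n₁ → F) :=
    { h := f₁
      add_left := hf₁.bilinear.add_left
      smul_left := hf₁.bilinear.smul_left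
      symm := fun a b => by rw [RingHom.id_apply, neg_one_mul, hf₁.skew]
      nd := fun v hv => by
        by_contra h
        obtain ⟨-, x, hx⟩ := hf₁.nondegenerate v h
        exact hx (hv x)
      split := fun x => ⟨0, by simp [hf₁.alternating]⟩
      invol := fun _ => rfl
      eps := by norm_num
      seps := rfl }
  let τ : (Fin n₂ → F) →ₗ[F] (Fin n₁ → F) →ₗ[F] (Fin m ⊕ Fin m → F) :=
    ((LinearMap.mk₂ F (pure (F := F) (α := Fin n₁) (β := Fin n₂))
      (fun a b z => pure_add_left a b z) (fun r a z => pure_smul_left r a z)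
      (fun v a b => pure_add_right v a b) (fun r v z => pure_smul_right r v z)).compr₂ L).flip
  let T : TSpace SU SW (ofAlt B hA hB) :=
    { τ := τ
      form := fun v z v' z' => hτ z v z' v'
      span := by
        rw [eq_top_iff]
        intro y _
        obtain ⟨x, rfl⟩ := hsurj y
        rw [show x = ∑ i, pure (Pi.single i (1 : F) : Fin n₁ → F) (fun k => x (i, k)) from funext fun ⟨i, k⟩ => by
          rw [Finset.sum_apply, Finset.sum_eq_single i
            (fun j _ hj => by rw [pure_apply, Pi.single_eq_of_ne (Ne.symm hj), zero_mul])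
            (fun h => absurd (mem_univ i) h), pure_apply, Pi.single_eq_same, one_mul], map_sum]
        exact sum_mem fun i _ => Submodule.subset_span ⟨(fun k => x (i, k), Pi.single i 1), rfl⟩ }
  haveI : Nontrivial (Fin n₁ → F) := Function.nontrivial
  haveI : Nontrivial (Fin n₂ → F) := Function.nontrivial
  have hco := isCoatom_kronB T h2 (by rw [Module.finrank_fin_fun]; exact hn₂)
    (by rw [Module.finrank_fin_fun, Nat.card_eq_fintype_card]; exact hex)
    (by rw [Module.finrank_fin_fun, Module.finrank_fin_fun, Nat.card_eq_fintype_card]; exact hdim)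
  let φ : GL (Fin n₁ × Fin n₂) F ≃* GL (Fin m ⊕ Fin m) F := (Cfsg.Geo.glReindex e.symm).trans (MulAut.conj P)
  have hact : ∀ g x, ((φ g : GL (Fin m ⊕ Fin m) F) : Matrix (Fin m ⊕ Fin m) (Fin m ⊕ Fin m) F) *ᵥ L x =
      L ((g : Matrix (Fin n₁ × Fin n₂) (Fin n₁ × Fin n₂) F) *ᵥ x) := by
    intro g x
    show ((P * Cfsg.Geo.glReindex e.symm g * P⁻¹ : GL (Fin m ⊕ Fin m) F) :
      Matrix (Fin m ⊕ Fin m) (Fin m ⊕ Fin m) F) *ᵥ _ = _
    rw [hL, hL, mulVec_mulVec, ← Units.val_mul, inv_mul_cancel_right, Units.val_mul, ← mulVec_mulVec]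
    congr 1
    show ((g : Matrix (Fin n₁ × Fin n₂) (Fin n₁ × Fin n₂) F).submatrix e e) *ᵥ (x ∘ e) = _
    rw [Matrix.submatrix_mulVec_equiv, Function.comp_assoc, Equiv.self_comp_symm, Function.comp_id]
  have hcomap : (Cfsg.Geo.tensorProductSubgroup n₁ n₂ e P).comap (sympToGL m F) = kronB T := by
    ext g
    constructor
    · rintro ⟨k', ⟨k, ⟨a, b, hab⟩, rfl⟩, hk⟩
      refine ⟨(b : Matrix (Fin n₂) (Fin n₂) F).mulVecLin, (a : Matrix (Fin n₁) (Fin n₁) F).mulVecLin, fun v z => ?_⟩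
      show g.1 (L (pure z v)) = L (pure ((a : Matrix (Fin n₁) (Fin n₁) F) *ᵥ z) ((b : Matrix (Fin n₂) (Fin n₂) F) *ᵥ v))
      rw [← sympToGL_mulVec, ← hk]
      exact (hact k _).trans (by rw [hab, kron_mulVec_pure])
    · intro hg
      obtain ⟨A, Bm, hAB⟩ := TSpace.IsKron.equivs T hg
      have hdA : (LinearMap.toMatrix' A.toLinearMap).det ≠ 0 := by
        rw [LinearMap.det_toMatrix']; exact (LinearEquiv.isUnit_det' A).ne_zero
      have hdB : (LinearMap.toMatrix' Bm.toLinearMap).det ≠ 0 := by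
        rw [LinearMap.det_toMatrix']; exact (LinearEquiv.isUnit_det' Bm).ne_zero
      set k := kronGL (LinearMap.toMatrix' Bm.toLinearMap) (LinearMap.toMatrix' A.toLinearMap) hdB hdA
      have hk : k ∈ Cfsg.Geo.kroneckerSubgroup n₁ n₂ F :=
        ⟨Matrix.GeneralLinearGroup.mkOfDetNeZero _ hdB, Matrix.GeneralLinearGroup.mkOfDetNeZero _ hdA,
          kronGL_val _ _ hdB hdA⟩
      refine ⟨_, ⟨k, hk, rfl⟩, ?_⟩
      show φ k = _
      refine Units.ext (Matrix.toLin'.injective (T.ext fun v z => ?_))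
      rw [Matrix.toLin'_apply, Matrix.toLin'_apply, sympToGL_mulVec]
      show _ *ᵥ L (pure z v) = g.1 (T.τ v z)
      rw [hAB, hact, kronGL_val, kron_mulVec_pure, LinearMap.toMatrix'_mulVec, LinearMap.toMatrix'_mulVec]
      rfl
  exact isMaximalIn_of_isCoatom_comap (sympToGL m F) (range_sympToGL m) (hcomap ▸ hco)

theorem isMaximalIn_symplectic {F : Type u} [Field F] [Fintype F] (m : ℕ) (hodd : Odd (Fintype.card F))
    (n₁ n₂ : ℕ) (hn₂ : 3 ≤ n₂) (hex : ¬ (Fintype.card F = 3 ∧ n₂ = 3))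
    (hdim : 4 ≤ n₁ ∨ (n₁ = 2 ∧ 5 ≤ n₂)) (e : (Fin m ⊕ Fin m) ≃ Fin n₁ × Fin n₂)
    (P : GL (Fin m ⊕ Fin m) F) (f₁ : (Fin n₁ → F) → (Fin n₁ → F) → F) (f₂ : (Fin n₂ → F) → (Fin n₂ → F) → F)
    (hf₁ : Cfsg.Geo.IsSymplecticForm f₁) (hf₂ : Cfsg.Geo.IsSymmetricForm f₂)
    (hT : Cfsg.Geo.IsTensorFormStructure id (Cfsg.sympForm m F) f₁ f₂ e P) :
    Cfsg.Geo.IsMaximalIn (Cfsg.spGL m F) (Cfsg.Geo.tensorProductSubgroup n₁ n₂ e P ⊓ Cfsg.spGL m F) :=
  isMaximalIn_symplectic' m hodd n₁ n₂ hn₂ hex (hdim.imp id Or.inl) e P f₁ f₂ hf₁ hf₂ hT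

theorem dims_of_card {F : Type u} [Field F] {m n₁ n₂ : ℕ} (hm : 7 ≤ m) (e : (Fin m ⊕ Fin m) ≃ Fin n₁ × Fin n₂)
    {f₁ : (Fin n₁ → F) → (Fin n₁ → F) → F} (hf₁ : Cfsg.Geo.IsSymplecticForm f₁) (h2 : (2 : F) ≠ 0) :
    4 ≤ n₁ ∨ (n₁ = 2 ∧ 5 ≤ n₂) := by
  have hcard : m + m = n₁ * n₂ := by simpa using Fintype.card_congr e
  let B : LinearMap.BilinForm F (Fin n₁ → F) := LinearMap.mk₂ F f₁ hf₁.bilinear.add_left
    (fun c a b => hf₁.bilinear.smul_left c a b) hf₁.bilinear.add_right (fun c a b => hf₁.bilinear.smul_right c a b)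
  set M := LinearMap.toMatrix₂' F B with hM
  have heven : Even n₁ := by
    by_contra hodd
    rw [Nat.not_even_iff_odd] at hodd
    have hskew : Mᵀ = -M := by
      ext i j
      simp only [hM, Matrix.transpose_apply, Matrix.neg_apply, LinearMap.toMatrix₂'_apply]
      exact hf₁.skew _ _
    have hdet := congrArg Matrix.det hskew
    rw [Matrix.det_transpose, Matrix.det_neg, Fintype.card_fin, hodd.neg_one_pow, neg_one_mul] at hdet
    have h0 : M.det = 0 := (mul_eq_zero.mp (by linear_combination hdet : (2 : F) * M.det = 0)).resolve_left h2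
    obtain ⟨v, hv0, hv⟩ := Matrix.exists_mulVec_eq_zero_iff.mpr h0
    obtain ⟨⟨x, hx⟩, -⟩ := hf₁.nondegenerate v hv0
    refine hx ?_
    show B x v = 0
    rw [← Matrix.toLinearMap₂'_toMatrix' (R := F) B, Matrix.toLinearMap₂'_apply', ← hM, hv, dotProduct_zero]
  have hn₁ : n₁ ≠ 0 := fun h => by rw [h, zero_mul] at hcard; omega
  obtain ⟨k, rfl⟩ := heven
  by_cases h : k = 1
  · subst h
    exact Or.inr ⟨rfl, by omega⟩
  · exact Or.inl (by omega)

end Cfsg.Lib.Classical.TensorF
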