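import Cfsg.Agent.Classical.TensorF.Kron
import Cfsg.Agent.Classical.TensorF.Gen
import Cfsg.Agent.Classical.Unitary.Maximal
import Cfsg.Agent.Classical.MaxBridge

/-! The tensor products of isometries form a maximal subgroup of the special unitary group. -/

set_option autoImplicit false
set_option linter.unusedSectionVars false
set_option linter.unusedSimpArgs false
set_option linter.style.haveILetI false

namespace Cfsg.Lib.Classical.TensorF

universe u v w x

variable {F : Type u} [Field F] [Finite F] {σ : F →+* F}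

section

variable {V : Type v} [AddCommGroup V] [Module F V]

theorem exists_iso_of_two (hσ : IsConj σ) [FiniteDimensional F V] (S : RSpace σ 1 V) (P : Submodule F V)
    (hP : 2 ≤ Module.finrank F P) : ∃ x ∈ P, x ≠ 0 ∧ S.h x x = 0 := by
  obtain ⟨x, hx, hx0⟩ := P.exists_mem_ne_zero_of_ne_bot (fun h => by rw [h, finrank_bot] at hP; omega)
  by_cases hxx : S.h x x = 0
  · exact ⟨x, hx, hx0, hxx⟩
  obtain ⟨y, hy, hy0⟩ := (LinearMap.ker ((S.lin x).comp P.subtype)).exists_mem_ne_zero_of_ne_bot (fun h => by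
    have h1 := ((S.lin x).comp P.subtype).finrank_range_add_finrank_ker
    have h2 := (LinearMap.range ((S.lin x).comp P.subtype)).finrank_le
    rw [Module.finrank_self] at h2
    rw [h, finrank_bot] at h1
    omega)
  have hy1 : S.h (y : V) x = 0 := hy
  by_cases hyy : S.h (y : V) y = 0
  · exact ⟨y, y.2, fun h => hy0 (Subtype.ext h), hyy⟩
  have hfix : ∀ z, σ (S.h z z) = S.h z z := fun z => by
    have := S.symm z z
    rw [one_mul] at this
    exact this.symm
  obtain ⟨c, hc⟩ := hσ.norm_surjective (a := -(S.h x x / S.h (y : V) y)) (by rw [map_neg, map_div₀, hfix, hfix])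
  have hc0 : c ≠ 0 := fun h => by
    rw [h, zero_mul, eq_comm, neg_eq_zero, div_eq_zero_iff] at hc
    exact hc.elim hxx hyy
  refine ⟨x + c • (y : V), add_mem hx (P.smul_mem _ y.2), fun h => ?_, ?_⟩
  · have := congrArg (fun z => S.h z x) h
    simp only [S.add_left, S.smul_left, hy1, S.zero_left, mul_zero, add_zero] at this
    exact hxx this
  · simp only [S.add_left, S.add_right, S.smul_left, S.smul_right, hy1, S.swap hy1, mul_zero, add_zero, zero_add]
    rw [← mul_assoc, hc, neg_mul, div_mul_cancel₀ _ hyy, add_neg_cancel]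

/-- A Hermitian space as a reflexive space. -/
def ofHerm (H : HermSpace F V) (hH : H.σ = σ) : RSpace σ 1 V where
  h := H.h
  add_left := H.add_left
  smul_left := H.smul_left
  symm x y := by rw [one_mul, ← hH]; exact H.symm y x
  nd x hx := H.nondeg x fun y => H.eq_zero_symm (hx y)
  split x := by
    obtain ⟨θ, hθ⟩ := H.conj.exists_trace_one
    refine ⟨θ * H.h x x, ?_⟩
    rw [one_mul, ← hH, map_mul, H.self_fixed, ← add_mul, hθ, one_mul]
  invol := hH ▸ H.conj.invol
  eps := one_mul 1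
  seps := map_one σ

theorem ofHerm_h (H : HermSpace F V) (hH : H.σ = σ) (x y : V) : (ofHerm H hH).h x y = H.h x y := rfl

end

variable {U : Type w} [AddCommGroup U] [Module F U] [FiniteDimensional F U] {W : Type x} [AddCommGroup W] [Module F W]
  [FiniteDimensional F W] {V : Type v} [AddCommGroup V] [Module F V] [FiniteDimensional F V]
  {SU : RSpace σ 1 U} {SW : RSpace σ 1 W} {H : HermSpace F V} {hH : H.σ = σ}
  (T : TSpace SU SW (ofHerm H hH))

/-- The tensor products in the special isometry group. -/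
def kronS [Nontrivial U] [Nontrivial W] : Subgroup H.SIsom where
  carrier := {g | T.IsKron g.1.1}
  one_mem' := T.isKron_one
  mul_mem' {_ _} hg hh := TSpace.IsKron.mul T hg hh
  inv_mem' {_} hg := TSpace.IsKron.inv T hg

/-- The maximality, given the centres in the case of a non-scalar block. -/
theorem isCoatom_kronS_of [Nontrivial U] [Nontrivial W] (D : TSpace.Data T) (hd : 4 ≤ Module.finrank F V)
    (hisoU : ∃ d : U, d ≠ 0 ∧ SU.h d d = 0)
    (hcount : ∀ m : ℕ, Nat.card F ^ (Module.finrank F W - 2) < ringChar F ^ m → 5 ≤ m * (ringChar F - 1))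
    (hcen : ∀ K : Subgroup H.SIsom,
      T.Mid (H.Isom.subtype.comp H.SIsom.subtype).range (K.map (H.Isom.subtype.comp H.SIsom.subtype)) →
      ¬ T.RadScalar (K.map (H.Isom.subtype.comp H.SIsom.subtype)) → ∀ y, H.h y y = 0 → y ∈ H.uCentres K) :
    IsCoatom (kronS T) := by
  subst hH
  obtain ⟨l, hl0, hl⟩ := H.conj.exists_skew
  refine isCoatom_of_forall ?_ fun K hMK g hgK hgM => ?_
  · intro htop
    obtain ⟨u, hu0, huu⟩ := hisoU
    obtain ⟨fu, -, hfu⟩ := SU.exists_partner hu0 huu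
    obtain ⟨e, he, hee⟩ := D.iso
    obtain ⟨f, hff, hf⟩ := SW.exists_partner he hee
    have hef : SW.h e f = 1 := by rw [SW.symm, hf, map_one, one_mul]
    set y := T.τ u e with hy
    have hyy : H.h y y = 0 := (T.form u e u e).trans (by rw [hee, mul_zero])
    have hmem : (⟨H.uT hyy hl, H.uT_mem_SIsom hyy hl⟩ : H.SIsom) ∈ kronS T := htop ▸ Subgroup.mem_top _
    obtain ⟨A, B, hAB⟩ := hmem
    have h1 := hAB fu f
    rw [show (H.uT hyy hl).1 (T.τ fu f) = T.τ fu f + (l * H.h (T.τ fu f) y) • y from H.uT_apply hyy hl _, hy,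
      show H.h (T.τ fu f) (T.τ u e) = SU.h fu u * SW.h f e from T.form fu f u e, hfu, hf, mul_one, mul_one] at h1
    have h2 := congrArg (T.cw e) h1
    rw [map_add, map_smul, T.cw_tau, T.cw_tau, T.cw_tau, hf, hee, zero_smul, smul_zero, one_smul, add_zero] at h2
    have h3 := congrArg (T.cw f) h1
    rw [map_add, map_smul, T.cw_tau, T.cw_tau, T.cw_tau, hff, hef, zero_smul, one_smul, zero_add] at h3
    set a := SW.h (B f) e
    set b := SW.h (B f) f
    have ha0 : a ≠ 0 := fun h => by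
      rw [h, zero_smul] at h2
      rw [h2, SU.zero_left] at hfu
      exact zero_ne_one hfu
    have hu : u = (l⁻¹ * b * a⁻¹) • fu := by
      rw [h2, smul_smul, mul_assoc, mul_assoc, inv_mul_cancel₀ ha0, mul_one, mul_smul, ← h3, smul_smul,
        inv_mul_cancel₀ hl0, one_smul]
    have h4 := huu
    nth_rewrite 1 [hu] at h4
    rw [SU.smul_left, hfu, mul_one] at h4
    rw [h4, zero_smul] at hu
    exact hu0 hu
  let sub : H.SIsom →* (V ≃ₗ[F] V) := H.Isom.subtype.comp H.SIsom.subtype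
  haveI : Finite V := Module.finite_of_finite F
  have hmid : T.Mid sub.range (K.map sub) := by
    refine ⟨?_, ?_, fun g hi hu => ?_, ?_⟩
    · rintro _ ⟨k, -, rfl⟩
      exact ⟨k, rfl⟩
    · rintro _ ⟨k, rfl⟩
      exact fun x y => H.map_form k.1 x y
    · exact ⟨⟨⟨g, hi⟩, hu.det⟩, rfl⟩
    · rintro _ ⟨k, rfl⟩ hk
      exact ⟨k, hMK hk, rfl⟩
  by_cases hA : T.RadScalar (K.map sub)
  · exact absurd (TSpace.kron_of_radScalar D hcount hmid hA ⟨g, hgK, rfl⟩) hgM
  exact HermSpace.eq_top_of_uCentres (Or.inl hd) (hcen K hmid hA)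

theorem isCoatom_kronS [Nontrivial U] [Nontrivial W] (ha : 2 ≤ Module.finrank F U)
    (hlt : Module.finrank F U < Module.finrank F W) (h4 : 4 ≤ Module.finrank F W) (hd : 4 ≤ Module.finrank F V)
    (hex : (∃ κ : F, σ κ = κ ∧ κ ≠ 0 ∧ κ ≠ 1) ∨ 3 ≤ Module.finrank F U) : IsCoatom (kronS T) := by
  subst hH
  have hσ := H.conj
  obtain ⟨l, hl0, hl⟩ := hσ.exists_skew
  have hskew : ∃ l : F, l ≠ 0 ∧ H.σ l + 1 * l = 0 := ⟨l, hl0, by rw [one_mul, add_comm, hl]⟩
  have hisoU : ∃ d : U, d ≠ 0 ∧ SU.h d d = 0 := by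
    obtain ⟨d, -, hd0, hdd⟩ := exists_iso_of_two hσ SU ⊤ (by rw [finrank_top]; exact ha)
    exact ⟨d, hd0, hdd⟩
  have hisoW : ∃ d : W, d ≠ 0 ∧ SW.h d d = 0 := by
    obtain ⟨d, -, hd0, hdd⟩ := exists_iso_of_two hσ SW ⊤ (by rw [finrank_top]; omega)
    exact ⟨d, hd0, hdd⟩
  have R : TSpace.Room SW := ⟨h4, hskew, hσ.ne_id, fun P hP => exists_iso_of_two hσ SW P hP⟩
  have RU : URoom SU := ⟨ha, hisoU, hex⟩
  have D : TSpace.Data T := ⟨inferInstance, Or.inl hlt, hskew, hisoW⟩
  have hcount : ∀ m : ℕ,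
      Nat.card F ^ (Module.finrank F W - 2) < ringChar F ^ m → 5 ≤ m * (ringChar F - 1) := by
    intro m hm
    let p := ringChar F
    have hp : p.Prime := CharP.char_is_prime F p
    haveI : Fintype F := Fintype.ofFinite F
    have hc : Nat.card F = Nat.card (fixedField H.σ) ^ 2 := hσ.card_eq_sq
    have hdvd : p ∣ Nat.card F := by
      obtain ⟨n, -, hn⟩ := FiniteField.card F p
      rw [Nat.card_eq_fintype_card, hn]
      exact dvd_pow_self p n.ne_zero
    have h1 : p ∣ Nat.card (fixedField H.σ) := hp.dvd_of_dvd_pow (hc ▸ hdvd)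
    have h2 : p ≤ Nat.card (fixedField H.σ) := Nat.le_of_dvd (by have := hσ.two_le_card_fixed; omega) h1
    have h3 : p ^ 4 ≤ Nat.card F ^ (Module.finrank F W - 2) :=
      calc p ^ 4 ≤ p ^ (2 * (Module.finrank F W - 2)) := Nat.pow_le_pow_right hp.pos (by omega)
        _ = (p ^ 2) ^ (Module.finrank F W - 2) := pow_mul p 2 _
        _ ≤ Nat.card F ^ (Module.finrank F W - 2) :=
          Nat.pow_le_pow_left (hc ▸ Nat.pow_le_pow_left h2 2) _
    have h6 : 4 < m := (Nat.pow_lt_pow_iff_right hp.one_lt).mp (h3.trans_lt hm)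
    have h7 : 1 ≤ p - 1 := by have := hp.two_le; omega
    calc 5 ≤ m * 1 := by omega
      _ ≤ m * (p - 1) := Nat.mul_le_mul_left _ h7
  refine isCoatom_kronS_of T D hd hisoU hcount fun K hmid hA y hy => ⟨hy, fun c hc => ?_⟩
  obtain ⟨_, ⟨k, hk, rfl⟩, hkx⟩ := TSpace.transv_mem hmid R RU hA (y := y) hy (l := c) (by rw [add_comm, hc])
  have hkeq : (⟨H.uT hy hc, H.uT_mem_SIsom hy hc⟩ : H.SIsom) = k :=
    Subtype.ext (H.isom_ext fun x => (H.uT_apply hy hc x).trans (hkx x).symm)
  rw [hkeq]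
  exact hk

end Cfsg.Lib.Classical.TensorF
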