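import Cfsg.Agent.Classical.TensorF.UnitarySmall
import Cfsg.Agent.Classical.Unitary.MaxMatrix
import Cfsg.Agent.Classical.TensorMax.Pure

/-! The unitary tensor product stabiliser as a matrix group. -/

set_option autoImplicit false
set_option linter.unusedSectionVars false
set_option linter.unusedSimpArgs false
set_option linter.style.haveILetI false

namespace Cfsg.Lib.Classical.TensorF

open Matrix Finset
open scoped Kronecker
open Cfsg.Lib.Classical.TensorMax (pure pure_apply pure_add_left pure_add_right pure_smul_left pure_smul_right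
  kronGL kronGL_val kron_mulVec_pure)

universe u

variable {F : Type u} [Field F] [Fintype F] {q : ℕ}

theorem formPow_expand (hF : Fintype.card F = q ^ 2) {k : ℕ} {f : (Fin k → F) → (Fin k → F) → F}
    (hf : Cfsg.Geo.IsUnitaryFormPow q f) (x y : Fin k → F) :
    f x y = Cfsg.Geo.formOfGram (fun t : F => t ^ q) (Cfsg.Geo.gramMatrix f) x y := by
  have hσ := powConj_apply hF
  let L : (Fin k → F) → ((Fin k → F) →ₗ[F] F) := fun v =>
    { toFun := fun x => f x v, map_add' := fun a b => hf.add_left a b v, map_smul' := fun c a => hf.smul_left c a v }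
  have hl : ∀ (s : Finset (Fin k)) (a : Fin k → F) (b : Fin k → Fin k → F) v,
      f (∑ i ∈ s, a i • b i) v = ∑ i ∈ s, a i * f (b i) v := fun s a b v => by
    show L v _ = _
    rw [map_sum]
    exact Finset.sum_congr rfl fun i _ => by rw [map_smul]; rfl
  have hx : ∀ x : Fin k → F, x = ∑ i, x i • (Pi.single i 1 : Fin k → F) := fun x => pi_eq_sum_univ' x
  have hr : ∀ i y, f (Pi.single i 1) y = ∑ j, Cfsg.Geo.gramMatrix f i j * y j ^ q := fun i y => by
    rw [hf.herm]
    conv_lhs => rw [hx y, hl]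
    rw [← hσ, map_sum]
    refine Finset.sum_congr rfl fun j _ => ?_
    rw [map_mul, hσ, hσ, ← hf.herm, mul_comm]
    rfl
  conv_lhs => rw [hx x, hl]
  refine Finset.sum_congr rfl fun i _ => ?_
  rw [hr, Finset.mul_sum]
  exact Finset.sum_congr rfl fun j _ => (mul_assoc _ _ _).symm

theorem isMaximalIn_unitary_of_four (n q : ℕ) (hF : Fintype.card F = q ^ 2) (n₁ n₂ : ℕ) (h4 : 4 ≤ n₂ ∨ (n₁ = 2 ∧ n₂ = 3)) (h1 : 2 ≤ n₁)
    (h12 : n₁ < n₂) (hex : ¬ (n₁ = 2 ∧ q = 2)) (e : Fin n ≃ Fin n₁ × Fin n₂) (P : GL (Fin n) F)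
    (f₁ : (Fin n₁ → F) → (Fin n₁ → F) → F) (f₂ : (Fin n₂ → F) → (Fin n₂ → F) → F)
    (hf₁ : Cfsg.Geo.IsUnitaryFormPow q f₁) (hf₂ : Cfsg.Geo.IsUnitaryFormPow q f₂)
    (hT : Cfsg.Geo.IsTensorFormStructure (fun x : F => x ^ q) (Cfsg.hermForm n F q) f₁ f₂ e P) :
    Cfsg.Geo.IsMaximalIn (Cfsg.GU n F q ⊓ Cfsg.Geo.specialLinear (Fin n) F)
      (Cfsg.Geo.tensorProductSubgroup n₁ n₂ e P ⊓ (Cfsg.GU n F q ⊓ Cfsg.Geo.specialLinear (Fin n) F)) := by
  classical
  obtain ⟨c, hc0, hT⟩ := hT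
  have hcard : n = n₁ * n₂ := by simpa using Fintype.card_congr e
  have hn : 4 ≤ n := by
    have : 2 * 3 ≤ n₁ * n₂ := Nat.mul_le_mul h1 (by omega)
    omega
  haveI : Nonempty (Fin n₁) := Fin.pos_iff_nonempty.mp (by omega)
  haveI : Nonempty (Fin n₂) := Fin.pos_iff_nonempty.mp (by omega)
  set H := stdHerm n hF with hH
  let L : (Fin n₁ × Fin n₂ → F) →ₗ[F] (Fin n → F) :=
    (P : Matrix (Fin n) (Fin n) F).mulVecLin.comp (LinearMap.funLeft F F e)
  have hL : ∀ x, L x = (P : Matrix (Fin n) (Fin n) F) *ᵥ (x ∘ e) := fun x => rfl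
  have hsurj : ∀ y : Fin n → F, ∃ x, L x = y := fun y =>
    ⟨(((P⁻¹ : GL (Fin n) F) : Matrix (Fin n) (Fin n) F) *ᵥ y) ∘ e.symm, by
      rw [hL, Function.comp_assoc, Equiv.symm_comp_self, Function.comp_id, mulVec_mulVec, ← Units.val_mul,
        mul_inv_cancel, Units.val_one, one_mulVec]⟩
  have hτ : ∀ v w v' w', H.h (L (pure v w)) (L (pure v' w')) = c * f₁ v v' * f₂ w w' := fun v w v' w' => by
    rw [stdHerm_h hF, hL, hL, hT, mul_assoc, formPow_expand hF hf₁, formPow_expand hF hf₂]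
    congr 1
    simp only [Cfsg.Geo.formOfGram, Fintype.sum_prod_type, kroneckerMap_apply, pure_apply, Finset.sum_mul,
      Finset.mul_sum, mul_pow]
    rw [Finset.sum_comm]
    refine Finset.sum_congr rfl fun b _ => ?_
    conv_rhs => rw [Finset.sum_comm]
    refine Finset.sum_congr rfl fun a _ => ?_
    rw [Finset.sum_comm]
    exact Finset.sum_congr rfl fun b' _ => Finset.sum_congr rfl fun a' _ => by ring
  have hne : ∀ {k : ℕ} (f : (Fin k → F) → (Fin k → F) → F), Cfsg.Geo.IsUnitaryFormPow q f → 0 < k →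
      ∃ x y, f x y ≠ 0 := fun {k} f hf hk => by
    obtain ⟨⟨x, hx⟩, -⟩ := hf.nondegenerate (Pi.single (⟨0, hk⟩ : Fin k) 1) (by simp)
    exact ⟨_, _, hx⟩
  have hsym : ∀ {k : ℕ} (f : (Fin k → F) → (Fin k → F) → F), Cfsg.Geo.IsUnitaryFormPow q f → ∀ x y,
      f y x = H.σ (f x y) := fun f hf x y => by
    rw [show H.σ (f x y) = f x y ^ q from powConj_apply hF _]
    exact hf.herm y x
  have hcσ : H.σ c = c := by
    obtain ⟨x, y, hxy⟩ := hne f₁ hf₁ (by omega)
    obtain ⟨x', y', hxy'⟩ := hne f₂ hf₂ (by omega)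
    have h := H.symm (L (pure x x')) (L (pure y y'))
    rw [hτ, hτ, map_mul, map_mul, ← hsym f₁ hf₁ y x, ← hsym f₂ hf₂ y' x', mul_assoc, mul_assoc] at h
    exact (mul_right_cancel₀ (mul_ne_zero hxy hxy') h).symm
  let HU : HermSpace F (Fin n₁ → F) :=
    { σ := H.σ
      h := fun v v' => c * f₁ v v'
      conj := H.conj
      add_left := fun a b v => by rw [hf₁.add_left, mul_add]
      smul_left := fun r a v => by rw [hf₁.smul_left, mul_left_comm]
      symm := fun a b => by rw [map_mul, hcσ, ← hsym f₁ hf₁]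
      nondeg := fun v hv => by
        by_contra h
        obtain ⟨⟨x, hx⟩, -⟩ := hf₁.nondegenerate v h
        exact mul_ne_zero hc0 hx (hv x) }
  let HW : HermSpace F (Fin n₂ → F) :=
    { σ := H.σ
      h := f₂
      conj := H.conj
      add_left := hf₂.add_left
      smul_left := hf₂.smul_left
      symm := fun a b => hsym f₂ hf₂ b a
      nondeg := fun v hv => by
        by_contra h
        obtain ⟨⟨x, hx⟩, -⟩ := hf₂.nondegenerate v h
        exact hx (hv x) }
  let τ : (Fin n₁ → F) →ₗ[F] (Fin n₂ → F) →ₗ[F] (Fin n → F) :=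
    (LinearMap.mk₂ F (pure (F := F) (α := Fin n₁) (β := Fin n₂))
      (fun a b z => pure_add_left a b z) (fun r a z => pure_smul_left r a z)
      (fun v a b => pure_add_right v a b) (fun r v z => pure_smul_right r v z)).compr₂ L
  have hτv : ∀ v z, τ v z = L (pure v z) := fun v z => rfl
  let T : TSpace (ofHerm HU (σ := H.σ) rfl) (ofHerm HW (σ := H.σ) rfl) (ofHerm H (σ := H.σ) rfl) :=
    { τ := τ
      form := fun v z v' z' => hτ v z v' z'
      span := by
        rw [eq_top_iff]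
        intro y _
        obtain ⟨x, rfl⟩ := hsurj y
        rw [show x = ∑ i, pure (Pi.single i (1 : F) : Fin n₁ → F) (fun k => x (i, k)) from funext fun ⟨i, k⟩ => by
          rw [Finset.sum_apply, Finset.sum_eq_single i
            (fun j _ hj => by rw [pure_apply, Pi.single_eq_of_ne (Ne.symm hj), zero_mul])
            (fun h => absurd (mem_univ i) h), pure_apply, Pi.single_eq_same, one_mul], map_sum]
        exact sum_mem fun i _ => Submodule.subset_span ⟨(Pi.single i 1, fun k => x (i, k)), rfl⟩ }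
  have hfix : (∃ κ : F, H.σ κ = κ ∧ κ ≠ 0 ∧ κ ≠ 1) ∨ 3 ≤ Module.finrank F (Fin n₁ → F) := by
    rw [Module.finrank_fin_fun]
    by_cases h3 : 3 ≤ n₁
    · exact Or.inr h3
    refine Or.inl ?_
    by_contra hcon
    push Not at hcon
    refine hex ⟨by omega, ?_⟩
    have hq : Nat.card (fixedField H.σ) = q := stdHerm_q hF
    have h2 : 2 ≤ q := hq ▸ H.conj.two_le_card_fixed
    have h2' : Nat.card (fixedField H.σ) ≤ Nat.card Bool := by
      refine Nat.card_le_card_of_surjective (fun b => bif b then 1 else 0) fun x => ?_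
      by_cases hx : (x : F) = 0
      · exact ⟨false, Subtype.ext hx.symm⟩
      · exact ⟨true, Subtype.ext (hcon x x.2 hx).symm⟩
    rw [hq, Nat.card_eq_fintype_card, Fintype.card_bool] at h2'
    omega
  haveI : Nontrivial (Fin n₁ → F) := Function.nontrivial
  haveI : Nontrivial (Fin n₂ → F) := Function.nontrivial
  have hco : IsCoatom (kronS T) := by
    rcases h4 with h4 | ⟨rfl, rfl⟩
    · exact isCoatom_kronS T (by rw [Module.finrank_fin_fun]; exact h1)
        (by rw [Module.finrank_fin_fun, Module.finrank_fin_fun]; exact h12) (by rw [Module.finrank_fin_fun]; exact h4)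
        (by rw [Module.finrank_fin_fun]; omega) hfix
    · exact isCoatom_kronS_small T (Module.finrank_fin_fun F) (Module.finrank_fin_fun F)
        (by rw [Module.finrank_fin_fun]; omega) (hfix.resolve_right (by rw [Module.finrank_fin_fun]; omega))
  let φ : GL (Fin n₁ × Fin n₂) F ≃* GL (Fin n) F := (Cfsg.Geo.glReindex e.symm).trans (MulAut.conj P)
  have hact : ∀ g x, ((φ g : GL (Fin n) F) : Matrix (Fin n) (Fin n) F) *ᵥ L x =
      L ((g : Matrix (Fin n₁ × Fin n₂) (Fin n₁ × Fin n₂) F) *ᵥ x) := by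
    intro g x
    show ((P * Cfsg.Geo.glReindex e.symm g * P⁻¹ : GL (Fin n) F) : Matrix (Fin n) (Fin n) F) *ᵥ _ = _
    rw [hL, hL, mulVec_mulVec, ← Units.val_mul, inv_mul_cancel_right, Units.val_mul, ← mulVec_mulVec]
    congr 1
    show ((g : Matrix (Fin n₁ × Fin n₂) (Fin n₁ × Fin n₂) F).submatrix e e) *ᵥ (x ∘ e) = _
    rw [Matrix.submatrix_mulVec_equiv, Function.comp_assoc, Equiv.self_comp_symm, Function.comp_id]
  have hcomap : (Cfsg.Geo.tensorProductSubgroup n₁ n₂ e P).comap (sunitToGL hF) = kronS T := by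
    ext g
    constructor
    · rintro ⟨k', ⟨k, ⟨a, b, hab⟩, rfl⟩, hk⟩
      refine ⟨(a : Matrix (Fin n₁) (Fin n₁) F).mulVecLin, (b : Matrix (Fin n₂) (Fin n₂) F).mulVecLin, fun v z => ?_⟩
      show g.1.1 (L (pure v z)) = L (pure ((a : Matrix (Fin n₁) (Fin n₁) F) *ᵥ v) ((b : Matrix (Fin n₂) (Fin n₂) F) *ᵥ z))
      rw [← sunitToGL_mulVec hF, ← hk]
      exact (hact k _).trans (by rw [hab, kron_mulVec_pure])
    · intro hg
      obtain ⟨A, B, hAB⟩ := TSpace.IsKron.equivs T hg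
      have hdA : (LinearMap.toMatrix' A.toLinearMap).det ≠ 0 := by
        rw [LinearMap.det_toMatrix']; exact (LinearEquiv.isUnit_det' A).ne_zero
      have hdB : (LinearMap.toMatrix' B.toLinearMap).det ≠ 0 := by
        rw [LinearMap.det_toMatrix']; exact (LinearEquiv.isUnit_det' B).ne_zero
      set k := kronGL (LinearMap.toMatrix' A.toLinearMap) (LinearMap.toMatrix' B.toLinearMap) hdA hdB
      have hk : k ∈ Cfsg.Geo.kroneckerSubgroup n₁ n₂ F :=
        ⟨Matrix.GeneralLinearGroup.mkOfDetNeZero _ hdA, Matrix.GeneralLinearGroup.mkOfDetNeZero _ hdB,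
          kronGL_val _ _ hdA hdB⟩
      refine ⟨_, ⟨k, hk, rfl⟩, ?_⟩
      show φ k = _
      refine Units.ext (Matrix.toLin'.injective (T.ext fun v z => ?_))
      rw [Matrix.toLin'_apply, Matrix.toLin'_apply, sunitToGL_mulVec]
      show _ *ᵥ L (pure v z) = g.1.1 (T.τ v z)
      rw [hAB, hact, kronGL_val, kron_mulVec_pure, LinearMap.toMatrix'_mulVec, LinearMap.toMatrix'_mulVec]
      rfl
  exact isMaximalIn_of_isCoatom_comap (sunitToGL hF) (range_sunitToGL hF) (hcomap ▸ hco)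

theorem isMaximalIn_unitary (n q : ℕ) (hF : Fintype.card F = q ^ 2) (hn : 13 ≤ n) (n₁ n₂ : ℕ) (h1 : 2 ≤ n₁)
    (h12 : n₁ < n₂) (hex : ¬ (n₁ = 2 ∧ q = 2)) (e : Fin n ≃ Fin n₁ × Fin n₂) (P : GL (Fin n) F)
    (f₁ : (Fin n₁ → F) → (Fin n₁ → F) → F) (f₂ : (Fin n₂ → F) → (Fin n₂ → F) → F)
    (hf₁ : Cfsg.Geo.IsUnitaryFormPow q f₁) (hf₂ : Cfsg.Geo.IsUnitaryFormPow q f₂)
    (hT : Cfsg.Geo.IsTensorFormStructure (fun x : F => x ^ q) (Cfsg.hermForm n F q) f₁ f₂ e P) :
    Cfsg.Geo.IsMaximalIn (Cfsg.GU n F q ⊓ Cfsg.Geo.specialLinear (Fin n) F)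
      (Cfsg.Geo.tensorProductSubgroup n₁ n₂ e P ⊓ (Cfsg.GU n F q ⊓ Cfsg.Geo.specialLinear (Fin n) F)) := by
  refine isMaximalIn_unitary_of_four n q hF n₁ n₂ (Or.inl ?_) h1 h12 hex e P f₁ f₂ hf₁ hf₂ hT
  have hcard : n = n₁ * n₂ := by simpa using Fintype.card_congr e
  by_contra h
  have : n₁ * n₂ ≤ 2 * 3 := Nat.mul_le_mul (by omega) (by omega)
  omega

end Cfsg.Lib.Classical.TensorF
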