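import Cfsg.Agent.Classical.TensorF.Unitary

/-! Unitary tensor products of a plane with a space of dimension three: a non-scalar central block gives all
transvections. -/

set_option autoImplicit false
set_option linter.unusedSectionVars false
set_option linter.unusedSimpArgs false
set_option linter.style.haveILetI false

namespace Cfsg.Lib.Classical.TensorF

universe u v w x

variable {F : Type u} [Field F] {σ : F →+* F}
  {U : Type w} [AddCommGroup U] [Module F U] {W : Type x} [AddCommGroup W] [Module F W]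
  {SU : RSpace σ 1 U} {SW : RSpace σ 1 W}

theorem RSpace.symm₁ {V : Type v} [AddCommGroup V] [Module F V] (S : RSpace σ 1 V) (x y : V) :
    S.h y x = σ (S.h x y) := by rw [S.symm, one_mul]

/-- Coordinates in a plane with a hyperbolic pair. -/
theorem plane_decomp [FiniteDimensional F U] (hU : Module.finrank F U = 2) {d g : U} (hd : SU.h d d = 0)
    (hg : SU.h g g = 0) (hgd : SU.h g d = 1) (v : U) : v = SU.h v g • d + SU.h v d • g := by
  have hdg : SU.h d g = 1 := by rw [SU.symm₁, hgd, map_one]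
  have hli : LinearIndependent F ![d, g] := LinearIndependent.pair_iff.mpr fun a b hab => by
    have h1 := congrArg (fun z => SU.h z g) hab
    have h2 := congrArg (fun z => SU.h z d) hab
    simp only [SU.add_left, SU.smul_left, hd, hg, hgd, hdg, SU.zero_left, mul_one, mul_zero, add_zero, zero_add]
      at h1 h2
    exact ⟨h1, h2⟩
  have htop : Submodule.span F (Set.range ![d, g]) = ⊤ :=
    Submodule.eq_top_of_finrank_eq (by rw [finrank_span_eq_card hli, hU, Fintype.card_fin])
  have hmem : v ∈ Submodule.span F (Set.range ![d, g]) := htop ▸ Submodule.mem_top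
  rw [Matrix.range_cons_cons_empty, Submodule.mem_span_pair] at hmem
  obtain ⟨a, b, rfl⟩ := hmem
  simp only [SU.add_left, SU.smul_left, hd, hg, hgd, hdg, mul_one, mul_zero, add_zero, zero_add]

namespace TSpace

section Cent

variable {V : Type v} [AddCommGroup V] [Module F V] {SV : RSpace σ 1 V} {T : TSpace SU SW SV}
  [FiniteDimensional F U] [FiniteDimensional F W] [Finite F] {G X : Subgroup (V ≃ₗ[F] V)}

theorem cent_add' {e : W} (hee : SW.h e e = 0) {C C' : Module.End F U} (h : T.Cent X e C) (h' : T.Cent X e C') :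
    T.Cent X e (C + C') := by
  obtain ⟨k, hk, hkx⟩ := h
  obtain ⟨k', hk', hkx'⟩ := h'
  refine ⟨k * k', mul_mem hk hk', fun x => ?_⟩
  show k (k' x) = _
  rw [hkx', hkx, map_add, T.cw_tau, hee, zero_smul, add_zero, LinearMap.add_apply, map_add, LinearMap.add_apply]
  abel

theorem cent_neg' {e : W} (hee : SW.h e e = 0) {C : Module.End F U} (h : T.Cent X e C) : T.Cent X e (-C) := by
  obtain ⟨k, hk, hkx⟩ := h
  refine ⟨k⁻¹, inv_mem hk, fun x => ?_⟩
  show k.symm x = _
  rw [LinearEquiv.symm_apply_eq, hkx, map_add, T.cw_tau, hee, zero_smul, add_zero, LinearMap.neg_apply, map_neg,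
    LinearMap.neg_apply]
  abel

theorem cent_zero' {e : W} : T.Cent X e 0 := ⟨1, one_mem X, fun x => by simp⟩

theorem cent_skewAdj (hX : T.Mid G X) {e : W} (he : e ≠ 0) (hee : SW.h e e = 0) {C : Module.End F U}
    (h : T.Cent X e C) (v u : U) : SU.h (C v) u + SU.h v (C u) = 0 := by
  obtain ⟨f, hf⟩ := SW.exists_one he
  have hef : SW.h e f = 1 := by rw [SW.symm₁, hf, map_one]
  obtain ⟨k, hk, hkx⟩ := h
  have := hX.isomX hk (T.τ v f) (T.τ u f)
  rw [hkx, hkx, T.cw_tau, T.cw_tau, hf, one_smul, one_smul, SV.add_left, SV.add_right, SV.add_right, T.form,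
    T.form, T.form, T.form, hee, hef, hf] at this
  linear_combination this

theorem cent_conjU' (hX : T.Mid G X) {p : U} (hp : SU.h p p = 0) {m : F} (hm : σ m + m = 0) {e : W}
    {C C' : Module.End F U}
    (hC : ∀ x, C' (x + (m * SU.h x p) • p) = C x + (m * SU.h (C x) p) • p) (h : T.Cent X e C) : T.Cent X e C' := by
  have hr : SU.RootData p 0 m := ⟨SU.zero_left p, by rw [SU.zero_left, zero_add, one_mul, hm]⟩
  obtain ⟨r, hr', hrv⟩ := exists_rootU (T := T) hX hp hr
  have ha : ∀ x, SU.rmapEquiv hp hr x = x + (m * SU.h x p) • p := fun x => by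
    rw [RSpace.rmapEquiv_apply, RSpace.rmap_apply, SU.zero_right, mul_zero, zero_smul, sub_zero, zero_add,
      smul_smul, mul_comm]
  obtain ⟨k, hk, hkx⟩ := h
  refine ⟨r * k * r⁻¹, mul_mem (mul_mem hr' hk) (inv_mem hr'), fun x => ?_⟩
  show r (k (r.symm x)) = _
  have hcw := T.cw_map_of_fix (hX.isomX hr') (SU.rmapEquiv hp hr) (fun v w => SU.rmap_form hp hr v w)
    (e := e) (e' := e) (fun v => hrv v e) (r.symm x)
  rw [r.apply_symm_apply] at hcw
  rw [hkx, map_add, r.apply_symm_apply, hrv, hcw, ← RSpace.rmapEquiv_apply SU hp hr, ha, ha, hC]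

/-- A central block may be scaled by any fixed scalar. -/
theorem cent_fixed_smul (hX : T.Mid G X) (hs : ∃ l : F, l ≠ 0 ∧ σ l + 1 * l = 0) {e : W} (he : e ≠ 0)
    (hee : SW.h e e = 0) {C : Module.End F U} (h : T.Cent X e C) {κ : F} (hκ : σ κ = κ) :
    T.Cent X e (κ • C) := by
  obtain ⟨s, hs0, hs⟩ := hs
  rw [one_mul] at hs
  have hσs : σ s = -s := eq_neg_of_add_eq_zero_left hs
  have sq : ∀ ρ : F, σ ρ = ρ → T.Cent X e ((ρ * ρ) • C) := by
    intro ρ hρ
    by_cases h0 : ρ = 0
    · rw [h0, zero_mul, zero_smul]; exact cent_zero'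
    obtain ⟨f, hff, hf⟩ := SW.exists_partner he hee
    have hef : SW.h e f = 1 := by rw [SW.symm₁, hf, map_one]
    set t := (ρ - 1) / s with ht
    set r := -s / ρ with hr
    obtain ⟨t₁, h1X, -, h1⟩ := hX.exists_tW hff (l := s) (by rw [one_mul, hs])
    obtain ⟨t₂, h2X, -, h2⟩ := hX.exists_tW hee (l := t) (by
      rw [one_mul, ht, map_div₀, map_sub, map_one, hρ, hσs, div_neg, neg_add_cancel])
    obtain ⟨t₃, h3X, -, h3⟩ := hX.exists_tW hff (l := r) (by
      rw [one_mul, hr, map_div₀, map_neg, hρ, hσs, neg_neg, neg_div, add_neg_cancel])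
    have hts : s * t = ρ - 1 := by rw [ht, mul_div_cancel₀ _ hs0]
    have hrρ : ρ * r = -s := by rw [hr, mul_div_cancel₀ _ h0]
    have hmove : ∀ v, (t₃ * t₂ * t₁) (T.τ v e) = T.τ v (ρ • e) := fun v => by
      show t₃ (t₂ (t₁ _)) = _
      rw [h1, h2, h3, SW.add_left, SW.smul_left, hee, hef, hf]
      congr 1
      simp only [SW.add_left, SW.smul_left, hef, hff, mul_one, mul_zero, zero_add, add_zero]
      rw [mul_comm t s, hts, show r * (1 + (ρ - 1)) = ρ * r by ring, hrρ]
      module
    have h' := cent_scale ρ⁻¹ (inv_ne_zero h0) (cent_conj hX (mul_mem (mul_mem h3X h2X) h1X) hmove h)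
    rwa [smul_smul, inv_mul_cancel₀ h0, one_smul, map_inv₀, hρ, ← mul_inv_rev, inv_inv] at h'
  by_cases h2 : (2 : F) = 0
  · have hinj : Function.Injective fun z : F => z * z := fun a b hab => by
      have : (a - b) * (a - b) = 0 := by linear_combination hab + (b * b - a * b) * h2
      exact sub_eq_zero.mp (mul_self_eq_zero.mp this)
    obtain ⟨μ, hμ⟩ := Finite.injective_iff_surjective.mp hinj κ
    simp only at hμ
    have hμσ : σ μ = μ := hinj (by simp only; rw [← map_mul, hμ, hκ])
    exact hμ ▸ sq μ hμσ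
  · have h1 := sq ((κ + 1) / 2) (by rw [map_div₀, map_add, map_one, map_ofNat, hκ])
    have h1' := sq ((κ - 1) / 2) (by rw [map_div₀, map_sub, map_one, map_ofNat, hκ])
    have := cent_add' hee h1 (cent_neg' hee h1')
    convert this using 1
    rw [← neg_smul, ← add_smul]
    congr 1
    field_simp
    ring

theorem hull (hX : T.Mid G X) (hs : ∃ l : F, l ≠ 0 ∧ σ l + 1 * l = 0) (hk : ∃ k : F, σ k = k ∧ k ≠ 0 ∧ k ≠ 1)
    (hU : Module.finrank F U = 2) {e : W} (he : e ≠ 0) (hee : SW.h e e = 0) {d g : U} (hd : SU.h d d = 0)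
    (hg : SU.h g g = 0) (hgd : SU.h g d = 1) {C : Module.End F U} (hC : T.Cent X e C)
    (hne : SU.h (C d) d ≠ 0 ∨ SU.h (C d) g + σ (SU.h (C d) g) ≠ 0) :
    ∃ μ : F, μ ≠ 0 ∧ σ μ + μ = 0 ∧ T.Cent X e (μ • SU.rk d d) := by
  have hdg : SU.h d g = 1 := by rw [SU.symm₁, hgd, map_one]
  obtain ⟨s, hs0, hs'⟩ := id hs
  rw [one_mul] at hs'
  set δ := SU.h (C d) d with hδ
  let L : Module.End F U := (((SU.lin d).comp C).smulRight d) - (SU.lin d).smulRight (C d)
  have hL : ∀ x, L x = SU.h (C x) d • d - SU.h x d • C d := fun x => rfl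
  have hstep : ∀ m, σ m + m = 0 → T.Cent X e (m • L - (m * m * δ) • SU.rk d d) := fun m hm => by
    have hconj := cent_conjU' (T := T) hX hd hm (C := C) (C' := C + (m • L - (m * m * δ) • SU.rk d d))
      (fun x => by
        simp only [LinearMap.add_apply, LinearMap.sub_apply, LinearMap.smul_apply, RSpace.rk_apply, hL, map_add,
          map_smul, SU.add_left, SU.smul_left, hd, ← hδ, mul_zero, zero_mul, add_zero]
        module) hC
    have := cent_add' hee hconj (cent_neg' hee hC)
    rwa [add_assoc, add_comm (m • L - _) (-C), ← add_assoc, add_neg_cancel, zero_add] at this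
  have goal : ∀ μ : F, μ ≠ 0 → T.Cent X e (μ • SU.rk d d) →
      ∃ μ : F, μ ≠ 0 ∧ σ μ + μ = 0 ∧ T.Cent X e (μ • SU.rk d d) := fun μ hμ h => by
    have hsk := cent_skewAdj hX he hee h g g
    simp only [LinearMap.smul_apply, RSpace.rk_apply, smul_smul, hgd, mul_one, SU.smul_left, SU.smul_right, hdg] at hsk
    exact ⟨μ, hμ, by linear_combination hsk, h⟩
  by_cases hδ0 : δ = 0
  · have hc := hne.resolve_left (not_not.mpr hδ0)
    set c := SU.h (C d) g with hc'
    have hCd : C d = c • d := by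
      have := plane_decomp hU hd hg hgd (C d)
      rwa [← hδ, hδ0, zero_smul, add_zero] at this
    have hLd : L = (-(σ c + c)) • SU.rk d d := LinearMap.ext fun x => by
      have h := cent_skewAdj hX he hee hC x d
      rw [hCd, SU.smul_right] at h
      rw [hL, hCd, eq_neg_of_add_eq_zero_left h, LinearMap.smul_apply, RSpace.rk_apply]
      module
    refine goal (s * -(σ c + c)) (mul_ne_zero hs0 (neg_ne_zero.mpr (by rwa [add_comm]))) ?_
    have := hstep s hs'
    rwa [hδ0, mul_zero, zero_smul, sub_zero, hLd, smul_smul] at this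
  · obtain ⟨k, hk, hk0, hk1⟩ := hk
    have hks : σ (k * s) + k * s = 0 := by rw [map_mul, hk]; linear_combination k * hs'
    refine goal ((k - k * k) * (s * s * δ)) (mul_ne_zero ?_ (mul_ne_zero (mul_ne_zero hs0 hs0) hδ0)) ?_
    · rw [show k - k * k = k * (1 - k) by ring]
      exact mul_ne_zero hk0 (sub_ne_zero.mpr (Ne.symm hk1))
    have := cent_add' hee (hstep _ hks) (cent_neg' hee (cent_fixed_smul hX hs he hee (hstep _ hs') hk))
    convert this using 1
    module

theorem exists_pure_block (hX : T.Mid G X) (hs : ∃ l : F, l ≠ 0 ∧ σ l + 1 * l = 0)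
    (hk : ∃ k : F, σ k = k ∧ k ≠ 0 ∧ k ≠ 1) (hU : Module.finrank F U = 2) (hiso : ∃ d : U, d ≠ 0 ∧ SU.h d d = 0)
    {e : W} (he : e ≠ 0) (hee : SW.h e e = 0) {C : Module.End F U} (hC : T.Cent X e C)
    (hns : ∀ c : F, C ≠ c • LinearMap.id) :
    ∃ d : U, d ≠ 0 ∧ SU.h d d = 0 ∧ ∃ μ : F, μ ≠ 0 ∧ σ μ + μ = 0 ∧ T.Cent X e (μ • SU.rk d d) := by
  obtain ⟨d, hd0, hd⟩ := hiso
  obtain ⟨g, hg, hgd⟩ := SU.exists_partner hd0 hd
  have hdg : SU.h d g = 1 := by rw [SU.symm₁, hgd, map_one]
  by_cases h1 : SU.h (C d) d ≠ 0 ∨ SU.h (C d) g + σ (SU.h (C d) g) ≠ 0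
  · exact ⟨d, hd0, hd, hull hX hs hk hU he hee hd hg hgd hC h1⟩
  push Not at h1
  by_cases h2 : SU.h (C g) g ≠ 0
  · refine ⟨g, fun h => ?_, hg, hull hX hs hk hU he hee hg hd hdg hC (Or.inl h2)⟩
    rw [h, SU.zero_left] at hgd
    exact zero_ne_one hgd
  push Not at h2
  exfalso
  have hcd : SU.h (C g) d = SU.h (C d) g := by
    have h := cent_skewAdj hX he hee hC g d
    rw [SU.symm₁ (C d) g] at h
    linear_combination h - h1.2
  refine hns (SU.h (C d) g) (LinearMap.ext fun x => ?_)
  rw [LinearMap.smul_apply, LinearMap.id_apply]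
  have e1 := plane_decomp hU hd hg hgd (C d)
  have e2 := plane_decomp hU hd hg hgd (C g)
  rw [h1.1, zero_smul, add_zero] at e1
  rw [h2, zero_smul, zero_add, hcd] at e2
  conv_lhs => rw [plane_decomp hU hd hg hgd x, map_add, map_smul, map_smul, e1, e2]
  conv_rhs => rw [plane_decomp hU hd hg hgd x]
  module

/-- All pure tensors of two isotropic vectors are centres. -/
theorem pure_centre (hX : T.Mid G X) (hs : ∃ l : F, l ≠ 0 ∧ σ l + 1 * l = 0)
    (hk : ∃ k : F, σ k = k ∧ k ≠ 0 ∧ k ≠ 1) (hm : ∃ c : F, σ c ≠ c) (hU : Module.finrank F U = 2)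
    (hiso : ∃ d : U, d ≠ 0 ∧ SU.h d d = 0) [Nontrivial U] (hA : ¬ T.RadScalar X) {d : U} (hd0 : d ≠ 0)
    (hdd : SU.h d d = 0) {e : W} (he : e ≠ 0) (hee : SW.h e e = 0) {l : F} (hl : σ l + l = 0) :
    ∃ k ∈ X, ∀ x, k x = x + (l * SV.h x (T.τ d e)) • T.τ d e := by
  obtain ⟨e₀, he₀, hee₀, C₀, hC₀, hns⟩ := exists_cent_of_layers hX hA fun e he hee Y hY hcon => by
    obtain ⟨hp, k, hk, hact⟩ := hY
    intro w hew
    obtain ⟨c, hc⟩ := hm
    have hwe := SW.swap hew
    obtain ⟨C₁, hC₁, e₁⟩ := comm_cent hX he hee ⟨hp, k, hk, hact⟩ (rel_id hX hee hwe)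
    obtain ⟨C₂, hC₂, e₂⟩ := comm_cent hX he hee ⟨hp, k, hk, hact⟩
      (rel_id hX hee (w := c • w) (by rw [SW.smul_left, hwe, mul_zero]))
    obtain ⟨s₁, rfl⟩ := hcon C₁ hC₁
    obtain ⟨s₂, rfl⟩ := hcon C₂ hC₂
    refine ⟨(σ c - c)⁻¹ * (1 * (s₂ - c * s₁)), LinearMap.ext fun v => SU.ext_left fun u => ?_⟩
    have hne : σ c - c ≠ 0 := sub_ne_zero.mpr hc
    have q₁ := e₁ v u
    have q₂ := e₂ v u
    simp only [LinearMap.smul_apply, LinearMap.id_apply, layer_apply, map_smul, SV.smul_left, SV.smul_right,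
      SU.smul_left, SU.smul_right] at q₁ q₂
    rw [LinearMap.comp_apply, T.h_cw, LinearMap.smul_apply, LinearMap.id_apply, SU.smul_left]
    field_simp
    linear_combination c * q₁ - q₂
  obtain ⟨d₀, hd₀, hdd₀, μ, hμ0, hμ, hCd⟩ := exists_pure_block hX hs hk hU hiso he₀ hee₀ hC₀ hns
  -- every isotropic vector of the first space
  have hall : ∀ l, σ l + l = 0 → T.Cent X e₀ (l • SU.rk d d) := by
    refine SU.transitive hs (P := fun d => ∀ l, σ l + l = 0 → T.Cent X e₀ (l • SU.rk d d))
      (fun p m x hp hm' _ hx l hl => ?_) (fun c x hc hx l hl => ?_) hd₀ hd0 hdd₀ hdd (fun l hl => ?_)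
    · rw [one_mul] at hm'
      refine cent_conjU' hX hp hm' (C := l • SU.rk x x) (fun y => ?_) (hx l hl)
      simp only [LinearMap.smul_apply, RSpace.rk_apply, SU.add_left, SU.smul_left, SU.add_right, SU.smul_right, hp,
        map_mul, mul_zero, add_zero]
      rw [eq_neg_of_add_eq_zero_left hm', SU.symm₁ x p]
      match_scalars <;> ring
    · have h2 : σ (l * (c * σ c)) + l * (c * σ c) = 0 := by
        rw [map_mul, map_mul, SU.invol]; linear_combination (c * σ c) * hl
      convert hx _ h2 using 1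
      refine LinearMap.ext fun y => ?_
      simp only [LinearMap.smul_apply, RSpace.rk_apply, SU.smul_right, smul_smul]
      congr 1
      ring
    · have hκ : σ (l / μ) = l / μ := by
        rw [map_div₀, eq_neg_of_add_eq_zero_left hl, eq_neg_of_add_eq_zero_left hμ, neg_div_neg_eq]
      have := cent_fixed_smul hX hs he₀ hee₀ hCd hκ
      rwa [smul_smul, div_mul_cancel₀ _ hμ0] at this
  -- every isotropic vector of the second space
  have hev : ∀ l, σ l + l = 0 → T.Cent X e (l • SU.rk d d) := by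
    refine SW.transitive hs (P := fun e => ∀ l, σ l + l = 0 → T.Cent X e (l • SU.rk d d))
      (fun p m x hp hm' _ hx l hl => ?_) (fun c x hc hx l hl => ?_) he₀ he hee₀ hee hall
    · obtain ⟨t, htX, -, ht⟩ := hX.exists_tW hp hm'
      exact cent_conj hX htX (fun v => ht v x) (hx l hl)
    · have h2 : σ (σ c * c * l) + σ c * c * l = 0 := by
        rw [map_mul, map_mul, SU.invol]; linear_combination (c * σ c) * hl
      have := cent_scale c hc (hx _ h2)
      rwa [smul_smul, inv_mul_cancel_left₀ (mul_ne_zero ((map_ne_zero σ).mpr hc) hc)] at this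
  obtain ⟨k, hk, hkx⟩ := hev l hl
  refine ⟨k, hk, fun x => ?_⟩
  rw [hkx, LinearMap.smul_apply, RSpace.rk_apply, smul_smul, T.h_cw, map_smul, LinearMap.smul_apply]

end Cent

section Herm

variable {V : Type v} [AddCommGroup V] [Module F V] {H : HermSpace F V} {hH : H.σ = σ}
  (T : TSpace SU SW (ofHerm H hH)) [FiniteDimensional F U] [FiniteDimensional F W]

theorem form' (v : U) (z : W) (v' : U) (z' : W) :
    H.h (T.τ v z) (T.τ v' z') = SU.h v v' * SW.h z z' := T.form v z v' z'

variable {K : Subgroup H.SIsom}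

/-- A transvection with centre in `K` carries centres to centres. -/
theorem centre_back {p y : V} {l : F} (hp : p ∈ H.uCentres K) (hl : l + H.σ l = 0)
    (hy : y + (l * H.h y p) • p ∈ H.uCentres K) : y ∈ H.uCentres K := by
  have := HermSpace.uCentres_map hy (K.inv_mem (hp.2 l hl))
  convert this using 1
  change y = (H.uT hp.1 hl)⁻¹.1 _
  rw [← H.uT_apply hp.1 hl y, H.inv_apply_self]

theorem centres_of_pure (hU : Module.finrank F U = 2) (hW : Module.finrank F W = 3) [Finite F]
    (hiso : ∃ d : U, d ≠ 0 ∧ SU.h d d = 0) (hisoW : ∃ e : W, e ≠ 0 ∧ SW.h e e = 0)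
    (hk : ∃ k : F, σ k = k ∧ k ≠ 0 ∧ k ≠ 1)
    (hpure : ∀ (d : U) (e : W), SU.h d d = 0 → SW.h e e = 0 → T.τ d e ∈ H.uCentres K) :
    ∀ y, H.h y y = 0 → y ∈ H.uCentres K := by
  subst hH
  have hσ := H.conj
  obtain ⟨l, hl0, hl⟩ := hσ.exists_skew
  obtain ⟨θ, hθ⟩ := hσ.exists_trace_one
  obtain ⟨d, hd0, hd⟩ := hiso
  obtain ⟨g, hg, hgd⟩ := SU.exists_partner hd0 hd
  have hdg : SU.h d g = 1 := by rw [SU.symm₁, hgd, map_one]
  have hσl : H.σ l = -l := eq_neg_of_add_eq_zero_right hl
  have hfixW : ∀ z : W, H.σ (SW.h z z) = SW.h z z := fun z => (SW.symm₁ z z).symm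
  -- a perpendicular anisotropic vector
  have perp : ∀ e f : W, SW.h e e = 0 → SW.h f f = 0 → SW.h f e = 1 →
      ∃ g₀, SW.h g₀ e = 0 ∧ SW.h g₀ f = 0 ∧ SW.h g₀ g₀ ≠ 0 ∧
        ∀ z, SW.h z e = 0 → SW.h z f = 0 → ∃ c : F, z = c • g₀ := by
    intro e f hee hff hfe
    have hef : SW.h e f = 1 := by rw [SW.symm₁, hfe, map_one]
    set P := LinearMap.ker ((SW.lin e).prod (SW.lin f)) with hP
    have h1 : Module.finrank F P = 1 := by
      have hsurj : Function.Surjective ((SW.lin e).prod (SW.lin f)) := fun p => ⟨p.2 • e + p.1 • f, by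
        simp [RSpace.lin_apply, SW.add_left, SW.smul_left, hee, hff, hfe, hef]⟩
      have := ((SW.lin e).prod (SW.lin f)).finrank_range_add_finrank_ker
      rw [LinearMap.range_eq_top.mpr hsurj, finrank_top, Module.finrank_prod, Module.finrank_self, hW, ← hP] at this
      omega
    obtain ⟨⟨g₀, hg₀⟩, hne, hgen⟩ := finrank_eq_one_iff'.mp h1
    have hge : SW.h g₀ e = 0 := congrArg Prod.fst hg₀
    have hgf : SW.h g₀ f = 0 := congrArg Prod.snd hg₀
    refine ⟨g₀, hge, hgf, fun h0 => hne (Subtype.ext ?_), fun z hze hzf => ?_⟩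
    · refine SW.nd g₀ fun z => ?_
      obtain ⟨c, hc⟩ := hgen ⟨z - SW.h z e • f - SW.h z f • e, by
        simp [hP, RSpace.lin_apply, SW.sub_left, SW.smul_left, hee, hff, hfe, hef]⟩
      have hz : z = c • g₀ + SW.h z e • f + SW.h z f • e := by
        have : z - SW.h z e • f - SW.h z f • e = c • g₀ := (congrArg Subtype.val hc).symm
        rw [← this]; abel
      rw [hz]
      simp [SW.add_right, SW.smul_right, h0, hge, hgf]
    · obtain ⟨c, hc⟩ := hgen ⟨z, by simp [hP, RSpace.lin_apply, hze, hzf]⟩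
      exact ⟨c, (congrArg Subtype.val hc).symm⟩
  have span2 : ∀ p q : V, p ∈ H.uCentres K → q ∈ H.uCentres K → H.h p q ≠ 0 → H.h (p + q) (p + q) = 0 →
      p + q ∈ H.uCentres K := fun p q hp hq hne hiso => by
    have := HermSpace.uCentres_span hp hq hne (a := 1) (b := 1) (by rwa [one_smul, one_smul])
    rwa [one_smul, one_smul] at this
  -- the second vector isotropic
  have stepA : ∀ (u : U) (e : W), SW.h e e = 0 → T.τ u e ∈ H.uCentres K := by
    intro u e hee
    by_cases he : e = 0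
    · rw [he, map_zero]; exact H.uCentres_zero K
    obtain ⟨f, hff, hfe⟩ := SW.exists_partner he hee
    have hef : SW.h e f = 1 := by rw [SW.symm₁, hfe, map_one]
    obtain ⟨g₀, hge, hgf, hγ, -⟩ := perp e f hee hff hfe
    set a := SU.h u g with ha
    set b := SU.h u d with hb
    have hu : u = a • d + b • g := plane_decomp hU hd hg hgd u
    by_cases ha0 : a = 0
    · refine hpure u e ?_ hee
      rw [hu, ha0, zero_smul, zero_add, SU.smul_left, SU.smul_right, hg, mul_zero, mul_zero]
    obtain ⟨k, hk, hk0, hk1⟩ := hk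
    -- two skew scalars with a nonzero sum
    set l₁ := -(k * l) with hl₁
    have hσ1 : H.σ l₁ = -l₁ := by rw [hl₁, map_neg, map_mul, hk, hσl]; ring
    have hL : l + l₁ ≠ 0 := by
      rw [hl₁, show l + -(k * l) = l * (1 - k) by ring]
      exact mul_ne_zero hl0 (sub_ne_zero.mpr (Ne.symm hk1))
    set γ := SW.h g₀ g₀ with hγ'
    set D := a * H.σ a * γ * (l * l₁) with hD
    have hD0 : D ≠ 0 := mul_ne_zero (mul_ne_zero (mul_ne_zero ha0 ((map_ne_zero _).mpr ha0)) hγ)
      (mul_ne_zero hl0 (by rw [hl₁]; exact neg_ne_zero.mpr (mul_ne_zero hk0 hl0)))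
    have hσD : H.σ D = D := by
      rw [hD, map_mul, map_mul, map_mul, map_mul, H.conj.invol, hfixW g₀, hσl, hσ1]
      ring
    set N := -(b * H.σ ((l + l₁) * a) + H.σ (b * H.σ ((l + l₁) * a))) / D with hN
    obtain ⟨s, hs⟩ := H.conj.norm_surjective (a := N) (by
      rw [hN, map_div₀, map_neg, map_add, H.conj.invol, hσD, add_comm])
    set x := -(θ * (N * γ)) with hx
    have hNσ : H.σ N = N := by rw [← hs]; exact H.conj.norm_mem s
    have hNeq : N * D = -(b * H.σ ((l + l₁) * a) + H.σ (b * H.σ ((l + l₁) * a))) := div_mul_cancel₀ _ hD0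
    clear_value N l₁
    set e₃ := x • e + f + s • g₀ with he₃
    have hee₃ : SW.h e₃ e₃ = 0 := by
      simp only [he₃, SW.add_left, SW.add_right, SW.smul_left, SW.smul_right, hee, hff, hfe, hef, hge, hgf,
        SW.swap hge, SW.swap hgf, hx, map_neg, map_mul, hNσ, hγ', hfixW g₀]
      linear_combination (SW.h g₀ g₀) * hs - (N * SW.h g₀ g₀) * hθ
    have he3 : SW.h e e₃ = 1 := by
      simp [he₃, SW.add_right, SW.smul_right, hee, hef, SW.swap hge]
    have hp1 := hpure g f hg hff
    have hp2 := hpure g e₃ hg hee₃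
    have hl1' : l₁ + H.σ l₁ = 0 := by rw [hσ1, add_neg_cancel]
    set w := (b + l₁ * a * x) • e + ((l + l₁) * a) • f + (l₁ * a * s) • g₀ with hw
    have hew : SW.h e w = H.σ ((l + l₁) * a) := by
      simp [hw, SW.add_right, SW.smul_right, hee, hef, SW.swap hge]
    have hww : SW.h w w = 0 := by
      simp only [hD, map_mul, map_add, map_neg, H.conj.invol, hσl, hσ1] at hNeq
      simp only [hw, SW.add_left, SW.add_right, SW.smul_left, SW.smul_right, hee, hff, hfe, hef, hge, hgf,
        SW.swap hge, SW.swap hgf, map_add, map_mul, hσl, hσ1, hx, map_neg, hNσ, hfixW g₀, hγ']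
      linear_combination hNeq + (-(l₁ * l₁) * a * H.σ a * SW.h g₀ g₀) * hs +
        (l₁ * (l + l₁) * a * H.σ a * N * SW.h g₀ g₀) * hθ
    have hcase : T.τ (a • d) e + T.τ g w ∈ H.uCentres K := by
      refine span2 _ _ (hpure _ _ (by rw [SU.smul_left, SU.smul_right, hd, mul_zero, mul_zero]) hee)
        (hpure g w hg hww) ?_ ?_
      · rw [form', SU.smul_left, hdg, mul_one, hew]
        exact mul_ne_zero ha0 ((map_ne_zero _).mpr (mul_ne_zero hL ha0))
      · rw [H.add_left, H.add_right, H.add_right, form', form', form', form', hee, hww, SW.symm₁ e w, hew]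
        simp only [SU.smul_left, SU.smul_right, hdg, hgd, H.conj.invol, map_mul, map_add, map_neg, hσl, hσ1]
        ring
    refine centre_back hp1 hl (centre_back hp2 hl1' ?_)
    convert hcase using 1
    have h1 : H.h (T.τ u e) (T.τ g f) = a := by rw [form', hef, mul_one, ha]
    have h2 : H.h (T.τ u e + (l * a) • T.τ g f) (T.τ g e₃) = a := by
      rw [H.add_left, H.smul_left, form', form', hg, he3, ← ha]; ring
    rw [h1, h2, hw, he₃]
    nth_rewrite 1 [hu]
    simp only [map_add, map_smul, LinearMap.add_apply, LinearMap.smul_apply, smul_add, smul_smul]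
    module
  -- isotropic against a non-isotropic partner, in general position
  have lemA : ∀ (u₁ u₂ : U) (e w : W), SW.h e e = 0 → SW.h w e = 1 →
      H.h (T.τ u₁ e + T.τ u₂ w) (T.τ u₁ e + T.τ u₂ w) = 0 → ¬ (SU.h u₁ u₂ = 0 ∧ SU.h u₂ u₂ = 0) →
      T.τ u₁ e + T.τ u₂ w ∈ H.uCentres K := by
    intro u₁ u₂ e w hee hwe hy hnd
    have hew : SW.h e w = 1 := by rw [SW.symm₁, hwe, map_one]
    have main : ∀ c, c + H.σ c = SW.h w w → SU.h (u₁ + c • u₂) u₂ ≠ 0 →
        T.τ u₁ e + T.τ u₂ w ∈ H.uCentres K := by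
      intro c hc hne
      have hz : SW.h (w - c • e) (w - c • e) = 0 := by
        simp only [SW.sub_left, SW.sub_right, SW.smul_left, SW.smul_right, hee, hwe, hew]
        linear_combination -hc
      have e1 : T.τ u₁ e + T.τ u₂ w = T.τ (u₁ + c • u₂) e + T.τ u₂ (w - c • e) := by
        simp only [map_add, map_sub, map_smul, LinearMap.add_apply, LinearMap.smul_apply]; abel
      rw [e1] at hy ⊢
      have hq : T.τ u₂ (w - c • e) ∈ H.uCentres K := stepA u₂ _ hz
      refine span2 _ _ (stepA _ e hee) hq ?_ hy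
      rw [form', SW.sub_right, SW.smul_right, hew, hee, mul_zero, sub_zero, mul_one]
      exact hne
    have hc0 : θ * SW.h w w + H.σ (θ * SW.h w w) = SW.h w w := by
      rw [map_mul, hfixW]; linear_combination SW.h w w * hθ
    by_cases h0 : SU.h (u₁ + (θ * SW.h w w) • u₂) u₂ = 0
    · refine main (θ * SW.h w w + l) ?_ ?_
      · rw [map_add]; linear_combination hc0 + hl
      · rw [SU.add_left, SU.smul_left] at h0 ⊢
        intro h
        have : l * SU.h u₂ u₂ = 0 := by linear_combination h - h0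
        have hb := (mul_eq_zero.mp this).resolve_left hl0
        exact hnd ⟨by rw [hb, mul_zero, add_zero] at h0; exact h0, hb⟩
    · exact main _ hc0 h0
  -- pure tensors
  have pure : ∀ (u : U) (w : W), SU.h u u * SW.h w w = 0 → T.τ u w ∈ H.uCentres K := by
    intro u w h0
    by_cases hww : SW.h w w = 0
    · exact stepA u w hww
    have huu := (mul_eq_zero.mp h0).resolve_right hww
    by_cases hu0 : u = 0
    · rw [hu0, map_zero, LinearMap.zero_apply]; exact H.uCentres_zero K
    obtain ⟨u', hu', hu'u⟩ := SU.exists_partner hu0 huu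
    obtain ⟨e₀, he₀, hee₀⟩ := hisoW
    obtain ⟨f₀, hff₀, hfe₀⟩ := SW.exists_partner he₀ hee₀
    obtain ⟨e, hee, hwe⟩ : ∃ e, SW.h e e = 0 ∧ SW.h w e ≠ 0 := by
      by_cases h1 : SW.h w e₀ = 0
      · by_cases h2 : SW.h w f₀ = 0
        · refine ⟨(-(θ * SW.h w w)) • e₀ + f₀ + w, ?_, ?_⟩
          · have hef₀ : SW.h e₀ f₀ = 1 := by rw [SW.symm₁, hfe₀, map_one]
            simp only [SW.add_left, SW.add_right, SW.smul_left, SW.smul_right, hee₀, hff₀, hfe₀, hef₀, h1, h2,
              SW.swap h1, SW.swap h2, map_neg, map_mul, hfixW]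
            linear_combination (-SW.h w w) * hθ
          · simpa [SW.add_right, SW.smul_right, SW.neg_right, h1, h2] using hww
        · exact ⟨f₀, hff₀, h2⟩
      · exact ⟨e₀, hee₀, h1⟩
    set e' := (H.σ (SW.h w e))⁻¹ • e with he'
    have hee' : SW.h e' e' = 0 := by rw [he', SW.smul_left, SW.smul_right, hee, mul_zero, mul_zero]
    have hwe' : SW.h w e' = 1 := by
      rw [he', SW.smul_right, map_inv₀, H.conj.invol, inv_mul_cancel₀ hwe]
    have hp := stepA u' e' hee'
    refine centre_back hp hl ?_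
    have hyp : H.h (T.τ u w) (T.τ u' e') = 1 := by rw [form', hwe', SU.symm₁ u' u, hu'u, map_one, mul_one]
    rw [hyp, mul_one, add_comm, ← LinearMap.smul_apply, ← map_smul]
    refine lemA (l • u') u e' w hee' hwe' ?_ fun h => hl0 ?_
    · rw [H.add_left, H.add_right, H.add_right, form', form', form', form', hwe', hee', SW.symm₁ w e', hwe',
        map_one, huu]
      simp only [SU.smul_left, SU.smul_right, hu'u, SU.symm₁ u' u, map_one, hσl]
      ring
    · have := h.1
      rwa [SU.smul_left, hu'u, mul_one] at this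
  -- two terms
  have two : ∀ (a₁ a₂ : U) (e w : W), SW.h e e = 0 → H.h (T.τ a₁ e + T.τ a₂ w) (T.τ a₁ e + T.τ a₂ w) = 0 →
      T.τ a₁ e + T.τ a₂ w ∈ H.uCentres K := by
    intro a₁ a₂ e w hee hy
    by_cases he : e = 0
    · rw [he, map_zero, zero_add] at hy ⊢
      exact pure a₂ w ((form' T a₂ w a₂ w).symm.trans hy)
    have rank1 : SU.h a₁ a₂ = 0 → SU.h a₂ a₂ = 0 → T.τ a₁ e + T.τ a₂ w ∈ H.uCentres K := by
      intro h1 h2
      by_cases ha : a₂ = 0
      · rw [ha, map_zero, LinearMap.zero_apply, add_zero]; exact stepA a₁ e hee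
      obtain ⟨b, hb, hba⟩ := SU.exists_partner ha h2
      have := plane_decomp hU h2 hb hba a₁
      rw [h1, zero_smul, add_zero] at this
      rw [this, map_smul, LinearMap.smul_apply, ← map_smul, ← map_add]
      exact pure a₂ _ (by rw [h2, zero_mul])
    by_cases hwe : SW.h w e = 0
    · obtain ⟨f, hff, hfe⟩ := SW.exists_partner he hee
      have hef : SW.h e f = 1 := by rw [SW.symm₁, hfe, map_one]
      -- make `w` orthogonal to the pair
      set ρ := SW.h w f with hρ
      set w' := w - ρ • e with hw'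
      set b₁ := a₁ + ρ • a₂ with hb₁
      have e1 : T.τ a₁ e + T.τ a₂ w = T.τ b₁ e + T.τ a₂ w' := by
        simp only [hb₁, hw', map_add, map_sub, map_smul, LinearMap.add_apply, LinearMap.smul_apply]; abel
      have hw'e : SW.h w' e = 0 := by rw [hw', SW.sub_left, SW.smul_left, hwe, hee, mul_zero, sub_zero]
      have hw'f : SW.h w' f = 0 := by rw [hw', SW.sub_left, SW.smul_left, hef, mul_one, sub_self]
      rw [e1] at hy ⊢
      have hbw : SU.h a₂ a₂ * SW.h w' w' = 0 := by
        simpa [H.add_left, H.add_right, form', hee, hw'e, SW.swap hw'e] using hy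
      by_cases hb : SU.h b₁ a₂ = 0
      · rcases mul_eq_zero.mp hbw with h | h
        · have h' : SU.h a₁ a₂ = 0 := by simpa [hb₁, SU.add_left, SU.smul_left, h] using hb
          rw [← e1]
          exact rank1 h' h
        · obtain ⟨g₀, -, -, hγ, hgen⟩ := perp e f hee hff hfe
          obtain ⟨c, hc⟩ := hgen w' hw'e hw'f
          have : c = 0 := by
            rw [hc, SW.smul_left, SW.smul_right, mul_eq_zero, mul_eq_zero] at h
            rcases h with h | h | h
            · exact h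
            · exact H.conj.eq_zero.mp h
            · exact absurd h hγ
          rw [hc, this, zero_smul, map_zero, add_zero]
          exact stepA b₁ e hee
      · have hp := stepA a₂ f hff
        refine centre_back hp hl ?_
        have hyp : H.h (T.τ b₁ e + T.τ a₂ w') (T.τ a₂ f) = SU.h b₁ a₂ := by
          rw [H.add_left, form', form', hef, hw'f, mul_zero, add_zero, mul_one]
        set lam := l * SU.h b₁ a₂ with hlam
        have hlam0 : lam ≠ 0 := mul_ne_zero hl0 hb
        rw [hyp, ← hlam]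
        have e2 : T.τ b₁ e + T.τ a₂ w' + lam • T.τ a₂ f = T.τ b₁ e + T.τ (lam • a₂) (lam⁻¹ • w' + f) := by
          simp only [map_add, map_smul, LinearMap.smul_apply, smul_smul, smul_add, mul_inv_cancel₀ hlam0, inv_mul_cancel₀ hlam0, one_smul]
          abel
        have hiso : H.h (T.τ b₁ e + T.τ a₂ w' + lam • T.τ a₂ f) (T.τ b₁ e + T.τ a₂ w' + lam • T.τ a₂ f) = 0 := by
          have h := H.map_form (H.uT hp.1 hl) (T.τ b₁ e + T.τ a₂ w') (T.τ b₁ e + T.τ a₂ w')
          rwa [H.uT_apply, hyp, ← hlam, hy] at h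
        rw [e2] at hiso ⊢
        refine lemA _ _ e _ hee (by simp [SW.add_left, SW.smul_left, hw'e, hfe]) hiso fun h => hb ?_
        have := h.1
        rw [SU.smul_right, mul_eq_zero] at this
        exact this.resolve_left ((map_ne_zero _).mpr hlam0)
    · set w' := (SW.h w e)⁻¹ • w with hw'
      have hw'e : SW.h w' e = 1 := by rw [hw', SW.smul_left, inv_mul_cancel₀ hwe]
      have e1 : T.τ a₁ e + T.τ a₂ w = T.τ a₁ e + T.τ (SW.h w e • a₂) w' := by
        simp only [hw', map_smul, LinearMap.smul_apply, smul_smul, mul_inv_cancel₀ hwe, inv_mul_cancel₀ hwe, one_smul]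
      by_cases hnd : SU.h a₁ a₂ = 0 ∧ SU.h a₂ a₂ = 0
      · exact rank1 hnd.1 hnd.2
      rw [e1] at hy ⊢
      refine lemA _ _ e _ hee hw'e hy fun h => hnd ⟨?_, ?_⟩
      · have := h.1
        rw [SU.smul_right, mul_eq_zero] at this
        exact this.resolve_left ((map_ne_zero _).mpr hwe)
      · have := h.2
        rw [SU.smul_left, SU.smul_right, mul_eq_zero, mul_eq_zero] at this
        rcases this with h | h | h
        · exact absurd h hwe
        · exact absurd h ((map_ne_zero _).mpr hwe)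
        · exact h
  intro y hy
  set w₀ := T.cv g y with hw₀
  set w₁ := T.cv d y with hw₁
  have hyd : y = T.τ d w₀ + T.τ g w₁ := by
    have := T.ext (L := (LinearMap.id : V →ₗ[F] V)) (L' := (T.τ d).comp (T.cv g) + (T.τ g).comp (T.cv d))
      fun v z => by
        nth_rewrite 1 [plane_decomp hU hd hg hgd v]
        simp only [LinearMap.id_apply, LinearMap.add_apply, LinearMap.comp_apply, T.cv_tau, map_add, map_smul,
          LinearMap.smul_apply]
    exact DFunLike.congr_fun this y
  by_cases hli : LinearIndependent F ![w₀, w₁]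
  · obtain ⟨e, heS, he0, hee⟩ := exists_iso_of_two H.conj SW (Submodule.span F (Set.range ![w₀, w₁]))
      (by rw [finrank_span_eq_card hli, Fintype.card_fin])
    rw [Matrix.range_cons_cons_empty, Submodule.mem_span_pair] at heS
    obtain ⟨α, β, rfl⟩ := heS
    by_cases hα : α = 0
    · have hβ : β ≠ 0 := by rintro rfl; exact he0 (by simp [hα])
      have e1 : y = T.τ (β⁻¹ • g) (α • w₀ + β • w₁) + T.τ d w₀ := by
        rw [hyd, hα]
        simp only [map_smul, LinearMap.smul_apply, zero_smul, zero_add, smul_smul, inv_mul_cancel₀ hβ, mul_inv_cancel₀ hβ, one_smul]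
        abel
      rw [e1] at hy ⊢
      exact two _ _ _ _ hee hy
    · have e1 : y = T.τ (α⁻¹ • d) (α • w₀ + β • w₁) + T.τ (g - (α⁻¹ * β) • d) w₁ := by
        rw [hyd]
        simp only [map_add, map_sub, map_smul, LinearMap.sub_apply, LinearMap.smul_apply, smul_add, smul_smul,
          inv_mul_cancel₀ hα, mul_inv_cancel₀ hα, one_smul]
        match_scalars <;> ring
      rw [e1] at hy ⊢
      exact two _ _ _ _ hee hy
  · obtain ⟨a, b, hab, hne⟩ : ∃ a b : F, a • w₀ + b • w₁ = 0 ∧ ¬ (a = 0 ∧ b = 0) := by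
      rw [LinearIndependent.pair_iff] at hli
      push Not at hli
      obtain ⟨a, b, h1, h2⟩ := hli
      exact ⟨a, b, h1, fun h => h2 h.1 h.2⟩
    have key : ∀ u w, y = T.τ u w → y ∈ H.uCentres K := fun u w e => by
      rw [e] at hy ⊢
      exact pure u w ((form' T u w u w).symm.trans hy)
    by_cases ha : a = 0
    · have hb : b ≠ 0 := fun h => hne ⟨ha, h⟩
      rw [ha, zero_smul, zero_add, smul_eq_zero] at hab
      exact key d w₀ (by rw [hyd, hab.resolve_left hb, map_zero, add_zero])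
    · refine key (g - (a⁻¹ * b) • d) w₁ ?_
      have hw : w₀ = -((a⁻¹ * b) • w₁) := by
        have := congrArg (fun z => a⁻¹ • z) hab
        simp only [smul_add, smul_smul, inv_mul_cancel₀ ha, one_smul, smul_zero] at this
        exact eq_neg_of_add_eq_zero_left this
      rw [hyd, hw]
      simp only [map_neg, map_sub, map_smul, LinearMap.sub_apply, LinearMap.smul_apply]
      abel

end Herm

end TSpace

section Coatom

variable [Finite F] {V : Type v} [AddCommGroup V] [Module F V] [FiniteDimensional F V] [FiniteDimensional F U]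
  [FiniteDimensional F W] {H : HermSpace F V} {hH : H.σ = σ} (T : TSpace SU SW (ofHerm H hH))

theorem isCoatom_kronS_small [Nontrivial U] [Nontrivial W] (hU : Module.finrank F U = 2)
    (hW : Module.finrank F W = 3) (hd : 4 ≤ Module.finrank F V)
    (hk : ∃ κ : F, σ κ = κ ∧ κ ≠ 0 ∧ κ ≠ 1) : IsCoatom (kronS T) := by
  subst hH
  have hσ := H.conj
  obtain ⟨l, hl0, hl⟩ := hσ.exists_skew
  have hskew : ∃ l : F, l ≠ 0 ∧ H.σ l + 1 * l = 0 := ⟨l, hl0, by rw [one_mul, add_comm, hl]⟩
  have hisoU : ∃ d : U, d ≠ 0 ∧ SU.h d d = 0 := by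
    obtain ⟨d, -, hd0, hdd⟩ := exists_iso_of_two hσ SU ⊤ (by rw [finrank_top, hU])
    exact ⟨d, hd0, hdd⟩
  have hisoW : ∃ d : W, d ≠ 0 ∧ SW.h d d = 0 := by
    obtain ⟨d, -, hd0, hdd⟩ := exists_iso_of_two hσ SW ⊤ (by rw [finrank_top, hW]; norm_num)
    exact ⟨d, hd0, hdd⟩
  have D : TSpace.Data T := ⟨inferInstance, Or.inl (by omega), hskew, hisoW⟩
  have hcount : ∀ m : ℕ,
      Nat.card F ^ (Module.finrank F W - 2) < ringChar F ^ m → 5 ≤ m * (ringChar F - 1) := by
    intro m hm
    rw [hW, pow_one] at hm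
    let p := ringChar F
    have hp : p.Prime := CharP.char_is_prime F p
    haveI : Fact p.Prime := ⟨hp⟩
    haveI : Fintype F := Fintype.ofFinite F
    obtain ⟨n, -, hn⟩ := FiniteField.card F p
    have hc : Nat.card F = Nat.card (fixedField H.σ) ^ 2 := hσ.card_eq_sq
    rw [Nat.card_eq_fintype_card, hn] at hc hm
    have hnm : (n : ℕ) < m := (Nat.pow_lt_pow_iff_right hp.one_lt).mp hm
    -- the fixed field has more than two elements
    obtain ⟨κ, hκ, hκ0, hκ1⟩ := hk
    have h3 : 3 ≤ Nat.card (fixedField H.σ) := by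
      classical
      haveI : Fintype (fixedField H.σ) := Fintype.ofFinite _
      rw [Nat.card_eq_fintype_card]
      refine le_of_eq_of_le (Finset.card_eq_three.mpr
        ⟨0, 1, ⟨κ, hκ⟩, zero_ne_one, fun h => hκ0 (congrArg Subtype.val h).symm,
          fun h => hκ1 (congrArg Subtype.val h).symm, rfl⟩).symm (Finset.card_le_univ _)
    have h9 : 9 ≤ p ^ (n : ℕ) := hc ▸ Nat.pow_le_pow_left h3 2
    by_cases hp2 : p = 2
    · have : 3 < (n : ℕ) := by
        by_contra h
        have := Nat.pow_le_pow_right (n := p) hp.pos (Nat.le_of_not_lt h)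
        rw [hp2] at this h9
        omega
      show 5 ≤ m * (p - 1)
      rw [hp2]; omega
    · have h2 : 2 ≤ (n : ℕ) := by
        obtain ⟨k, hk'⟩ := (Nat.dvd_prime_pow hp).mp (hc ▸ dvd_pow_self (Nat.card (fixedField H.σ)) two_ne_zero)
        rcases hk' with ⟨hkn, hk'⟩
        have : p ^ (n : ℕ) = p ^ (2 * k) := by rw [hc, hk', ← pow_mul, mul_comm]
        have := Nat.pow_right_injective hp.two_le this
        have : k ≠ 0 := by rintro rfl; rw [hk', pow_zero] at h3; omega
        omega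
      show 5 ≤ m * (p - 1)
      have := hp.two_le
      calc 5 ≤ 3 * 2 := by norm_num
        _ ≤ m * (p - 1) := Nat.mul_le_mul (by omega) (by omega)
  refine isCoatom_kronS_of T D hd hisoU hcount fun K hmid hA => ?_
  refine TSpace.centres_of_pure T hU hW hisoU hisoW hk fun d e hdd hee => ?_
  by_cases hd0 : d = 0
  · rw [hd0, map_zero, LinearMap.zero_apply]; exact H.uCentres_zero K
  by_cases he0 : e = 0
  · rw [he0, map_zero]; exact H.uCentres_zero K
  have hy : H.h (T.τ d e) (T.τ d e) = 0 := (T.form d e d e).trans (by rw [hdd, zero_mul])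
  refine ⟨hy, fun c hc => ?_⟩
  obtain ⟨_, ⟨k, hk', rfl⟩, hkx⟩ := TSpace.pure_centre hmid hskew hk hσ.ne_id hU hisoU hA hd0 hdd he0 hee (l := c) (by rw [add_comm, hc])
  have hkeq : (⟨H.uT hy hc, H.uT_mem_SIsom hy hc⟩ : H.SIsom) = k :=
    Subtype.ext (H.isom_ext fun x => (H.uT_apply hy hc x).trans (hkx x).symm)
  rw [hkeq]
  exact hk'

end Coatom

end Cfsg.Lib.Classical.TensorF
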